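import Mathlib
set_option linter.all false

-- part: H262/JordanField
section
/-!
# Finite special Jordan division rings of the size of the module are fields

`comm_of_jordan`: let `S` be a space of `n × n` matrices over `F = ZMod p`, of dimension `n`, containing `1`, all of
whose nonzero members are invertible, and closed under `s, t ↦ s t s`.  Then `S` is commutative.
(The generic element of `S` has irreducible characteristic polynomial by the Chevalley–Warning theorem.)
-/

set_option autoImplicit false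

namespace Cfsg.Agent.H262.JordanField

open Matrix Polynomial

variable {F : Type*} [Field F] {n : ℕ}

/-- the generic matrix `∑ Xⱼ Aⱼ` -/
noncomputable def gen (A : Fin n → Matrix (Fin n) (Fin n) F) :
    Matrix (Fin n) (Fin n) (MvPolynomial (Fin n) F) :=
  ∑ j, (MvPolynomial.X j : MvPolynomial (Fin n) F) • (A j).map (MvPolynomial.C)

theorem gen_eval (A : Fin n → Matrix (Fin n) (Fin n) F) (c : Fin n → F) :
    (gen A).map (MvPolynomial.eval c) = ∑ j, c j • A j := by
  ext i k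
  simp [gen, Matrix.sum_apply, Matrix.map_apply, Matrix.smul_apply]

theorem totalDegree_entry (A : Fin n → Matrix (Fin n) (Fin n) F) (i k : Fin n) :
    (gen A i k).totalDegree ≤ 1 := by
  rw [gen, Matrix.sum_apply]
  refine MvPolynomial.totalDegree_finsetSum_le ?_
  intro j _
  rw [Matrix.smul_apply, Matrix.map_apply, smul_eq_mul]
  refine (MvPolynomial.totalDegree_mul _ _).trans ?_
  rw [MvPolynomial.totalDegree_C, add_zero]
  exact (MvPolynomial.totalDegree_X j).le

theorem totalDegree_det (A : Fin n → Matrix (Fin n) (Fin n) F) :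
    (gen A).det.totalDegree ≤ n := by
  rw [Matrix.det_apply]
  refine MvPolynomial.totalDegree_finsetSum_le ?_
  intro σ _
  rw [Units.smul_def, zsmul_eq_mul]
  refine (MvPolynomial.totalDegree_mul _ _).trans ?_
  have h1 : (((Equiv.Perm.sign σ : ℤˣ) : ℤ) : MvPolynomial (Fin n) F).totalDegree = 0 := by
    have : (((Equiv.Perm.sign σ : ℤˣ) : ℤ) : MvPolynomial (Fin n) F)
        = MvPolynomial.C (((Equiv.Perm.sign σ : ℤˣ) : ℤ) : F) := by simp
    rw [this, MvPolynomial.totalDegree_C]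
  rw [h1, zero_add]
  refine (MvPolynomial.totalDegree_finsetProd _ _).trans ?_
  calc ∑ i, (gen A (σ i) i).totalDegree ≤ ∑ _i : Fin n, 1 :=
        Finset.sum_le_sum (fun i _ => totalDegree_entry A _ _)
    _ = n := by simp

theorem no_factor [Finite F] (A : Fin n → Matrix (Fin n) (Fin n) F)
    (hinv : ∀ c : Fin n → F, c ≠ 0 → (∑ j, c j • A j).det ≠ 0)
    {μ ν : (MvPolynomial (Fin n) F)[X]} (hμ : μ.Monic) (hν : ν.Monic)
    (h : (gen A).charpoly = μ * ν) (hd : 1 ≤ μ.natDegree) (hd' : 1 ≤ ν.natDegree) : False := by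
  classical
  have := Fintype.ofFinite F
  obtain ⟨p, hp⟩ := CharP.exists F
  have hpp : p.Prime := (CharP.char_is_prime_or_zero F p).resolve_right (CharP.char_ne_zero_of_finite F p)
  have := Fact.mk hpp
  -- constant terms
  have hzero : ∀ {f : (MvPolynomial (Fin n) F)[X]}, f.Monic → f ∣ (gen A).charpoly →
      1 ≤ f.natDegree → MvPolynomial.eval 0 (f.coeff 0) = 0 := by
    intro f hf hdvd hdeg
    have h1 : f.map (MvPolynomial.eval 0) ∣ X ^ n := by
      have h2 := Polynomial.map_dvd (MvPolynomial.eval (0 : Fin n → F)) hdvd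
      rw [← Matrix.charpoly_map] at h2
      have h3 : (MvPolynomial.eval (0 : Fin n → F)).mapMatrix (gen A) = 0 := by
        have := gen_eval A 0
        simpa using this
      rw [RingHom.mapMatrix_apply] at h3
      rw [h3, Matrix.charpoly_zero, Fintype.card_fin] at h2
      exact h2
    obtain ⟨k, hk, hassoc⟩ := (dvd_prime_pow Polynomial.prime_X _).1 h1
    have h4 : f.map (MvPolynomial.eval 0) = X ^ k :=
      Polynomial.eq_of_monic_of_associated (hf.map _) (Polynomial.monic_X_pow k) hassoc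
    have h5 : k = f.natDegree := by
      have := congrArg Polynomial.natDegree h4
      rw [hf.natDegree_map, Polynomial.natDegree_X_pow] at this
      exact this.symm
    have h6 := congrArg (fun q => Polynomial.coeff q 0) h4
    simp only [Polynomial.coeff_map, Polynomial.coeff_X_pow] at h6
    rw [h6, if_neg (by omega)]
  set N := μ.coeff 0 with hN
  set N' := ν.coeff 0 with hN'
  have hN0 : MvPolynomial.eval 0 N = 0 := hzero hμ (h ▸ dvd_mul_right _ _) hd
  have hN'0 : MvPolynomial.eval 0 N' = 0 := hzero hν (h ▸ dvd_mul_left _ _) hd'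
  have hdet : (gen A).det = (-1) ^ n * (N * N') := by
    rw [Matrix.det_eq_sign_charpoly_coeff, h, Polynomial.mul_coeff_zero, Fintype.card_fin]
  have hevd : ∀ c : Fin n → F, MvPolynomial.eval c (gen A).det = (∑ j, c j • A j).det := by
    intro c
    rw [← gen_eval]
    exact (RingHom.map_det (MvPolynomial.eval c) (gen A))
  have hnn : n ≠ 0 := by
    rintro rfl
    have h1 := congrArg Polynomial.natDegree h
    rw [Matrix.charpoly_natDegree_eq_dim, Fintype.card_fin, hμ.natDegree_mul hν] at h1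
    omega
  have hn0 : 0 < n := Nat.pos_of_ne_zero hnn
  have hdet0 : (gen A).det ≠ 0 := by
    intro h0
    have h1 := hevd (Pi.single ⟨0, hn0⟩ 1)
    rw [h0, map_zero] at h1
    refine hinv (Pi.single ⟨0, hn0⟩ 1) ?_ h1.symm
    intro h2
    have := congrFun h2 ⟨0, hn0⟩
    simp at this
  have hNne : N ≠ 0 := by
    intro h0; apply hdet0; rw [hdet, h0]; ring
  have hN'ne : N' ≠ 0 := by
    intro h0; apply hdet0; rw [hdet, h0]; ring
  have hpos' : 1 ≤ N'.totalDegree := by
    by_contra hlt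
    have h0 : N'.totalDegree = 0 := by omega
    rw [MvPolynomial.totalDegree_eq_zero_iff_eq_C] at h0
    apply hN'ne
    rw [h0] at hN'0 ⊢
    rw [MvPolynomial.eval_C] at hN'0
    rw [hN'0, map_zero]
  have hdeg : N.totalDegree + N'.totalDegree ≤ n := by
    rw [← MvPolynomial.totalDegree_mul_of_isDomain hNne hN'ne]
    have h1 := totalDegree_det A
    rw [hdet] at h1
    have h2 : (N * N') = (-1) ^ n * ((-1) ^ n * (N * N')) := by
      rw [← mul_assoc, ← mul_pow]; simp
    rw [h2]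
    refine (MvPolynomial.totalDegree_mul _ _).trans ?_
    have h3 : ((-1 : MvPolynomial (Fin n) F) ^ n).totalDegree = 0 := by
      have : ((-1 : MvPolynomial (Fin n) F) ^ n) = MvPolynomial.C ((-1 : F) ^ n) := by simp
      rw [this, MvPolynomial.totalDegree_C]
    omega
  have hlt : N.totalDegree < Fintype.card (Fin n) := by
    rw [Fintype.card_fin]; omega
  have hcw := char_dvd_card_solutions p hlt
  have hcard : 1 < Fintype.card {x : Fin n → F // MvPolynomial.eval x N = 0} := by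
    have h1 : 0 < Fintype.card {x : Fin n → F // MvPolynomial.eval x N = 0} :=
      Fintype.card_pos_iff.2 ⟨⟨0, hN0⟩⟩
    have h2 := Nat.le_of_dvd h1 hcw
    have := hpp.two_le
    omega
  obtain ⟨⟨c, hc⟩, hne⟩ := Fintype.exists_ne_of_one_lt_card hcard ⟨0, hN0⟩
  have hc0 : c ≠ 0 := fun h0 => hne (by subst h0; rfl)
  apply hinv c hc0
  rw [← hevd, hdet, map_mul, map_mul, hc]
  ring

/-- the minimal polynomial of the generic matrix has degree `n` -/
theorem natDegree_minpoly [Finite F] (A : Fin n → Matrix (Fin n) (Fin n) F) (hn : n ≠ 0)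
    (hinv : ∀ c : Fin n → F, c ≠ 0 → (∑ j, c j • A j).det ≠ 0) :
    (minpoly (FractionRing (MvPolynomial (Fin n) F))
      ((gen A).map (algebraMap (MvPolynomial (Fin n) F)
        (FractionRing (MvPolynomial (Fin n) F))))).natDegree = n := by
  classical
  set R := MvPolynomial (Fin n) F with hR
  set Q := FractionRing R with hQ
  set xQ := (gen A).map (algebraMap R Q) with hxQ
  set m := minpoly Q xQ with hm
  have hchar : (gen A).charpoly.map (algebraMap R Q) = xQ.charpoly := by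
    rw [hxQ, ← Matrix.charpoly_map]
  have hdvd : m ∣ (gen A).charpoly.map (algebraMap R Q) := by
    rw [hchar]; exact Matrix.minpoly_dvd_charpoly xQ
  have hxint : IsIntegral Q xQ := Matrix.isIntegral xQ
  have hmm : m.Monic := minpoly.monic hxint
  obtain ⟨k, hk⟩ := hdvd
  have hcm : ((gen A).charpoly.map (algebraMap R Q)).Monic := (Matrix.charpoly_monic _).map _
  have hkm : k.Monic := by
    rw [hk] at hcm
    exact hmm.of_mul_monic_left hcm
  obtain ⟨μ, hμ⟩ := IsIntegrallyClosed.eq_map_mul_C_of_dvd Q (Matrix.charpoly_monic (gen A))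
    (Dvd.intro _ hk.symm)
  obtain ⟨ν, hν⟩ := IsIntegrallyClosed.eq_map_mul_C_of_dvd Q (Matrix.charpoly_monic (gen A))
    (Dvd.intro_left _ hk.symm)
  rw [hmm.leadingCoeff, map_one, mul_one] at hμ
  rw [hkm.leadingCoeff, map_one, mul_one] at hν
  have hinj : Function.Injective (algebraMap R Q) := IsFractionRing.injective R Q
  have hμm : μ.Monic := by
    rw [← hμ] at hmm
    exact Polynomial.monic_of_injective hinj hmm
  have hνm : ν.Monic := by
    rw [← hν] at hkm
    exact Polynomial.monic_of_injective hinj hkm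
  have hfac : (gen A).charpoly = μ * ν := by
    apply Polynomial.map_injective _ hinj
    rw [Polynomial.map_mul, hμ, hν, hk]
  have hdegμ : μ.natDegree = m.natDegree := by
    rw [← hμ, hμm.natDegree_map]
  have hsum : n = μ.natDegree + ν.natDegree := by
    have h1 := congrArg Polynomial.natDegree hfac
    rw [Matrix.charpoly_natDegree_eq_dim, Fintype.card_fin, hμm.natDegree_mul hνm] at h1
    exact h1
  have : Nontrivial (Matrix (Fin n) (Fin n) Q) := by
    have : Nonempty (Fin n) := ⟨⟨0, Nat.pos_of_ne_zero hn⟩⟩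
    infer_instance
  have hpos : 1 ≤ μ.natDegree := by
    rw [hdegμ]
    exact minpoly.natDegree_pos hxint
  by_contra hne
  have hν1 : 1 ≤ ν.natDegree := by
    rw [← hdegμ] at hne
    omega
  exact no_factor A hinv hμm hνm hfac hpos hν1

/-- A space of matrices of dimension `n` with all nonzero members invertible, containing `1` and closed
under `sts`, is commutative. -/
theorem comm_of_matrices [Finite F] (A : Fin n → Matrix (Fin n) (Fin n) F)
    (hinv : ∀ c : Fin n → F, c ≠ 0 → (∑ j, c j • A j).det ≠ 0)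
    (h1 : (1 : Matrix (Fin n) (Fin n) F) ∈ Submodule.span F (Set.range A))
    (hU : ∀ s ∈ Submodule.span F (Set.range A), ∀ t ∈ Submodule.span F (Set.range A),
      s * t * s ∈ Submodule.span F (Set.range A)) (i j : Fin n) :
    A i * A j = A j * A i := by
  classical
  set R := MvPolynomial (Fin n) F with hR
  set Q := FractionRing R with hQ
  set f : F →+* Q := (algebraMap R Q).comp MvPolynomial.C with hf
  set ι : Matrix (Fin n) (Fin n) F →+* Matrix (Fin n) (Fin n) Q := f.mapMatrix with hι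
  have hfinj : Function.Injective f := f.injective
  have hιinj : Function.Injective ι := by
    intro a b hab
    ext k l
    have := congrFun (congrFun hab k) l
    simp only [hι, RingHom.mapMatrix_apply, Matrix.map_apply] at this
    exact hfinj this
  set SQ : Submodule Q (Matrix (Fin n) (Fin n) Q) := Submodule.span Q (Set.range fun j => ι (A j))
    with hSQ
  have hιsmul : ∀ (c : F) (B : Matrix (Fin n) (Fin n) F), ι (c • B) = f c • ι B := by
    intro c B
    ext k l
    simp [hι, Matrix.map_apply, Matrix.smul_apply]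
  have hιmem : ∀ B ∈ Submodule.span F (Set.range A), ι B ∈ SQ := by
    intro B hB
    refine Submodule.span_induction ?_ ?_ ?_ ?_ hB
    · rintro _ ⟨k, rfl⟩
      exact Submodule.subset_span ⟨k, rfl⟩
    · rw [map_zero]; exact SQ.zero_mem
    · intro x y _ _ hx hy
      rw [map_add]; exact SQ.add_mem hx hy
    · intro c x _ hx
      rw [hιsmul]; exact SQ.smul_mem _ hx
  set xQ := (gen A).map (algebraMap R Q) with hxQ
  set y : Fin n → Q := fun j => algebraMap R Q (MvPolynomial.X j) with hy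
  have hxsum : xQ = ∑ j, y j • ι (A j) := by
    ext k l
    simp only [hxQ, gen, Matrix.sum_apply, Matrix.map_apply, Matrix.smul_apply, hι, hf, hy,
      smul_eq_mul, map_sum, map_mul, RingHom.mapMatrix_apply,
      RingHom.coe_comp, Function.comp_apply]
  -- polarisation
  have hpol : ∀ a b c : Fin n, A a * A b * A c + A c * A b * A a ∈ Submodule.span F (Set.range A) := by
    intro a b c
    have ha : A a ∈ Submodule.span F (Set.range A) := Submodule.subset_span ⟨a, rfl⟩
    have hb : A b ∈ Submodule.span F (Set.range A) := Submodule.subset_span ⟨b, rfl⟩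
    have hc : A c ∈ Submodule.span F (Set.range A) := Submodule.subset_span ⟨c, rfl⟩
    have h2 := Submodule.sub_mem _ (Submodule.sub_mem _ (hU _ (Submodule.add_mem _ ha hc) _ hb)
      (hU _ ha _ hb)) (hU _ hc _ hb)
    have h3 : (A a + A c) * A b * (A a + A c) - A a * A b * A a - A c * A b * A c
        = A a * A b * A c + A c * A b * A a := by
      noncomm_ring
    rwa [h3] at h2
  have hstep : ∀ (b : Fin n) (s : Finset (Fin n)),
      (∑ j ∈ s, y j • ι (A j)) * ι (A b) * (∑ j ∈ s, y j • ι (A j)) ∈ SQ := by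
    intro b s
    induction s using Finset.induction_on with
    | empty => simp
    | insert a s ha ih =>
      rw [Finset.sum_insert ha]
      set xs := ∑ j ∈ s, y j • ι (A j) with hxs
      have h2 : (y a • ι (A a) + xs) * ι (A b) * (y a • ι (A a) + xs)
          = xs * ι (A b) * xs + ((y a * y a) • ι (A a * A b * A a) +
            (y a • (ι (A a) * ι (A b) * xs + xs * ι (A b) * ι (A a)))) := by
        rw [map_mul, map_mul]
        simp only [add_mul, mul_add, smul_mul_assoc, mul_smul_comm, smul_add, smul_smul]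
        abel
      rw [h2]
      refine SQ.add_mem ih (SQ.add_mem (SQ.smul_mem _ (hιmem _ (hU _ (Submodule.subset_span ⟨a, rfl⟩) _
        (Submodule.subset_span ⟨b, rfl⟩)))) (SQ.smul_mem _ ?_))
      have h3 : ι (A a) * ι (A b) * xs + xs * ι (A b) * ι (A a)
          = ∑ j ∈ s, y j • ι (A a * A b * A j + A j * A b * A a) := by
        rw [hxs, Finset.mul_sum, Finset.sum_mul, Finset.sum_mul, ← Finset.sum_add_distrib]
        refine Finset.sum_congr rfl ?_
        intro j _
        simp only [map_add, map_mul, smul_mul_assoc, mul_smul_comm, smul_add]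
      rw [h3]
      exact SQ.sum_mem fun j _ => SQ.smul_mem _ (hιmem _ (hpol a b j))
  have hxx : ∀ z ∈ SQ, xQ * z * xQ ∈ SQ := by
    intro z hz
    refine Submodule.span_induction ?_ ?_ ?_ ?_ hz
    · rintro _ ⟨k, rfl⟩
      rw [hxsum]
      exact hstep k Finset.univ
    · simp
    · intro u v _ _ hu hv
      rw [mul_add, add_mul]; exact SQ.add_mem hu hv
    · intro c u _ hu
      rw [mul_smul_comm, smul_mul_assoc]; exact SQ.smul_mem _ hu
  have hpow : ∀ k : ℕ, xQ ^ k ∈ SQ := by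
    intro k
    induction k using Nat.strong_induction_on with
    | _ k ih =>
      match k, ih with
      | 0, _ => rw [pow_zero, ← map_one ι]; exact hιmem _ h1
      | 1, _ =>
        rw [pow_one, hxsum]
        exact SQ.sum_mem fun j _ => SQ.smul_mem _ (Submodule.subset_span ⟨j, rfl⟩)
      | (k + 2), ih =>
        have h2 : xQ ^ (k + 2) = xQ * xQ ^ k * xQ := by
          rw [pow_succ, pow_succ' xQ k]
        rw [h2]
        exact hxx _ (ih k (by omega))
  by_cases hn : n = 0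
  · subst hn; exact i.elim0
  have hdeg := natDegree_minpoly A hn hinv
  have hli := linearIndependent_pow (K := Q) xQ
  set m := (minpoly Q xQ).natDegree with hm
  have hmn : m = n := hdeg
  have hle : Submodule.span Q (Set.range fun k : Fin m => xQ ^ (k : ℕ)) ≤ SQ := by
    rw [Submodule.span_le]
    rintro _ ⟨k, rfl⟩
    exact hpow k
  have hfin1 : Module.finrank Q (Submodule.span Q (Set.range fun k : Fin m => xQ ^ (k : ℕ))) = m := by
    rw [finrank_span_eq_card hli, Fintype.card_fin]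
  have hfin2 : Module.finrank Q SQ ≤ n := by
    have := finrank_range_le_card (R := Q) (fun j => ι (A j))
    rwa [Fintype.card_fin] at this
  have heq : Submodule.span Q (Set.range fun k : Fin m => xQ ^ (k : ℕ)) = SQ := by
    apply Submodule.eq_of_le_of_finrank_le hle
    rw [hfin1, hmn]; exact hfin2
  have hcommx : ∀ z ∈ SQ, ∀ w ∈ SQ, z * w = w * z := by
    intro z hz w hw
    rw [← heq] at hz hw
    have hadj : ∀ u ∈ Submodule.span Q (Set.range fun k : Fin m => xQ ^ (k : ℕ)),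
        u ∈ Algebra.adjoin Q {xQ} := by
      intro u hu
      have h2 : Submodule.span Q (Set.range fun k : Fin m => xQ ^ (k : ℕ)) ≤
          Subalgebra.toSubmodule (Algebra.adjoin Q {xQ}) := by
        rw [Submodule.span_le]
        rintro _ ⟨k, rfl⟩
        exact Subalgebra.pow_mem _ (Algebra.self_mem_adjoin_singleton Q xQ) _
      exact h2 hu
    have h3 := (Algebra.isMulCommutative_adjoin Q (s := {xQ}) (by
      intro a ha b hb
      rw [Set.mem_singleton_iff] at ha hb
      rw [ha, hb])).is_comm.comm ⟨z, hadj z hz⟩ ⟨w, hadj w hw⟩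
    exact congrArg Subtype.val h3
  apply hιinj
  rw [map_mul, map_mul]
  exact hcommx _ (hιmem _ (Submodule.subset_span ⟨i, rfl⟩)) _ (hιmem _ (Submodule.subset_span ⟨j, rfl⟩))

/-- The same for spaces of endomorphisms of a finite `ZMod p`-space `K`, of the same order as `K`. -/
theorem comm_of_end {p : ℕ} [Fact p.Prime] {K : Type*} [AddCommGroup K] [Module (ZMod p) K] [Finite K]
    (S : Submodule (ZMod p) (Module.End (ZMod p) K)) (hcard : Nat.card S = Nat.card K)
    (h1 : (1 : Module.End (ZMod p) K) ∈ S) (hunit : ∀ s ∈ S, s ≠ 0 → IsUnit s)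
    (hU : ∀ s ∈ S, ∀ t ∈ S, s * t * s ∈ S) : ∀ s ∈ S, ∀ t ∈ S, s * t = t * s := by
  classical
  have : Module.Finite (ZMod p) K := Module.Finite.of_finite
  set n := Module.finrank (ZMod p) K with hn
  have hSn : Module.finrank (ZMod p) S = n := by
    have h2 := FiniteField.pow_finrank_eq_natCard p K
    have : Finite S := by
      apply Nat.finite_of_card_ne_zero
      rw [hcard]; exact Nat.card_pos.ne'
    have h3 := FiniteField.pow_finrank_eq_natCard p S
    rw [hcard, ← h2] at h3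
    exact Nat.pow_right_injective (Fact.out : p.Prime).two_le h3
  have : Module.Finite (ZMod p) S := by
    have : Finite S := by
      apply Nat.finite_of_card_ne_zero
      rw [hcard]; exact Nat.card_pos.ne'
    exact Module.Finite.of_finite
  let b := Module.finBasis (ZMod p) K
  let c := Module.finBasisOfFinrankEq (ZMod p) S hSn
  let T := LinearMap.toMatrixAlgEquiv b
  let A : Fin n → Matrix (Fin n) (Fin n) (ZMod p) := fun j => T (c j : Module.End (ZMod p) K)
  have hspan : Submodule.span (ZMod p) (Set.range A) = S.map T.toLinearMap := by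
    have h2 : Submodule.span (ZMod p) (Set.range fun j => (c j : Module.End (ZMod p) K)) = S := by
      have h3 := c.span_eq
      have h4 := congrArg (Submodule.map S.subtype) h3
      rw [Submodule.map_span, Submodule.map_top, Submodule.range_subtype, ← Set.range_comp] at h4
      exact h4
    conv_rhs => rw [← h2]
    rw [Submodule.map_span, ← Set.range_comp]
    rfl
  have hinv : ∀ d : Fin n → ZMod p, d ≠ 0 → (∑ j, d j • A j).det ≠ 0 := by
    intro d hd
    have h2 : ∑ j, d j • A j = T ((∑ j, d j • c j : S) : Module.End (ZMod p) K) := by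
      simp [A, map_sum]
    rw [h2]
    have h3 : (∑ j, d j • c j : S) ≠ 0 := by
      intro h0
      apply hd
      have := Fintype.linearIndependent_iff.1 c.linearIndependent d h0
      exact funext this
    have h4 := hunit _ (∑ j, d j • c j : S).2 (fun h => h3 (Subtype.ext h))
    have h5 := h4.map T
    exact ((Matrix.isUnit_iff_isUnit_det _).1 h5).ne_zero
  have hmem : ∀ s, s ∈ S ↔ T s ∈ Submodule.span (ZMod p) (Set.range A) := by
    intro s
    rw [hspan]
    constructor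
    · intro hs; exact ⟨s, hs, rfl⟩
    · rintro ⟨t, ht, hts⟩
      have : t = s := T.injective hts
      rwa [← this]
  have hcomm := comm_of_matrices A hinv (by
    rw [← map_one T]; exact (hmem 1).1 h1) (by
    intro s hs t ht
    obtain ⟨s, rfl⟩ := T.surjective s
    obtain ⟨t, rfl⟩ := T.surjective t
    rw [← map_mul, ← map_mul]
    exact (hmem _).1 (hU s ((hmem s).2 hs) t ((hmem t).2 ht)))
  -- commutativity of the span
  have hspcomm : ∀ x ∈ Submodule.span (ZMod p) (Set.range A),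
      ∀ y ∈ Submodule.span (ZMod p) (Set.range A), x * y = y * x := by
    intro x hx y hy
    refine Submodule.span_induction ?_ ?_ ?_ ?_ hx
    · rintro _ ⟨i, rfl⟩
      refine Submodule.span_induction ?_ ?_ ?_ ?_ hy
      · rintro _ ⟨j, rfl⟩
        exact hcomm i j
      · simp
      · intro u v _ _ hu hv
        rw [mul_add, add_mul, hu, hv]
      · intro d u _ hu
        rw [mul_smul_comm, smul_mul_assoc, hu]
    · simp
    · intro u v _ _ hu hv
      rw [mul_add, add_mul, hu, hv]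
    · intro d u _ hu
      rw [mul_smul_comm, smul_mul_assoc, hu]
  intro s hs t ht
  apply T.injective
  rw [map_mul, map_mul]
  exact hspcomm _ ((hmem s).1 hs) _ ((hmem t).1 ht)

/-- `S` is closed under multiplication. -/
theorem mul_mem_of_end {p : ℕ} [Fact p.Prime] {K : Type*} [AddCommGroup K] [Module (ZMod p) K]
    [Finite K] (S : Submodule (ZMod p) (Module.End (ZMod p) K)) (hcard : Nat.card S = Nat.card K)
    (h1 : (1 : Module.End (ZMod p) K) ∈ S) (hunit : ∀ s ∈ S, s ≠ 0 → IsUnit s)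
    (hU : ∀ s ∈ S, ∀ t ∈ S, s * t * s ∈ S) : ∀ s ∈ S, ∀ t ∈ S, s * t ∈ S := by
  classical
  have hcomm := comm_of_end S hcard h1 hunit hU
  have hsq : ∀ s ∈ S, s * s ∈ S := by
    intro s hs
    have := hU s hs 1 h1
    rwa [mul_one] at this
  intro s hs t ht
  rcases (Fact.out : p.Prime).eq_two_or_odd with hp | hp
  · -- every element is a square
    subst hp
    have : Finite S := by
      apply Nat.finite_of_card_ne_zero
      rw [hcard]; exact Nat.card_pos.ne'
    let f : S → S := fun u => ⟨u * u, hsq u u.2⟩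
    have hf : Function.Injective f := by
      intro u v huv
      have h2 : (u : Module.End (ZMod 2) K) * u = v * v := congrArg Subtype.val huv
      have h3 : ((u : Module.End (ZMod 2) K) + v) * (u + v) = 0 := by
        have h5 : (v : Module.End (ZMod 2) K) * u = u * v := hcomm v v.2 u u.2
        have h6 : ((u : Module.End (ZMod 2) K) + v) * (u + v) = u * u + v * v + (u * v + u * v) := by
          rw [mul_add, add_mul, add_mul, h5]; abel
        rw [h6, h2, CharTwo.add_self_eq_zero' (((v : Module.End (ZMod 2) K) *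
          (v : Module.End (ZMod 2) K) : Module.End (ZMod 2) K)),
          CharTwo.add_self_eq_zero' (((u : Module.End (ZMod 2) K) *
          (v : Module.End (ZMod 2) K) : Module.End (ZMod 2) K)), add_zero]
      by_contra hne
      have h4 : (u : Module.End (ZMod 2) K) + v ≠ 0 := by
        intro h0
        apply hne
        apply Subtype.ext
        have h7 : (u : Module.End (ZMod 2) K) = -v := eq_neg_of_add_eq_zero_left h0
        rw [h7]
        have h8 := CharTwo.add_self_eq_zero' (v : Module.End (ZMod 2) K)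
        exact (eq_neg_of_add_eq_zero_left h8).symm
      have h5 := hunit _ (S.add_mem u.2 v.2) h4
      have h6 := h5.mul h5
      rw [h3] at h6
      rcases subsingleton_or_nontrivial (Module.End (ZMod 2) K) with hsub | hnt
      · exact h4 (Subsingleton.elim _ _)
      · exact not_isUnit_zero h6
    obtain ⟨u, hu⟩ := (Finite.injective_iff_surjective.1 hf) ⟨s, hs⟩
    have h2 : (u : Module.End (ZMod 2) K) * u = s := congrArg Subtype.val hu
    rw [← h2, mul_assoc, hcomm u u.2 t ht, ← mul_assoc]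
    exact hU u u.2 t ht
  · have h2 : (s + t) * (s + t) - s * s - t * t ∈ S :=
      S.sub_mem (S.sub_mem (hsq _ (S.add_mem hs ht)) (hsq s hs)) (hsq t ht)
    have h3 : (s + t) * (s + t) - s * s - t * t = (2 : ZMod p) • (s * t) := by
      rw [mul_add, add_mul, add_mul, hcomm t ht s hs, two_smul]; abel
    rw [h3] at h2
    have h4 : (2 : ZMod p) ≠ 0 := by
      intro h0
      have : ((2 : ℕ) : ZMod p) = 0 := by exact_mod_cast h0
      rw [ZMod.natCast_eq_zero_iff] at this
      have := Nat.le_of_dvd (by norm_num) this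
      have := (Fact.out : p.Prime).two_le
      omega
    have h5 := S.smul_mem (2 : ZMod p)⁻¹ h2
    rwa [smul_smul, inv_mul_cancel₀ h4, one_smul] at h5
where
  CharTwo.add_self_eq_zero' {K : Type _} [AddCommGroup K] [Module (ZMod 2) K]
      (x : Module.End (ZMod 2) K) : x + x = 0 := by
    rw [← two_smul (ZMod 2) x]
    have : (2 : ZMod 2) = 0 := by decide
    rw [this, zero_smul]

/-- Hua's identity for a pair of additive groups of maps closed under inverses. -/
theorem hua {p : ℕ} {K K' : Type*} [AddCommGroup K] [Module (ZMod p) K]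
    [AddCommGroup K'] [Module (ZMod p) K']
    (Φ : Submodule (ZMod p) (K' →ₗ[ZMod p] K)) (Ψ : Submodule (ZMod p) (K →ₗ[ZMod p] K'))
    (hΦ : ∀ φ ∈ Φ, φ ≠ 0 → ∃ ψ ∈ Ψ, φ ∘ₗ ψ = LinearMap.id ∧ ψ ∘ₗ φ = LinearMap.id)
    (hΨ : ∀ ψ ∈ Ψ, ψ ≠ 0 → ∃ φ ∈ Φ, φ ∘ₗ ψ = LinearMap.id ∧ ψ ∘ₗ φ = LinearMap.id)
    (φ : K' →ₗ[ZMod p] K) (hφ : φ ∈ Φ) (ψ : K →ₗ[ZMod p] K') (hψ : ψ ∈ Ψ) :
    φ ∘ₗ ψ ∘ₗ φ ∈ Φ := by
  by_cases hφ0 : φ = 0
  · rw [hφ0]; simp
  by_cases hψ0 : ψ = 0
  · rw [hψ0]; simp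
  obtain ⟨φ', hφ', hφ1, hφ2⟩ := hΦ φ hφ hφ0
  obtain ⟨ψ', hψ', hψ1, hψ2⟩ := hΨ ψ hψ hψ0
  -- `ψ' = ψ⁻¹`, `δ = ψ⁻¹ - φ`
  set δ := ψ' - φ with hδ
  by_cases hδ0 : δ = 0
  · have : ψ' = φ := sub_eq_zero.1 hδ0
    rw [← LinearMap.comp_assoc, ← this, hψ1, LinearMap.id_comp]; exact hψ'
  obtain ⟨δ', hδ', hδ1, hδ2⟩ := hΦ δ (Φ.sub_mem hψ' hφ) hδ0
  -- the inverse of `φ' + δ'` is `δ ψ φ`
  have hinv1 : (δ ∘ₗ ψ ∘ₗ φ) ∘ₗ (φ' + δ') = LinearMap.id := by
    have e1 : (δ ∘ₗ ψ ∘ₗ φ) ∘ₗ (φ' + δ') = δ ∘ₗ ψ ∘ₗ (LinearMap.id + φ ∘ₗ δ') := by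
      rw [LinearMap.comp_assoc, LinearMap.comp_assoc, LinearMap.comp_add, hφ1]
    have e2 : (LinearMap.id : K →ₗ[ZMod p] K) + φ ∘ₗ δ' = ψ' ∘ₗ δ' := by
      rw [← hδ1, ← LinearMap.add_comp, hδ, sub_add_cancel]
    rw [e1, e2, ← LinearMap.comp_assoc δ' ψ' ψ, hψ2, LinearMap.id_comp, hδ1]
  have hne : φ' + δ' ≠ 0 := by
    intro h0
    rw [h0, LinearMap.comp_zero] at hinv1
    apply hφ0
    ext x
    have := LinearMap.congr_fun hinv1 (φ x)
    simpa using this.symm
  obtain ⟨ε, hε, hε1, hε2⟩ := hΨ _ (Ψ.add_mem hφ' hδ') hne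
  have hεeq : ε = δ ∘ₗ ψ ∘ₗ φ := by
    calc ε = LinearMap.id ∘ₗ ε := (LinearMap.id_comp _).symm
      _ = ((δ ∘ₗ ψ ∘ₗ φ) ∘ₗ (φ' + δ')) ∘ₗ ε := by rw [hinv1]
      _ = (δ ∘ₗ ψ ∘ₗ φ) ∘ₗ ((φ' + δ') ∘ₗ ε) := by rw [LinearMap.comp_assoc]
      _ = δ ∘ₗ ψ ∘ₗ φ := by rw [hε2, LinearMap.comp_id]
  have h3 : φ ∘ₗ ψ ∘ₗ φ = φ - ε := by
    rw [hεeq, hδ, LinearMap.sub_comp, ← LinearMap.comp_assoc φ ψ ψ', hψ1, LinearMap.id_comp]
    abel
  rw [h3]
  exact Φ.sub_mem hφ hε

/-- **Coordinates.** Two mutually inverse additive groups `Φ ⊆ Hom(K', K)`, `Ψ ⊆ Hom(K, K')` of order `|K|` are the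
multiplications by the elements of a field `F`, after identifying `K` and `K'` with `F`. -/
theorem exists_field {p : ℕ} [Fact p.Prime] {K K' : Type*} [AddCommGroup K] [Module (ZMod p) K]
    [AddCommGroup K'] [Module (ZMod p) K'] [Finite K] [Finite K']
    (Φ : Submodule (ZMod p) (K' →ₗ[ZMod p] K)) (Ψ : Submodule (ZMod p) (K →ₗ[ZMod p] K'))
    (hK : 1 < Nat.card K) (hcard : Nat.card Φ = Nat.card K)
    (hΦ : ∀ φ ∈ Φ, φ ≠ 0 → ∃ ψ ∈ Ψ, φ ∘ₗ ψ = LinearMap.id ∧ ψ ∘ₗ φ = LinearMap.id)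
    (hΨ : ∀ ψ ∈ Ψ, ψ ≠ 0 → ∃ φ ∈ Φ, φ ∘ₗ ψ = LinearMap.id ∧ ψ ∘ₗ φ = LinearMap.id) :
    ∃ (F : Type) (_ : Field F) (_ : Fintype F) (e : K ≃+ F) (e' : K' ≃+ F),
      Fintype.card F = Nat.card K ∧
      (∀ φ ∈ Φ, ∃ c : F, ∀ k', e (φ k') = c * e' k') ∧
      (∀ c : F, ∃ φ ∈ Φ, ∀ k', e (φ k') = c * e' k') ∧
      (∀ ψ ∈ Ψ, ∃ c : F, ∀ k, e' (ψ k) = c * e k) ∧
      (∀ c : F, ∃ ψ ∈ Ψ, ∀ k, e' (ψ k) = c * e k) := by
  classical
  have : Finite Φ := by
    apply Nat.finite_of_card_ne_zero; rw [hcard]; omega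
  obtain ⟨φ₀, hφ₀, hφ₀0⟩ : ∃ φ ∈ Φ, φ ≠ 0 := by
    by_contra hcon
    push Not at hcon
    have : Subsingleton Φ := ⟨fun a b => Subtype.ext ((hcon a a.2).trans (hcon b b.2).symm)⟩
    rw [← hcard, Nat.card_of_subsingleton (0 : Φ)] at hK
    omega
  obtain ⟨ψ₀, hψ₀, h01, h02⟩ := hΦ φ₀ hφ₀ hφ₀0
  have hua1 := hua Φ Ψ hΦ hΨ
  have hua2 := hua Ψ Φ (fun ψ h h0 => by
    obtain ⟨φ, h1, h2, h3⟩ := hΨ ψ h h0; exact ⟨φ, h1, h3, h2⟩) (fun φ h h0 => by
    obtain ⟨ψ, h1, h2, h3⟩ := hΦ φ h h0; exact ⟨ψ, h1, h3, h2⟩)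
  -- the Jordan algebra
  let S : Submodule (ZMod p) (Module.End (ZMod p) K) :=
    Φ.comap (LinearMap.lcomp (ZMod p) K φ₀)
  have hmemS : ∀ s : Module.End (ZMod p) K, s ∈ S ↔ s ∘ₗ φ₀ ∈ Φ := fun s => Iff.rfl
  let eS : S ≃ Φ :=
    { toFun := fun s => ⟨s.1 ∘ₗ φ₀, s.2⟩
      invFun := fun φ => ⟨φ.1 ∘ₗ ψ₀, by
        rw [hmemS, LinearMap.comp_assoc, h02, LinearMap.comp_id]; exact φ.2⟩
      left_inv := fun s => by
        apply Subtype.ext
        show (s.1 ∘ₗ φ₀) ∘ₗ ψ₀ = s.1
        rw [LinearMap.comp_assoc, h01, LinearMap.comp_id]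
      right_inv := fun φ => by
        apply Subtype.ext
        show (φ.1 ∘ₗ ψ₀) ∘ₗ φ₀ = φ.1
        rw [LinearMap.comp_assoc, h02, LinearMap.comp_id] }
  have hScard : Nat.card S = Nat.card K := by rw [Nat.card_congr eS, hcard]
  have h1S : (1 : Module.End (ZMod p) K) ∈ S := by
    rw [hmemS]
    have : (1 : Module.End (ZMod p) K) ∘ₗ φ₀ = φ₀ := LinearMap.id_comp _
    rw [this]; exact hφ₀
  have hunit : ∀ s ∈ S, s ≠ 0 → IsUnit s := by
    intro s hs hs0
    have h2 : s ∘ₗ φ₀ ≠ 0 := by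
      intro h0
      apply hs0
      calc s = (s ∘ₗ φ₀) ∘ₗ ψ₀ := by rw [LinearMap.comp_assoc, h01, LinearMap.comp_id]
        _ = 0 := by rw [h0, LinearMap.zero_comp]
    obtain ⟨ψ, _, h3, h4⟩ := hΦ _ hs h2
    have h5 : s * (φ₀ ∘ₗ ψ) = 1 := by
      show s ∘ₗ (φ₀ ∘ₗ ψ) = LinearMap.id
      rw [← LinearMap.comp_assoc]
      exact h3
    have hfin : Finite K := inferInstance
    have hmf : Module.Finite (ZMod p) K := Module.Finite.of_finite
    exact IsUnit.of_mul_eq_one _ h5
  have hU : ∀ s ∈ S, ∀ t ∈ S, s * t * s ∈ S := by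
    intro s hs t ht
    rw [hmemS] at hs ht ⊢
    have h2 : ψ₀ ∘ₗ (t ∘ₗ φ₀) ∘ₗ ψ₀ ∈ Ψ := hua2 ψ₀ hψ₀ _ ht
    have h3 := hua1 _ hs _ h2
    have h4 : (s * t * s) ∘ₗ φ₀
        = (s ∘ₗ φ₀) ∘ₗ (ψ₀ ∘ₗ (t ∘ₗ φ₀) ∘ₗ ψ₀) ∘ₗ (s ∘ₗ φ₀) := by
      have h5 : ∀ x, φ₀ (ψ₀ x) = x := fun x => LinearMap.congr_fun h01 x
      ext x
      simp [h5]
    rw [h4]; exact h3
  have hcomm := comm_of_end S hScard h1S hunit hU
  have hmul := mul_mem_of_end S hScard h1S hunit hU
  -- the field
  let F₀ : Subalgebra (ZMod p) (Module.End (ZMod p) K) :=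
    { carrier := S
      mul_mem' := fun {a b} ha hb => hmul a ha b hb
      one_mem' := h1S
      add_mem' := fun {a b} ha hb => S.add_mem ha hb
      zero_mem' := S.zero_mem
      algebraMap_mem' := fun r => by
        rw [Algebra.algebraMap_eq_smul_one]; exact S.smul_mem _ h1S }
  have hF₀mem : ∀ s, s ∈ F₀ ↔ s ∈ S := fun s => Iff.rfl
  let _ : CommRing F₀ := { (inferInstance : Ring F₀) with
    mul_comm := fun a b => Subtype.ext (hcomm a a.2 b b.2) }
  have hnt : Nontrivial K := (Finite.one_lt_card_iff_nontrivial).1 hK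
  have : Nontrivial (Module.End (ZMod p) K) := inferInstance
  have : Nontrivial F₀ := inferInstance
  have hnzd : NoZeroDivisors F₀ := by
    constructor
    intro a b hab
    by_contra hcon
    push Not at hcon
    have h2 := hunit a a.2 (fun h => hcon.1 (Subtype.ext h))
    have h3 := hunit b b.2 (fun h => hcon.2 (Subtype.ext h))
    have h4 := h2.mul h3
    have h5 : (a : Module.End (ZMod p) K) * b = 0 := congrArg Subtype.val hab
    rw [h5] at h4
    exact not_isUnit_zero h4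
  have : IsDomain F₀ := NoZeroDivisors.to_isDomain F₀
  have hSfin : Finite S := by
    apply Nat.finite_of_card_ne_zero; rw [hScard]; omega
  have : Finite F₀ := hSfin
  let _ : Fintype F₀ := Fintype.ofFinite F₀
  let _ : Field F₀ := Fintype.fieldOfDomain F₀
  set n := Module.finrank (ZMod p) K with hn
  have hcardn : p ^ n = Nat.card K := FiniteField.pow_finrank_eq_natCard p K
  have hn0 : n ≠ 0 := by
    intro h0
    rw [h0, pow_zero] at hcardn
    omega
  let F := GaloisField p n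
  let _ : Fintype F := Fintype.ofFinite F
  have hFcard : Fintype.card F = Nat.card K := by
    rw [← Nat.card_eq_fintype_card, GaloisField.card p n hn0, hcardn]
  have hF₀card : Fintype.card F₀ = Nat.card K := by
    rw [← Nat.card_eq_fintype_card]; exact hScard
  let ι : F₀ ≃+* F := FiniteField.ringEquivOfCardEq (hF₀card.trans hFcard.symm)
  -- identification of `K` with the field
  obtain ⟨k₀, hk₀⟩ := exists_ne (0 : K)
  let ev : F₀ →+ K :=
    { toFun := fun s => (s : Module.End (ZMod p) K) k₀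
      map_zero' := by simp
      map_add' := fun a b => by simp }
  have hevinj : Function.Injective ev := by
    rw [injective_iff_map_eq_zero]
    intro s hs
    by_contra hs0
    have h2 := hunit s s.2 (fun h => hs0 (Subtype.ext h))
    have h3 := (Module.End.isUnit_iff _).1 h2
    apply hk₀
    apply h3.1
    rw [map_zero]
    exact hs
  have hevbij : Function.Bijective ev := by
    let _ : Fintype K := Fintype.ofFinite K
    rw [Fintype.bijective_iff_injective_and_card]
    exact ⟨hevinj, by rw [hF₀card, Nat.card_eq_fintype_card]⟩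
  let eK : F₀ ≃+ K := AddEquiv.ofBijective ev hevbij
  let e : K ≃+ F := eK.symm.trans ι.toAddEquiv
  have he : ∀ (s : F₀) (k : K), e ((s : Module.End (ZMod p) K) k) = ι s * e k := by
    intro s k
    obtain ⟨t, rfl⟩ := eK.surjective k
    have h2 : (s : Module.End (ZMod p) K) (eK t) = eK (s * t) := rfl
    show ι (eK.symm ((s : Module.End (ZMod p) K) (eK t))) = ι s * ι (eK.symm (eK t))
    rw [h2, AddEquiv.symm_apply_apply, AddEquiv.symm_apply_apply, map_mul]
  let eφ : K' ≃+ K :=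
    { toFun := φ₀
      invFun := ψ₀
      left_inv := fun x => LinearMap.congr_fun h02 x
      right_inv := fun x => LinearMap.congr_fun h01 x
      map_add' := fun a b => map_add _ _ _ }
  let e' : K' ≃+ F := eφ.trans e
  have he' : ∀ k', e' k' = e (φ₀ k') := fun k' => rfl
  refine ⟨F, inferInstance, inferInstance, e, e', hFcard, ?_, ?_, ?_, ?_⟩
  · intro φ hφ
    have h2 : φ ∘ₗ ψ₀ ∈ S := by
      rw [hmemS, LinearMap.comp_assoc, h02, LinearMap.comp_id]; exact hφ
    refine ⟨ι ⟨φ ∘ₗ ψ₀, h2⟩, fun k' => ?_⟩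
    rw [he', ← he]
    congr 1
    show φ k' = φ (ψ₀ (φ₀ k'))
    have : ψ₀ (φ₀ k') = k' := LinearMap.congr_fun h02 k'
    rw [this]
  · intro c
    obtain ⟨s, rfl⟩ := ι.surjective c
    exact ⟨s.1 ∘ₗ φ₀, s.2, fun k' => by rw [he', ← he]; rfl⟩
  · intro ψ hψ
    by_cases hψ0 : ψ = 0
    · exact ⟨0, fun k => by rw [hψ0, zero_mul, LinearMap.zero_apply, map_zero]⟩
    have h2 : φ₀ ∘ₗ ψ ∈ S := by
      rw [hmemS, LinearMap.comp_assoc]
      exact hua1 φ₀ hφ₀ ψ hψ
    refine ⟨ι ⟨φ₀ ∘ₗ ψ, h2⟩, fun k => ?_⟩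
    rw [← he, he']
    rfl
  · intro c
    obtain ⟨s, rfl⟩ := ι.surjective c
    refine ⟨ψ₀ ∘ₗ (s.1 ∘ₗ φ₀) ∘ₗ ψ₀, hua2 ψ₀ hψ₀ _ s.2, fun k => ?_⟩
    rw [he', ← he]
    have h5 : ∀ x, φ₀ (ψ₀ x) = x := fun x => LinearMap.congr_fun h01 x
    congr 1
    simp [h5]

end Cfsg.Agent.H262.JordanField
end

-- part: H262/Pair
section
/-!
# Two opposite quadratic groups generate `SL₂(F)`

`P` acts on the finite elementary abelian group `V` (written additively), `P = ⟨A, B⟩`, `A` and `B` act quadratically,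
`V = C_V(A) + C_V(B)`, and every nontrivial `b ∈ B` maps `C_V(A)` onto a conjugate `a C_V(B)`, `a ∈ A`.  Then
`P` acts on `V / C_V(P)` as `SL₂(F)` on `F²`, `|F| = |A|`.
-/

set_option autoImplicit false

namespace Cfsg.Agent.H262.Pair

/-- the fixed points of `A` -/
def fix {P : Type*} (V : Type*) [Group P] [AddCommGroup V] [DistribMulAction P V] (A : Subgroup P) :
    AddSubgroup V where
  carrier := {v | ∀ a ∈ A, a • v = v}
  zero_mem' := fun a _ => smul_zero a
  add_mem' := fun {v w} hv hw a ha => by rw [smul_add, hv a ha, hw a ha]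
  neg_mem' := fun {v} hv a ha => by rw [smul_neg, hv a ha]

theorem mem_fix {P V : Type*} [Group P] [AddCommGroup V] [DistribMulAction P V] {A : Subgroup P}
    {v : V} : v ∈ fix V A ↔ ∀ a ∈ A, a • v = v := Iff.rfl

theorem fix_anti {P V : Type*} [Group P] [AddCommGroup V] [DistribMulAction P V]
    {A B : Subgroup P} (h : A ≤ B) : fix V B ≤ fix V A := fun _ hv a ha => hv a (h ha)

theorem fix_sup {P V : Type*} [Group P] [AddCommGroup V] [DistribMulAction P V]
    (A B : Subgroup P) : fix V (A ⊔ B) = fix V A ⊓ fix V B := by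
  apply le_antisymm
  · exact le_inf (fix_anti le_sup_left) (fix_anti le_sup_right)
  · rintro v ⟨hA, hB⟩ g hg
    have h1 : A ⊔ B ≤ MulAction.stabilizer P v :=
      sup_le (fun a ha => hA a ha) (fun b hb => hB b hb)
    exact h1 hg

/-- `SL₂(F)` is generated by the upper and lower unitriangular matrices. -/
theorem sl2_gen {F : Type*} [Field F] (H : Subgroup (Matrix.SpecialLinearGroup (Fin 2) F))
    (hup : ∀ c : F, ∀ m : Matrix.SpecialLinearGroup (Fin 2) F,
      (m : Matrix (Fin 2) (Fin 2) F) = !![1, c; 0, 1] → m ∈ H)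
    (hlow : ∀ c : F, ∀ m : Matrix.SpecialLinearGroup (Fin 2) F,
      (m : Matrix (Fin 2) (Fin 2) F) = !![1, 0; c, 1] → m ∈ H) : H = ⊤ := by
  classical
  have key : ∀ m : Matrix.SpecialLinearGroup (Fin 2) F, m.1 1 0 ≠ 0 → m ∈ H := by
    intro m hm
    let U1 : Matrix.SpecialLinearGroup (Fin 2) F :=
      ⟨!![1, (m.1 0 0 - 1) / m.1 1 0; 0, 1], by simp [Matrix.det_fin_two]⟩
    let L : Matrix.SpecialLinearGroup (Fin 2) F :=
      ⟨!![1, 0; m.1 1 0, 1], by simp [Matrix.det_fin_two]⟩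
    let U2 : Matrix.SpecialLinearGroup (Fin 2) F :=
      ⟨!![1, (m.1 1 1 - 1) / m.1 1 0; 0, 1], by simp [Matrix.det_fin_two]⟩
    have hdet : m.1 0 0 * m.1 1 1 - m.1 0 1 * m.1 1 0 = 1 := by
      rw [← Matrix.det_fin_two]; exact m.2
    have h1 : m = U1 * L * U2 := by
      apply Subtype.ext
      show m.1 = !![1, (m.1 0 0 - 1) / m.1 1 0; 0, 1] * !![1, 0; m.1 1 0, 1] *
        !![1, (m.1 1 1 - 1) / m.1 1 0; 0, 1]
      ext i j
      fin_cases i <;> fin_cases j
      · simp [Matrix.mul_apply, Fin.sum_univ_two]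
        field_simp
        ring
      · simp [Matrix.mul_apply, Fin.sum_univ_two]
        field_simp
        linear_combination (-1 : F) * hdet
      · simp [Matrix.mul_apply, Fin.sum_univ_two]
      · simp [Matrix.mul_apply, Fin.sum_univ_two]
        field_simp
        ring
    rw [h1]
    exact H.mul_mem (H.mul_mem (hup _ U1 rfl) (hlow _ L rfl)) (hup _ U2 rfl)
  rw [eq_top_iff]
  intro m _
  by_cases hm : m.1 1 0 = 0
  · let L : Matrix.SpecialLinearGroup (Fin 2) F :=
      ⟨!![1, 0; 1, 1], by simp [Matrix.det_fin_two]⟩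
    have hdet : m.1 0 0 * m.1 1 1 - m.1 0 1 * m.1 1 0 = 1 := by
      rw [← Matrix.det_fin_two]; exact m.2
    have h2 : (m * L).1 1 0 ≠ 0 := by
      have h3 : (m * L).1 1 0 = m.1 1 0 + m.1 1 1 := by
        show (m.1 * (!![1, 0; 1, 1] : Matrix (Fin 2) (Fin 2) F)) 1 0 = _
        simp [Matrix.mul_apply, Fin.sum_univ_two]
      rw [h3, hm, zero_add]
      intro h4
      rw [hm, h4] at hdet
      simp at hdet
    have h4 := key _ h2
    have h5 : m = (m * L) * L⁻¹ := by group
    rw [h5]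
    exact H.mul_mem h4 (H.inv_mem (hlow _ L rfl))
  · exact key m hm

section Maps

variable {P V : Type*} [Group P] [AddCommGroup V] [DistribMulAction P V]
  {p : ℕ} [Fact p.Prime] (A B : Subgroup P) (Y Y' V0 : AddSubgroup V)

/-- the map `y' ↦ a y' - y'` from `Y' / V0` to `Y / V0` -/
def phi (hA : ∀ a ∈ A, ∀ v : V, a • v - v ∈ Y) (hV0 : ∀ v ∈ V0, ∀ a ∈ A, a • v = v) (a : A) :
    (↥Y' ⧸ V0.addSubgroupOf Y') →+ (↥Y ⧸ V0.addSubgroupOf Y) :=
  QuotientAddGroup.lift (V0.addSubgroupOf Y')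
    ((QuotientAddGroup.mk' (V0.addSubgroupOf Y)).comp
      { toFun := fun y => ⟨(a : P) • (y : V) - y, hA a a.2 y⟩
        map_zero' := by
          apply Subtype.ext
          show (a : P) • ((0 : V)) - 0 = 0
          rw [smul_zero, sub_zero]
        map_add' := fun y z => by
          apply Subtype.ext
          show (a : P) • ((y : V) + z) - (y + z) = ((a : P) • (y : V) - y) + ((a : P) • (z : V) - z)
          rw [smul_add]; abel })
    (by
      intro y hy
      rw [AddSubgroup.mem_addSubgroupOf] at hy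
      show QuotientAddGroup.mk' (V0.addSubgroupOf Y) _ = 0
      rw [QuotientAddGroup.mk'_apply, QuotientAddGroup.eq_zero_iff, AddSubgroup.mem_addSubgroupOf]
      show (a : P) • (y : V) - y ∈ V0
      rw [hV0 y hy a a.2, sub_self]; exact V0.zero_mem)

theorem phi_mk (hA : ∀ a ∈ A, ∀ v : V, a • v - v ∈ Y) (hV0 : ∀ v ∈ V0, ∀ a ∈ A, a • v = v)
    (a : A) (y : Y') : phi A Y Y' V0 hA hV0 a (QuotientAddGroup.mk y) =
      QuotientAddGroup.mk ⟨(a : P) • (y : V) - y, hA a a.2 y⟩ := rfl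

/-- `phi` is additive in `a` -/
theorem phi_mul (hA : ∀ a ∈ A, ∀ v : V, a • v - v ∈ Y) (hV0 : ∀ v ∈ V0, ∀ a ∈ A, a • v = v)
    (hY : ∀ y ∈ Y, ∀ a ∈ A, a • y = y) (a b : A) :
    phi A Y Y' V0 hA hV0 (a * b) = phi A Y Y' V0 hA hV0 a + phi A Y Y' V0 hA hV0 b := by
  ext y
  show phi A Y Y' V0 hA hV0 (a * b) (QuotientAddGroup.mk y) =
    phi A Y Y' V0 hA hV0 a (QuotientAddGroup.mk y) + phi A Y Y' V0 hA hV0 b (QuotientAddGroup.mk y)
  rw [phi_mk, phi_mk, phi_mk, ← QuotientAddGroup.mk_add]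
  congr 1
  apply Subtype.ext
  show ((a * b : A) : P) • (y : V) - y = ((a : P) • (y : V) - y) + ((b : P) • (y : V) - y)
  have h1 := hY _ (hA b b.2 y) a a.2
  rw [smul_sub] at h1
  rw [Subgroup.coe_mul, mul_smul]
  have h2 : (a : P) • (b : P) • (y : V) = ((b : P) • (y : V) - y) + (a : P) • (y : V) := by
    rw [← h1]; abel
  rw [h2]; abel

end Maps

/-- The pair theorem, with the quotients `K = C_V(A)/C_V(P)`, `K' = C_V(B)/C_V(P)` given. -/
theorem pair_aux {P V : Type*} [Group P] [Finite P] [AddCommGroup V] [Finite V]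
    [DistribMulAction P V] {p : ℕ} [Fact p.Prime]
    (A B : Subgroup P) (hAB : A ⊔ B = ⊤) (Y Y' V0 : AddSubgroup V) (hY : Y = fix V A)
    (hY' : Y' = fix V B) (hV0 : V0 = fix V (⊤ : Subgroup P))
    (hA : ∀ a ∈ A, ∀ v : V, a • v - v ∈ Y) (hB : ∀ b ∈ B, ∀ v : V, b • v - v ∈ Y')
    (htop : Y ⊔ Y' = ⊤)
    (hAinj : ∀ a ∈ A, a ≠ 1 → ∀ v : V, a • v - v ∈ V0 → v ∈ Y)
    (hBinj : ∀ b ∈ B, b ≠ 1 → ∀ v : V, b • v - v ∈ V0 → v ∈ Y')
    (hAc : Nat.card A * Nat.card V0 = Nat.card Y)
    (hBc : Nat.card B = Nat.card A) (hYc : Nat.card Y' = Nat.card Y)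
    (hA1 : 1 < Nat.card A)
    (hspread : ∀ b ∈ B, b ≠ 1 → ∃ a ∈ A, ∀ y ∈ Y, ∃ y' ∈ Y', b • y = a • y')
    {K K' : Type*} [AddCommGroup K] [Module (ZMod p) K] [AddCommGroup K'] [Module (ZMod p) K']
    [Finite K] [Finite K'] (π : Y →+ K) (π' : Y' →+ K') (hπs : Function.Surjective π)
    (hπ's : Function.Surjective π') (hπk : ∀ y, π y = 0 ↔ (y : V) ∈ V0)
    (hπ'k : ∀ y, π' y = 0 ↔ (y : V) ∈ V0)
    (hcardK : Nat.card K = Nat.card A) (hcardK' : Nat.card K' = Nat.card A)
    (Θ : A → (K' →ₗ[ZMod p] K)) (Θ' : B → (K →ₗ[ZMod p] K'))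
    (hΘmk : ∀ (a : A) (y : Y'), Θ a (π' y) = π ⟨(a : P) • (y : V) - y, hA a a.2 y⟩)
    (hΘ'mk : ∀ (b : B) (y : Y), Θ' b (π y) = π' ⟨(b : P) • (y : V) - y, hB b b.2 y⟩) :
    ∃ (F : Type) (_ : Field F) (_ : Fintype F) (ρ : P →* Matrix.SpecialLinearGroup (Fin 2) F)
      (ψ : V →+ (Fin 2 → F)),
      Fintype.card F = Nat.card A ∧ Function.Surjective ρ ∧ Function.Surjective ψ ∧
      (∀ v, ψ v = 0 ↔ v ∈ V0) ∧
      ∀ g v, ψ (g • v) = ((ρ g : Matrix.SpecialLinearGroup (Fin 2) F) :
        Matrix (Fin 2) (Fin 2) F).mulVec (ψ v) := by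
  classical
  have hV0eq : V0 = Y ⊓ Y' := by rw [hV0, ← hAB, fix_sup, hY, hY']
  have hV0Y : V0 ≤ Y := by rw [hV0eq]; exact inf_le_left
  have hV0Y' : V0 ≤ Y' := by rw [hV0eq]; exact inf_le_right
  have hV0A : ∀ v ∈ V0, ∀ a ∈ A, a • v = v := fun v hv a _ => by
    rw [hV0] at hv; exact hv a (Subgroup.mem_top a)
  have hV0B : ∀ v ∈ V0, ∀ b ∈ B, b • v = v := fun v hv b _ => by
    rw [hV0] at hv; exact hv b (Subgroup.mem_top b)
  have hYfix : ∀ y ∈ Y, ∀ a ∈ A, a • y = y := fun y hy a ha => by rw [hY] at hy; exact hy a ha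
  have hY'fix : ∀ y ∈ Y', ∀ a ∈ B, a • y = y := fun y hy a ha => by rw [hY'] at hy; exact hy a ha
  have hπeq : ∀ y z : Y, π y = π z ↔ -(y : V) + z ∈ V0 := by
    intro y z
    rw [eq_comm, ← sub_eq_zero, ← map_sub, hπk]
    have : ((z - y : Y) : V) = -(y : V) + z := by
      rw [AddSubgroup.coe_sub]; abel
    rw [this]
  have hπ'eq : ∀ y z : Y', π' y = π' z ↔ -(y : V) + z ∈ V0 := by
    intro y z
    rw [eq_comm, ← sub_eq_zero, ← map_sub, hπ'k]
    have : ((z - y : Y') : V) = -(y : V) + z := by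
      rw [AddSubgroup.coe_sub]; abel
    rw [this]
  have hΘmul : ∀ a b : A, Θ (a * b) = Θ a + Θ b := by
    intro a b
    ext x
    obtain ⟨y, rfl⟩ := hπ's x
    rw [LinearMap.add_apply, hΘmk, hΘmk, hΘmk, ← map_add]
    congr 1
    apply Subtype.ext
    show ((a * b : A) : P) • (y : V) - y = ((a : P) • (y : V) - y) + ((b : P) • (y : V) - y)
    have h1 := hYfix _ (hA b b.2 y) a a.2
    rw [smul_sub] at h1
    rw [Subgroup.coe_mul, mul_smul]
    have h2 : (a : P) • (b : P) • (y : V) = ((b : P) • (y : V) - y) + (a : P) • (y : V) := by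
      rw [← h1]; abel
    rw [h2]; abel
  have hΘ'mul : ∀ a b : B, Θ' (a * b) = Θ' a + Θ' b := by
    intro a b
    ext x
    obtain ⟨y, rfl⟩ := hπs x
    rw [LinearMap.add_apply, hΘ'mk, hΘ'mk, hΘ'mk, ← map_add]
    congr 1
    apply Subtype.ext
    show ((a * b : B) : P) • (y : V) - y = ((a : P) • (y : V) - y) + ((b : P) • (y : V) - y)
    have h1 := hY'fix _ (hB b b.2 y) a a.2
    rw [smul_sub] at h1
    rw [Subgroup.coe_mul, mul_smul]
    have h2 : (a : P) • (b : P) • (y : V) = ((b : P) • (y : V) - y) + (a : P) • (y : V) := by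
      rw [← h1]; abel
    rw [h2]; abel
  have hΘ1 : Θ 1 = 0 := by
    have := hΘmul 1 1
    rw [mul_one] at this
    exact left_eq_add.1 this
  have hΘ'1 : Θ' 1 = 0 := by
    have := hΘ'mul 1 1
    rw [mul_one] at this
    exact left_eq_add.1 this
  -- nontriviality
  have hYne : ¬ Y' ≤ Y := by
    intro h
    have h1 : Nat.card V0 = Nat.card Y' := by
      rw [hV0eq, inf_eq_right.2 h]
    rw [hYc, ← hAc] at h1
    have h2 : 0 < Nat.card V0 := Nat.card_pos
    nlinarith
  have hY'ne : ¬ Y ≤ Y' := by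
    intro h
    have h1 : Nat.card V0 = Nat.card Y := by
      rw [hV0eq, inf_eq_left.2 h]
    rw [← hAc] at h1
    have h2 : 0 < Nat.card V0 := Nat.card_pos
    nlinarith
  have hΘinj : ∀ a : A, Θ a = 0 → a = 1 := by
    intro a ha
    by_contra hne
    apply hYne
    intro y hy
    have h1 := hΘmk a ⟨y, hy⟩
    rw [ha, LinearMap.zero_apply] at h1
    have h2 := (hπk _).1 h1.symm
    exact hAinj a a.2 (fun h => hne (Subtype.ext h)) y h2
  have hΘ'inj : ∀ b : B, Θ' b = 0 → b = 1 := by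
    intro a ha
    by_contra hne
    apply hY'ne
    intro y hy
    have h1 := hΘ'mk a ⟨y, hy⟩
    rw [ha, LinearMap.zero_apply] at h1
    have h2 := (hπ'k _).1 h1.symm
    exact hBinj a a.2 (fun h => hne (Subtype.ext h)) y h2
  have hΘinj' : Function.Injective Θ := by
    intro a b hab
    have h1 := hΘmul (a * b⁻¹) b
    rw [inv_mul_cancel_right, hab] at h1
    have h2 : Θ (a * b⁻¹) = 0 := by
      have : Θ b = Θ (a * b⁻¹) + Θ b := h1
      exact right_eq_add.1 this
    exact mul_inv_eq_one.1 (hΘinj _ h2)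
  have hΘ'inj' : Function.Injective Θ' := by
    intro a b hab
    have h1 := hΘ'mul (a * b⁻¹) b
    rw [inv_mul_cancel_right, hab] at h1
    have h2 : Θ' (a * b⁻¹) = 0 := by
      have : Θ' b = Θ' (a * b⁻¹) + Θ' b := h1
      exact right_eq_add.1 this
    exact mul_inv_eq_one.1 (hΘ'inj _ h2)
  let Φ : Submodule (ZMod p) (K' →ₗ[ZMod p] K) := AddSubgroup.toZModSubmodule p
    { carrier := Set.range Θ
      zero_mem' := ⟨1, hΘ1⟩
      add_mem' := by
        rintro _ _ ⟨a, rfl⟩ ⟨b, rfl⟩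
        exact ⟨a * b, hΘmul a b⟩
      neg_mem' := by
        rintro _ ⟨a, rfl⟩
        refine ⟨a⁻¹, ?_⟩
        have := hΘmul a⁻¹ a
        rw [inv_mul_cancel, hΘ1] at this
        exact eq_neg_of_add_eq_zero_left this.symm }
  let Ψ : Submodule (ZMod p) (K →ₗ[ZMod p] K') := AddSubgroup.toZModSubmodule p
    { carrier := Set.range Θ'
      zero_mem' := ⟨1, hΘ'1⟩
      add_mem' := by
        rintro _ _ ⟨a, rfl⟩ ⟨b, rfl⟩
        exact ⟨a * b, hΘ'mul a b⟩
      neg_mem' := by
        rintro _ ⟨a, rfl⟩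
        refine ⟨a⁻¹, ?_⟩
        have := hΘ'mul a⁻¹ a
        rw [inv_mul_cancel, hΘ'1] at this
        exact eq_neg_of_add_eq_zero_left this.symm }
  have hΦmem : ∀ f, f ∈ Φ ↔ ∃ a, Θ a = f := fun f => Iff.rfl
  have hΨmem : ∀ f, f ∈ Ψ ↔ ∃ b, Θ' b = f := fun f => Iff.rfl
  have hΦcard : Nat.card Φ = Nat.card K := by
    rw [hcardK]
    exact (Nat.card_congr (Equiv.ofInjective Θ hΘinj')).symm
  -- inverses
  have hinv : ∀ b : B, b ≠ 1 → ∃ a : A, Θ a ∘ₗ Θ' b = LinearMap.id ∧ Θ' b ∘ₗ Θ a = LinearMap.id := by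
    intro b hb
    obtain ⟨a, ha, hab⟩ := hspread b b.2 (fun h => hb (Subtype.ext h))
    have h1 : Θ ⟨a, ha⟩ ∘ₗ Θ' b = LinearMap.id := by
      ext x
      obtain ⟨y, rfl⟩ := hπs x
      obtain ⟨y', hy', hyy⟩ := hab y y.2
      -- `b y = a y'`
      have e1 : ((b : P) • (y : V) - y) + y = (a • y' - y') + y' := by
        rw [sub_add_cancel, sub_add_cancel, hyy]
      have m1 := hB b b.2 (y : V)
      have m2 := hA a ha y'
      have e2 : (y : V) - (a • y' - y') = y' - ((b : P) • (y : V) - y) := by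
        have := e1
        rw [sub_eq_sub_iff_add_eq_add]
        rw [add_comm (y : V)]; rw [e1]; abel
      have m3 : (y : V) - (a • y' - y') ∈ V0 := by
        rw [hV0eq]
        refine ⟨Y.sub_mem y.2 m2, ?_⟩
        rw [e2]; exact Y'.sub_mem hy' m1
      rw [LinearMap.comp_apply, LinearMap.id_apply, hΘ'mk, hΘmk]
      rw [hπeq]
      show -(a • ((b : P) • (y : V) - y) - ((b : P) • (y : V) - y)) + y ∈ V0
      have m4 : (b : P) • (y : V) - y - y' ∈ V0 := by
        have : (b : P) • (y : V) - y - y' = -((y : V) - (a • y' - y')) := by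
          rw [e2]; abel
        rw [this]; exact V0.neg_mem m3
      have m5 := hV0A _ m4 a ha
      have e3 : a • ((b : P) • (y : V) - y) - ((b : P) • (y : V) - y) = a • y' - y' := by
        rw [smul_sub _ ((b : P) • (y : V) - y) y'] at m5
        have : a • ((b : P) • (y : V) - y) = ((b : P) • (y : V) - y - y') + a • y' := by
          rw [← m5]; abel
        rw [this]; abel
      rw [e3]
      have : -(a • y' - y') + (y : V) = (y : V) - (a • y' - y') := by abel
      rw [this]; exact m3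
    refine ⟨⟨a, ha⟩, h1, ?_⟩
    -- finite spaces of the same order
    have h2 : Function.Injective (Θ' b) := by
      intro x z hxz
      have hx := LinearMap.congr_fun h1 x
      have hz := LinearMap.congr_fun h1 z
      rw [LinearMap.comp_apply, LinearMap.id_apply] at hx hz
      rw [← hx, ← hz, hxz]
    have h3 : Function.Bijective (Θ' b) := by
      let _ : Fintype K := Fintype.ofFinite K
      let _ : Fintype K' := Fintype.ofFinite K'
      rw [Fintype.bijective_iff_injective_and_card]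
      exact ⟨h2, by rw [← Nat.card_eq_fintype_card, ← Nat.card_eq_fintype_card, hcardK, hcardK']⟩
    ext x
    obtain ⟨z, rfl⟩ := h3.2 x
    have hz := LinearMap.congr_fun h1 z
    rw [LinearMap.comp_apply, LinearMap.id_apply] at hz
    rw [LinearMap.comp_apply, hz, LinearMap.id_apply]
  have hΨinv : ∀ ψ ∈ Ψ, ψ ≠ 0 → ∃ φ ∈ Φ, φ ∘ₗ ψ = LinearMap.id ∧ ψ ∘ₗ φ = LinearMap.id := by
    rintro _ ⟨b, rfl⟩ hb
    obtain ⟨a, h1, h2⟩ := hinv b (fun h => hb (by rw [h]; exact hΘ'1))
    exact ⟨Θ a, ⟨a, rfl⟩, h1, h2⟩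
  have hΦinv : ∀ φ ∈ Φ, φ ≠ 0 → ∃ ψ ∈ Ψ, φ ∘ₗ ψ = LinearMap.id ∧ ψ ∘ₗ φ = LinearMap.id := by
    -- the map `b ↦ a` is injective, hence surjective
    choose f hf1 hf2 using hinv
    let g : B → A := fun b => if h : b = 1 then 1 else f b h
    have hntK : Nontrivial K := Finite.one_lt_card_iff_nontrivial.1 (by rw [hcardK]; exact hA1)
    have hfne : ∀ b (h : b ≠ 1), f b h ≠ 1 := by
      intro b h h1
      have h2 := hf1 b h
      rw [h1, hΘ1, LinearMap.zero_comp] at h2
      obtain ⟨x, hx⟩ := exists_ne (0 : K)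
      apply hx
      exact (LinearMap.congr_fun h2 x).symm
    have hg : Function.Injective g := by
      intro b c hbc
      by_cases hb : b = 1
      · by_cases hc : c = 1
        · rw [hb, hc]
        · simp only [g, dif_pos hb, dif_neg hc] at hbc
          exact absurd hbc.symm (hfne c hc)
      · by_cases hc : c = 1
        · simp only [g, dif_pos hc, dif_neg hb] at hbc
          exact absurd hbc (hfne b hb)
        · simp only [g, dif_neg hb, dif_neg hc] at hbc
          apply hΘ'inj'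
          calc Θ' b = Θ' b ∘ₗ (Θ (f c hc) ∘ₗ Θ' c) := by rw [hf1 c hc, LinearMap.comp_id]
            _ = (Θ' b ∘ₗ Θ (f b hb)) ∘ₗ Θ' c := by rw [hbc, LinearMap.comp_assoc]
            _ = Θ' c := by rw [hf2 b hb, LinearMap.id_comp]
    have hgs : Function.Surjective g := by
      let _ : Fintype A := Fintype.ofFinite A
      let _ : Fintype B := Fintype.ofFinite B
      have : Function.Bijective g := by
        rw [Fintype.bijective_iff_injective_and_card]
        exact ⟨hg, by rw [← Nat.card_eq_fintype_card, ← Nat.card_eq_fintype_card, hBc]⟩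
      exact this.2
    rintro _ ⟨a, rfl⟩ ha
    have ha1 : a ≠ 1 := fun h => ha (by rw [h]; exact hΘ1)
    obtain ⟨b, hb⟩ := hgs a
    by_cases hb1 : b = 1
    · simp only [g, dif_pos hb1] at hb
      exact absurd hb.symm ha1
    · simp only [g, dif_neg hb1] at hb
      rw [← hb]
      exact ⟨Θ' b, ⟨b, rfl⟩, hf1 b hb1, hf2 b hb1⟩
  obtain ⟨F, _, _, e, e', hFcard, hF1, hF2, hF3, hF4⟩ := JordanField.exists_field Φ Ψ
    (by rw [hcardK]; exact hA1) hΦcard hΦinv hΨinv
  -- the coordinates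
  have hdec : ∀ v : V, ∃ y : Y, ∃ y' : Y', (y : V) + y' = v := by
    intro v
    have h1 : v ∈ Y ⊔ Y' := by rw [htop]; exact AddSubgroup.mem_top v
    obtain ⟨y, hy, y', hy', h2⟩ := AddSubgroup.mem_sup.1 h1
    exact ⟨⟨y, hy⟩, ⟨y', hy'⟩, h2⟩
  choose c1 c2 hc using hdec
  have huniq : ∀ (y z : Y) (y' z' : Y'), (y : V) + y' = z + z' →
      π y = π z ∧ π' y' = π' z' := by
    intro y z y' z' h
    have e1 : -(y : V) + z = y' - z' := by
      have : (z : V) = y + y' - z' := by rw [h]; abel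
      rw [this]; abel
    have m1 : -(y : V) + z ∈ V0 := by
      rw [hV0eq]
      exact ⟨Y.add_mem (Y.neg_mem y.2) z.2, by rw [e1]; exact Y'.sub_mem y'.2 z'.2⟩
    constructor
    · rw [hπeq]
      exact m1
    · rw [hπ'eq]
      have : -(y' : V) + z' = -(-(y : V) + z) := by
        rw [e1]
        abel
      rw [this]; exact V0.neg_mem m1
  let τ : V → (Fin 2 → F) := fun v => ![e (π (c1 v)), e' (π' (c2 v))]
  have hτ : ∀ (y : Y) (y' : Y'), τ ((y : V) + y') =
      ![e (π y), e' (π' y')] := by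
    intro y y'
    obtain ⟨h1, h2⟩ := huniq _ _ _ _ (hc ((y : V) + y'))
    show ![e (π (c1 ((y : V) + y'))), e' (π' (c2 ((y : V) + y')))]
      = _
    rw [h1, h2]
  let ψ : V →+ (Fin 2 → F) :=
    { toFun := τ
      map_zero' := by
        have := hτ 0 0
        rw [AddSubgroup.coe_zero, AddSubgroup.coe_zero, add_zero] at this
        rw [this]
        rw [map_zero, map_zero, map_zero, map_zero]
        ext i; fin_cases i <;> rfl
      map_add' := by
        intro v w
        have h1 : v + w = ((c1 v + c1 w : Y) : V) + (c2 v + c2 w : Y') := by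
          rw [AddSubgroup.coe_add, AddSubgroup.coe_add]
          conv_lhs => rw [← hc v, ← hc w]
          abel
        rw [h1, hτ]
        rw [map_add π, map_add π', map_add e, map_add e']
        ext i; fin_cases i <;> rfl }
  have hψ : ∀ (y : Y) (y' : Y'), ψ ((y : V) + y') =
      ![e (π y), e' (π' y')] := hτ
  have hψsurj : Function.Surjective ψ := by
    intro f
    obtain ⟨x, hx⟩ := e.surjective (f 0)
    obtain ⟨x', hx'⟩ := e'.surjective (f 1)
    obtain ⟨y, rfl⟩ := hπs x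
    obtain ⟨y', rfl⟩ := hπ's x'
    refine ⟨(y : V) + y', ?_⟩
    rw [hψ, hx, hx']
    ext i; fin_cases i <;> rfl
  have hψker : ∀ v, ψ v = 0 ↔ v ∈ V0 := by
    intro v
    have h1 := hc v
    constructor
    · intro h
      rw [← h1, hψ] at h
      have h2 := congrFun h 0
      have h3 := congrFun h 1
      simp only [Matrix.cons_val_zero, Matrix.cons_val_one, Pi.zero_apply] at h2 h3
      rw [EmbeddingLike.map_eq_zero_iff] at h2 h3
      have h4 := (hπk _).1 h2
      have h5 := (hπ'k _).1 h3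
      rw [← h1]; exact V0.add_mem h4 h5
    · intro h
      have h2 : v = ((⟨v, hV0Y h⟩ : Y) : V) + (0 : Y') := by simp
      rw [h2, hψ]
      have e1 : π (⟨v, hV0Y h⟩ : Y) = 0 := (hπk _).2 h
      rw [e1, map_zero, map_zero, map_zero]
      ext i; fin_cases i <;> rfl
  have hactA : ∀ a : A, ∃ c : F, (∀ v, ψ ((a : P) • v) = (!![1, c; 0, 1]).mulVec (ψ v)) := by
    intro a
    obtain ⟨c, hc1⟩ := hF1 (Θ a) ⟨a, rfl⟩
    refine ⟨c, fun v => ?_⟩
    have h1 : (a : P) • v = ((c1 v + ⟨(a : P) • (c2 v : V) - c2 v, hA a a.2 _⟩ : Y) : V) + c2 v := by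
      rw [AddSubgroup.coe_add]
      conv_lhs => rw [← hc v, smul_add]
      have h2 : (a : P) • ((c1 v : Y) : V) = c1 v := hYfix _ (c1 v).2 a a.2
      rw [h2]
      show ((c1 v : Y) : V) + (a : P) • ((c2 v : Y') : V) =
        (c1 v : V) + ((a : P) • (c2 v : V) - c2 v) + c2 v
      abel
    rw [h1, hψ]
    have e1 : π (c1 v + ⟨(a : P) • (c2 v : V) - c2 v, hA a a.2 _⟩ : Y)
      = π (c1 v) + Θ a (π' (c2 v)) := by rw [map_add, hΘmk]
    have e2 : ψ v = ![e (π (c1 v)), e' (π' (c2 v))] := by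
      conv_lhs => rw [← hc v]
      exact hψ _ _
    rw [e1, map_add, hc1, e2]
    ext i; fin_cases i <;> simp [Matrix.mulVec, dotProduct, Fin.sum_univ_two]
  have hactB : ∀ b : B, ∃ c : F, (∀ v, ψ ((b : P) • v) = (!![1, 0; c, 1]).mulVec (ψ v)) := by
    intro a
    obtain ⟨c, hc1⟩ := hF3 (Θ' a) ⟨a, rfl⟩
    refine ⟨c, fun v => ?_⟩
    have h1 : (a : P) • v = ((c1 v : Y) : V) +
        ((⟨(a : P) • (c1 v : V) - c1 v, hB a a.2 _⟩ + c2 v : Y') : V) := by
      rw [AddSubgroup.coe_add]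
      conv_lhs => rw [← hc v, smul_add]
      have h2 : (a : P) • ((c2 v : Y') : V) = c2 v := hY'fix _ (c2 v).2 a a.2
      rw [h2]
      show (a : P) • ((c1 v : Y) : V) + ((c2 v : Y') : V) =
        (c1 v : V) + (((a : P) • (c1 v : V) - c1 v) + c2 v)
      abel
    rw [h1, hψ]
    have e1 : π' (⟨(a : P) • (c1 v : V) - c1 v, hB a a.2 _⟩ + c2 v : Y')
      = Θ' a (π (c1 v)) + π' (c2 v) := by rw [map_add, hΘ'mk]
    have e2 : ψ v = ![e (π (c1 v)), e' (π' (c2 v))] := by
      conv_lhs => rw [← hc v]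
      exact hψ _ _
    rw [e1, map_add, hc1, e2]
    ext i; fin_cases i <;> simp [Matrix.mulVec, dotProduct, Fin.sum_univ_two]
  have hexA : ∀ c : F, ∃ a : A, (∀ v, ψ ((a : P) • v) = (!![1, c; 0, 1]).mulVec (ψ v)) := by
    intro c
    obtain ⟨_, ⟨a, rfl⟩, hc1⟩ := hF2 c
    obtain ⟨d, hd⟩ := hactA a
    refine ⟨a, ?_⟩
    -- `d = c`
    have : d = c := by
      obtain ⟨x', hx'⟩ := e'.surjective 1
      obtain ⟨y', rfl⟩ := hπ's x'
      have h1 := hd (y' : V)
      have h2 : (a : P) • (y' : V) = ((⟨(a : P) • (y' : V) - y', hA a a.2 _⟩ : Y) : V) + y' := by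
        show _ = ((a : P) • (y' : V) - y') + y'
        abel
      have h3 : ψ (y' : V) = ![e (π (0 : Y)), e' (π' y')] := by
        rw [← hψ]; congr 1; simp
      rw [h2, hψ, h3] at h1
      have h4 := congrFun h1 0
      rw [← hΘmk, hc1, hx', mul_one] at h4
      simpa [Matrix.mulVec, dotProduct, Fin.sum_univ_two] using h4.symm
    rw [← this]; exact hd
  have hexB : ∀ c : F, ∃ a : B, (∀ v, ψ ((a : P) • v) = (!![1, 0; c, 1]).mulVec (ψ v)) := by
    intro c
    obtain ⟨_, ⟨a, rfl⟩, hc1⟩ := hF4 c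
    obtain ⟨d, hd⟩ := hactB a
    refine ⟨a, ?_⟩
    have : d = c := by
      obtain ⟨x, hx⟩ := e.surjective 1
      obtain ⟨y, rfl⟩ := hπs x
      have h1 := hd (y : V)
      have h2 : (a : P) • (y : V) = (y : V) + ((⟨(a : P) • (y : V) - y, hB a a.2 _⟩ : Y') : V) := by
        show _ = (y : V) + ((a : P) • (y : V) - y)
        abel
      have h3 : ψ (y : V) = ![e (π y), e' (π' (0 : Y'))] := by
        rw [← hψ]; congr 1; simp
      rw [h2, hψ, h3] at h1
      have h4 := congrFun h1 1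
      rw [← hΘ'mk, hc1, hx, mul_one] at h4
      simpa [Matrix.mulVec, dotProduct, Fin.sum_univ_two] using h4.symm
    rw [← this]; exact hd
  -- the homomorphism
  let good : Subgroup P :=
    { carrier := {g | ∃ m : Matrix.SpecialLinearGroup (Fin 2) F,
        ∀ v, ψ (g • v) = (m : Matrix (Fin 2) (Fin 2) F).mulVec (ψ v)}
      one_mem' := ⟨1, fun v => by simp⟩
      mul_mem' := by
        rintro g h ⟨m, hm⟩ ⟨m', hm'⟩
        refine ⟨m * m', fun v => ?_⟩
        rw [mul_smul, hm, hm', Matrix.mulVec_mulVec, Matrix.SpecialLinearGroup.coe_mul]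
      inv_mem' := by
        rintro g ⟨m, hm⟩
        refine ⟨m⁻¹, fun v => ?_⟩
        have h1 := hm (g⁻¹ • v)
        rw [smul_inv_smul] at h1
        rw [h1, Matrix.mulVec_mulVec, ← Matrix.SpecialLinearGroup.coe_mul, inv_mul_cancel]
        simp }
  have hgood : ∀ g : P, ∃ m : Matrix.SpecialLinearGroup (Fin 2) F,
      ∀ v, ψ (g • v) = (m : Matrix (Fin 2) (Fin 2) F).mulVec (ψ v) := by
    have h1 : A ⊔ B ≤ good := by
      refine sup_le ?_ ?_
      · intro a ha
        obtain ⟨c, hc1⟩ := hactA ⟨a, ha⟩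
        exact ⟨⟨!![1, c; 0, 1], by simp [Matrix.det_fin_two]⟩, hc1⟩
      · intro b hb
        obtain ⟨c, hc1⟩ := hactB ⟨b, hb⟩
        exact ⟨⟨!![1, 0; c, 1], by simp [Matrix.det_fin_two]⟩, hc1⟩
    rw [hAB] at h1
    intro g
    exact h1 (Subgroup.mem_top g)
  have hmuniq : ∀ (m m' : Matrix.SpecialLinearGroup (Fin 2) F),
      (∀ v, (m : Matrix (Fin 2) (Fin 2) F).mulVec (ψ v) =
        (m' : Matrix (Fin 2) (Fin 2) F).mulVec (ψ v)) → m = m' := by
    intro m m' h
    apply Subtype.ext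
    apply Matrix.ext_of_mulVec_single
    intro i
    obtain ⟨v, hv⟩ := hψsurj (Pi.single i 1)
    rw [← hv]; exact h v
  choose ρ hρ using hgood
  let ρ' : P →* Matrix.SpecialLinearGroup (Fin 2) F :=
    { toFun := ρ
      map_one' := by
        apply hmuniq
        intro v
        rw [← hρ, one_smul]; simp
      map_mul' := by
        intro g h
        apply hmuniq
        intro v
        rw [← hρ, mul_smul, hρ, hρ, Matrix.mulVec_mulVec, Matrix.SpecialLinearGroup.coe_mul] }
  refine ⟨F, inferInstance, inferInstance, ρ', ψ, by rw [hFcard, hcardK], ?_, hψsurj, hψker, hρ⟩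
  rw [← MonoidHom.range_eq_top]
  apply sl2_gen
  · intro c m hm
    obtain ⟨a, ha⟩ := hexA c
    refine ⟨a, ?_⟩
    apply hmuniq
    intro v
    show ((ρ a : Matrix.SpecialLinearGroup (Fin 2) F) : Matrix (Fin 2) (Fin 2) F).mulVec (ψ v) = _
    rw [← hρ, ha, hm]
  · intro c m hm
    obtain ⟨a, ha⟩ := hexB c
    refine ⟨a, ?_⟩
    apply hmuniq
    intro v
    show ((ρ a : Matrix.SpecialLinearGroup (Fin 2) F) : Matrix (Fin 2) (Fin 2) F).mulVec (ψ v) = _
    rw [← hρ, ha, hm]

/-- **The pair theorem.** -/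
theorem pair_theorem {P V : Type*} [Group P] [Finite P] [AddCommGroup V] [Finite V]
    [DistribMulAction P V] {p : ℕ} [Fact p.Prime] (hp : ∀ v : V, p • v = 0)
    (A B : Subgroup P) (hAB : A ⊔ B = ⊤)
    (hA : ∀ a ∈ A, ∀ v : V, a • v - v ∈ fix V A) (hB : ∀ b ∈ B, ∀ v : V, b • v - v ∈ fix V B)
    (htop : fix V A ⊔ fix V B = ⊤)
    (hAinj : ∀ a ∈ A, a ≠ 1 → ∀ v : V, a • v - v ∈ fix V (⊤ : Subgroup P) → v ∈ fix V A)
    (hBinj : ∀ b ∈ B, b ≠ 1 → ∀ v : V, b • v - v ∈ fix V (⊤ : Subgroup P) → v ∈ fix V B)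
    (hAc : Nat.card A * Nat.card (fix V (⊤ : Subgroup P)) = Nat.card (fix V A))
    (hBc : Nat.card B = Nat.card A) (hYc : Nat.card (fix V B) = Nat.card (fix V A))
    (hA1 : 1 < Nat.card A)
    (hspread : ∀ b ∈ B, b ≠ 1 → ∃ a ∈ A, ∀ y ∈ fix V A, ∃ y' ∈ fix V B, b • y = a • y') :
    ∃ (F : Type) (_ : Field F) (_ : Fintype F) (ρ : P →* Matrix.SpecialLinearGroup (Fin 2) F)
      (ψ : V →+ (Fin 2 → F)),
      Fintype.card F = Nat.card A ∧ Function.Surjective ρ ∧ Function.Surjective ψ ∧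
      (∀ v, ψ v = 0 ↔ v ∈ fix V (⊤ : Subgroup P)) ∧
      ∀ g v, ψ (g • v) = ((ρ g : Matrix.SpecialLinearGroup (Fin 2) F) :
        Matrix (Fin 2) (Fin 2) F).mulVec (ψ v) := by
  classical
  set Y := fix V A with hY
  set Y' := fix V B with hY'
  set V0 := fix V (⊤ : Subgroup P) with hV0
  have hV0eq : V0 = Y ⊓ Y' := by rw [hV0, ← hAB, fix_sup]
  have hV0Y : V0 ≤ Y := by rw [hV0eq]; exact inf_le_left
  have hV0Y' : V0 ≤ Y' := by rw [hV0eq]; exact inf_le_right
  have hV0A : ∀ v ∈ V0, ∀ a ∈ A, a • v = v := fun v hv a _ => hv a (Subgroup.mem_top a)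
  have hV0B : ∀ v ∈ V0, ∀ b ∈ B, b • v = v := fun v hv b _ => hv b (Subgroup.mem_top b)
  let _ : Module (ZMod p) (↥Y ⧸ V0.addSubgroupOf Y) := AddCommGroup.zmodModule (by
    intro x
    obtain ⟨y, rfl⟩ := QuotientAddGroup.mk_surjective x
    rw [← QuotientAddGroup.mk_nsmul]
    have : p • y = 0 := Subtype.ext (hp y)
    rw [this]; rfl)
  let _ : Module (ZMod p) (↥Y' ⧸ V0.addSubgroupOf Y') := AddCommGroup.zmodModule (by
    intro x
    obtain ⟨y, rfl⟩ := QuotientAddGroup.mk_surjective x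
    rw [← QuotientAddGroup.mk_nsmul]
    have : p • y = 0 := Subtype.ext (hp y)
    rw [this]; rfl)
  have hcardK : Nat.card (↥Y ⧸ V0.addSubgroupOf Y) = Nat.card A := by
    have h1 := AddSubgroup.card_eq_card_quotient_mul_card_addSubgroup (V0.addSubgroupOf Y)
    have h2 : Nat.card (V0.addSubgroupOf Y) = Nat.card V0 :=
      Nat.card_congr (AddSubgroup.addSubgroupOfEquivOfLe hV0Y).toEquiv
    rw [h2, ← hAc] at h1
    exact (Nat.eq_of_mul_eq_mul_right Nat.card_pos h1).symm
  have hcardK' : Nat.card (↥Y' ⧸ V0.addSubgroupOf Y') = Nat.card A := by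
    have h1 := AddSubgroup.card_eq_card_quotient_mul_card_addSubgroup (V0.addSubgroupOf Y')
    have h2 : Nat.card (V0.addSubgroupOf Y') = Nat.card V0 :=
      Nat.card_congr (AddSubgroup.addSubgroupOfEquivOfLe hV0Y').toEquiv
    rw [h2, hYc, ← hAc] at h1
    exact (Nat.eq_of_mul_eq_mul_right Nat.card_pos h1).symm
  exact pair_aux (p := p) A B hAB Y Y' V0 rfl rfl rfl hA hB htop hAinj hBinj hAc hBc hYc hA1 hspread
    (QuotientAddGroup.mk' (V0.addSubgroupOf Y)) (QuotientAddGroup.mk' (V0.addSubgroupOf Y'))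
    (QuotientAddGroup.mk'_surjective _) (QuotientAddGroup.mk'_surjective _)
    (fun y => by
      rw [QuotientAddGroup.mk'_apply, QuotientAddGroup.eq_zero_iff, AddSubgroup.mem_addSubgroupOf])
    (fun y => by
      rw [QuotientAddGroup.mk'_apply, QuotientAddGroup.eq_zero_iff, AddSubgroup.mem_addSubgroupOf])
    hcardK hcardK'
    (fun a => AddMonoidHom.toZModLinearMap p (phi A Y Y' V0 hA hV0A a))
    (fun b => AddMonoidHom.toZModLinearMap p (phi B Y' Y V0 hB hV0B b))
    (fun a y => rfl) (fun b y => rfl)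

end Cfsg.Agent.H262.Pair
end
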