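import Cfsg.Agent.H813.SaxSpK
import Cfsg.Agent.H884.ElO8
import Cfsg.Agent.S0246
import Cfsg.Agent.Prune
set_option linter.all false

section
prune_inst 0x7fffa9ffbbfe7fffffff7e77a6f4cdfc3b939fffa6dff94b3fe029df0b9f139e0dcdf3a589e020fe1ed6c21410a87843f9fffeffea6bdc7ffffd5ff45ffbee4ff5f6bd08519488340fbc6ffee3f0778e7f3fffffffffffffffffffffffffffaeffbfffffffff

-- part: H262/ElSympQ
section
set_option linter.all false
open scoped Cfsg.Agent.FastGrp

/-!
# TEAM ELUSIVE, symplectic row, prime version: quadratic extension fields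
-/

set_option autoImplicit false

namespace Cfsg.Agent.H262.El

open Cfsg Cfsg.Geo Module Cfsg.Agent.H884.El
open Cfsg.Agent.ClassicalGeometry.SympBasic Cfsg.Agent.H876 Cfsg.Agent.H931
open Cfsg.Agent.H951 (fx cm Inv)
open scoped Matrix MatrixGroups

universe u v

section gen

variable {F : Type u} [Field F] [Fintype F] {V : Type v} [AddCommGroup V] [Module F V] [FiniteDimensional F V]
  {x : Module.End F V} {r : ℕ}

/-- invariant forms vanish on irreducible subspaces of odd dimension. -/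
theorem form_zero (hr : r.Prime) (hr2 : r ≠ 2) (hrF : (r : F) ≠ 0) (hx : x ^ r = 1) {W : Submodule F V}
    (hirr : H951.Irr x W) (hWcm : W ≤ cm x) (hodd : Odd (finrank F W)) (c : LinearMap.BilinForm F V)
    (hinv : ∀ u v, c (x u) (x v) = c u v) : ∀ u ∈ W, ∀ v ∈ W, c u v = 0 := by
  have hprime := Fact.mk hr
  have hfin : Finite V := Module.finite_of_finite F
  obtain ⟨hW0, hW, hWi⟩ := hirr
  let N : Submodule F V :=
    { carrier := {v | v ∈ W ∧ ∀ u ∈ W, c u v = 0}
      add_mem' := fun {a b} ha hb => ⟨W.add_mem ha.1 hb.1, fun u hu => by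
        rw [map_add, ha.2 u hu, hb.2 u hu, add_zero]⟩
      zero_mem' := ⟨W.zero_mem, fun u _ => map_zero _⟩
      smul_mem' := fun a v hv => ⟨W.smul_mem a hv.1, fun u hu => by
        rw [map_smul, hv.2 u hu, smul_zero]⟩ }
  have hNW : N ≤ W := fun v hv => hv.1
  have hNi : Inv x N := by
    rintro v ⟨hv, hv2⟩
    refine ⟨hW v hv, fun u hu => ?_⟩
    obtain ⟨u', hu', rfl⟩ : ∃ u' ∈ W, x u' = u := by
      refine ⟨(x ^ (r - 1)) u, hW.pow _ u hu, ?_⟩
      rw [← Module.End.mul_apply, ← pow_succ', Nat.sub_add_cancel hr.one_le, hx]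
      rfl
    rw [hinv]
    exact hv2 u' hu'
  rcases hWi N hNW hNi with hN | hN
  · exfalso
    have hnd : ∀ v ∈ W, (∀ u ∈ W, c u v = 0) → v = 0 := by
      intro v hv hv2
      have : v ∈ N := ⟨hv, hv2⟩
      rw [hN] at this
      exact (Submodule.mem_bot F).1 this
    have hev := H200.LinFix.even_of_irr (l := r) hr2 hrF (y := x) hx (W := W) hWcm hW
      (fun s hs hi => hWi s hs hi) hW0 c (fun u _ v _ => hinv u v) hnd
    exact (Nat.not_even_iff_odd.2 hodd) hev
  · intro u hu v hv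
    rw [← hN] at hv
    exact hv.2 u hu

end gen

variable {F : Type u} [Field F] {m : ℕ}

/-- the symplectic form as a bilinear form -/
noncomputable def bf (m : ℕ) (F : Type u) [Field F] : LinearMap.BilinForm F (Fin m ⊕ Fin m → F) :=
  LinearMap.mk₂ F (sympForm m F) (fun a b c => sympForm_add_left a b c)
    (fun c a b => by rw [sympForm_smul_left, smul_eq_mul]) (fun a b c => sympForm_add_right a b c)
    (fun c a b => by rw [sympForm_smul_right, smul_eq_mul])

theorem bf_apply (u v : Fin m ⊕ Fin m → F) : bf m F u v = sympForm m F u v := rfl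

theorem two_mul_finrank_le {U : Submodule F (Fin m ⊕ Fin m → F)} (hU : ∀ u ∈ U, ∀ v ∈ U, sympForm m F u v = 0) :
    2 * finrank F U ≤ 2 * m := by
  have hnd : (bf m F).Nondegenerate := by
    constructor
    · intro v hv
      exact eq_zero_of_forall_sympForm_right hv
    · intro v hv
      exact eq_zero_of_forall_sympForm_left hv
  have h1 := LinearMap.BilinForm.finrank_orthogonal hnd U
  have h2 : U ≤ (bf m F).orthogonal U := by
    intro v hv u hu
    exact hU u hu v hv
  have h3 := Submodule.finrank_mono h2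
  have h4 : finrank F (Fin m ⊕ Fin m → F) = 2 * m := by
    rw [Module.finrank_fintype_fun_eq_card, card_sum_fin]
  have h5 : finrank F U ≤ finrank F (Fin m ⊕ Fin m → F) := Submodule.finrank_le U
  omega

/-- **no quadratic field** is normalised by an element of prime order `r`, `ord_r(q)` odd and greater than `m / 2`. -/
theorem no_quadratic_symp [Fintype F] {g : GL (Fin m ⊕ Fin m) F} (hg : g ∈ spGL m F) {r e : ℕ}
    (hr : PP (Nat.card F) e r) (he : Odd e) (he3 : 3 ≤ e) (hn : 2 * m < 4 * e) (hgr : g ^ r = 1) (hg1 : g ≠ 1)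
    {K : Subalgebra F (Matrix (Fin m ⊕ Fin m) (Fin m ⊕ Fin m) F)} (hK : IsFieldSubalgebra 2 K)
    (hgK : g ∈ subalgebraNormalizer K) : False := by
  have hne : Nonempty (Fin m ⊕ Fin m) := by
    by_contra h
    rw [not_nonempty_iff] at h
    exact hg1 (Subsingleton.elim _ _)
  have hr2 : r ≠ 2 := by have := hr.lt (by omega); omega
  have hrF : (r : F) ≠ 0 := hr.ne0 (by omega)
  have hprime := Fact.mk hr.prime
  have hcomm := comm_field Nat.prime_two hK hgK hr.prime hr2 hgr
  obtain ⟨J, hJK, hJ, hgen⟩ := Cfsg.Agent.H884.HermGL.exists_gen hK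
  set x : Module.End F (Fin m ⊕ Fin m → F) := lin g with hxdef
  have hx : x ^ r = 1 := by rw [hxdef, ← H251.GeoCard.toLin_pow, hgr]; exact lin_one
  set T : Module.End F (Fin m ⊕ Fin m → F) := Matrix.toLin' J with hTdef
  have hTx : ∀ v, T (x v) = x (T v) := by
    intro v
    rw [hTdef, hxdef, lin, Matrix.toLin'_apply, Matrix.toLin'_apply, Matrix.toLin'_apply, Matrix.toLin'_apply,
      Matrix.mulVec_mulVec, Matrix.mulVec_mulVec, hcomm J hJK]
  have heven : ∀ W : Submodule F (Fin m ⊕ Fin m → F), (∀ w ∈ W, T w ∈ W) → Even (finrank F W) := by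
    intro W hW
    refine even_of_field hK fun k hk w hw => ?_
    obtain ⟨s, t, rfl⟩ := hgen k hk
    rw [Matrix.add_mulVec, Matrix.smul_mulVec, Matrix.smul_mulVec, Matrix.one_mulVec]
    refine W.add_mem (W.smul_mem _ hw) (W.smul_mem _ ?_)
    have := hW w hw
    rwa [hTdef, Matrix.toLin'_apply] at this
  have hTinj : Function.Injective T := by
    have hJ0 : J ≠ 0 := fun h => hJ 0 (by rw [h, zero_smul])
    obtain ⟨J', hJ'K, hJJ'⟩ := hK.inv J hJK hJ0
    have hJ'J : J' * J = 1 := by rw [hK.comm J' hJ'K J hJK]; exact hJJ'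
    intro a b hab
    rw [hTdef, Matrix.toLin'_apply, Matrix.toLin'_apply] at hab
    rw [← Matrix.one_mulVec a, ← hJ'J, ← Matrix.mulVec_mulVec, hab, Matrix.mulVec_mulVec, hJ'J, Matrix.one_mulVec]
  obtain ⟨W, hWcm, hirr⟩ := H951.exists_irr (x := x) H951.inv_cm (cm_ne_bot (lin_ne_one hg1))
  have hWd : finrank F W = e := by rw [hirr.finrank_eq hrF hx hWcm, ord_eq hr]
  have hz : ∀ c : LinearMap.BilinForm F (Fin m ⊕ Fin m → F), (∀ u v, c (x u) (x v) = c u v) →
      ∀ u ∈ W, ∀ v ∈ W, c u v = 0 := fun c hc =>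
    form_zero hr.prime hr2 hrF hx hirr hWcm (by rw [hWd]; exact he) c hc
  have hfx : ∀ u v, sympForm m F (x u) (x v) = sympForm m F u v := by
    intro u v
    rw [hxdef, lin, Matrix.toLin'_apply, Matrix.toLin'_apply]
    exact mem_spGL_iff.1 hg u v
  have z1 : ∀ u ∈ W, ∀ v ∈ W, sympForm m F u v = 0 := hz (bf m F) hfx
  have z2 : ∀ u ∈ W, ∀ v ∈ W, sympForm m F u (T v) = 0 :=
    hz (LinearMap.BilinForm.comp (bf m F) LinearMap.id T) (fun u v => by
      change sympForm m F (x u) (T (x v)) = sympForm m F u (T v)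
      rw [hTx, hfx])
  have z3 : ∀ u ∈ W, ∀ v ∈ W, sympForm m F (T u) (T v) = 0 :=
    hz (LinearMap.BilinForm.comp (bf m F) T T) (fun u v => by
      change sympForm m F (T (x u)) (T (x v)) = sympForm m F (T u) (T v)
      rw [hTx, hTx, hfx])
  have z4 : ∀ u ∈ W, ∀ v ∈ W, sympForm m F (T u) v = 0 := by
    intro u hu v hv
    rw [sympForm_swap, z2 v hv u hu, neg_zero]
  have hTWi : Inv x (W.map T) := by
    rintro _ ⟨w, hw, rfl⟩
    exact ⟨x w, hirr.2.1 w hw, hTx w⟩
  have hTWd : finrank F (W.map T) = e := by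
    rw [← hWd]
    exact (Submodule.equivMapOfInjective T hTinj W).finrank_eq.symm
  have hinf : W ⊓ W.map T = ⊥ := by
    rcases hirr.2.2 (W ⊓ W.map T) inf_le_left (hirr.2.1.inf hTWi) with h | h
    · exact h
    · exfalso
      have h1 : W ≤ W.map T := by
        have h0 : W ⊓ W.map T ≤ W.map T := inf_le_right
        rwa [h] at h0
      have h2 : W = W.map T := Submodule.eq_of_le_of_finrank_eq h1 (by rw [hWd, hTWd])
      have h3 := heven W (fun w hw => by
        rw [h2]
        exact Submodule.mem_map_of_mem hw)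
      rw [hWd] at h3
      exact (Nat.not_even_iff_odd.2 he) h3
  have hUd : finrank F ↥(W ⊔ W.map T) = 2 * e := by
    have := Submodule.finrank_sup_add_finrank_inf_eq W (W.map T)
    rw [hinf, finrank_bot, hWd, hTWd] at this
    omega
  have hle := two_mul_finrank_le (m := m) (U := W ⊔ W.map T) (by
    intro a ha b hb
    obtain ⟨a1, ha1, a2, ⟨a3, ha3, rfl⟩, rfl⟩ := Submodule.mem_sup.1 ha
    obtain ⟨b1, hb1, b2, ⟨b3, hb3, rfl⟩, rfl⟩ := Submodule.mem_sup.1 hb
    rw [sympForm_add_left, sympForm_add_right, sympForm_add_right, z1 a1 ha1 b1 hb1, z2 a1 ha1 b3 hb3,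
      z4 a3 ha3 b1 hb1, z3 a3 ha3 b3 hb3]
    ring)
  omega

end Cfsg.Agent.H262.El
end

-- part: H262/ElSympMiss
section
prune_inst 0x500800000000000000000000c00e40002440a00000000008000000000001002808010000000000000000000000000000000000100209000020020400004200011000000000000000000000000000000000000010000000000000
set_option linter.all false
open scoped Cfsg.Agent.FastGrp

-- part: H262/ElSympU
section
/-!
# TEAM ELUSIVE, symplectic row, prime version: quadratic fields and irreducible elements, `m` even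
-/

set_option autoImplicit false

namespace Cfsg.Agent.H262.El

open Cfsg Cfsg.Geo Module Cfsg.Agent.H884.El Polynomial
open Cfsg.Agent.ClassicalGeometry.SympBasic Cfsg.Agent.H876 Cfsg.Agent.H931
open scoped Matrix MatrixGroups

universe u

variable {F : Type u} [Field F] [Fintype F] {m : ℕ}

omit [Field F] in
theorem od_of_pp {e r : ℕ} (h : PP (Nat.card F) e r) (he : 1 ≤ e) : Od (Fintype.card F) e r where
  prime := h.prime
  ord := ord_eq h
  ndvd := by rw [← Nat.card_eq_fintype_card]; exact h.not_dvd he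

omit [Field F] in
theorem pp_of_od {e r : ℕ} (h : Od (Fintype.card F) e r) : PP (Nat.card F) e r :=
  ⟨h.prime, by rw [Nat.card_eq_fintype_card]; exact h.ord⟩

section

variable {ι : Type} [Fintype ι] [DecidableEq ι]

theorem aeval_pow (A : Matrix ι ι F) (p : F[X]) (j : ℕ) :
    (aeval A p) ^ (Fintype.card F ^ j) = aeval (A ^ (Fintype.card F ^ j)) p := by
  induction j with
  | zero => rw [pow_zero, pow_one, pow_one]
  | succ j ih =>
    rw [pow_succ, pow_mul, ih, pow_mul, ← map_pow, ← FiniteField.expand_card, expand_aeval]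

omit [Fintype F] in
theorem exists_poly {A : Matrix ι ι F} (hirr : ∀ W : Submodule F (ι → F), (∀ v ∈ W, A *ᵥ v ∈ W) → W = ⊥ ∨ W = ⊤)
    [Nonempty ι] {k : Matrix ι ι F} (hk : A * k = k * A) : ∃ p : F[X], k = aeval A p := by
  obtain ⟨i⟩ := ‹Nonempty ι›
  set v0 : ι → F := Pi.single i 1 with hv0
  have hv : v0 ≠ 0 := by
    intro h
    have := congrFun h i
    simp [hv0] at this
  let S : Submodule F (ι → F) :=
    { carrier := {w | ∃ p : F[X], w = (aeval A p) *ᵥ v0}
      zero_mem' := ⟨0, by simp⟩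
      add_mem' := by
        rintro _ _ ⟨p, rfl⟩ ⟨q, rfl⟩
        exact ⟨p + q, by rw [map_add, Matrix.add_mulVec]⟩
      smul_mem' := by
        rintro c _ ⟨p, rfl⟩
        exact ⟨c • p, by rw [map_smul, Matrix.smul_mulVec]⟩ }
  have hS : S = ⊤ := by
    rcases hirr S (by
      rintro _ ⟨p, rfl⟩
      exact ⟨X * p, by rw [map_mul, aeval_X, Matrix.mulVec_mulVec]⟩) with h | h
    · exfalso
      apply hv
      have : v0 ∈ S := ⟨1, by rw [map_one, Matrix.one_mulVec]⟩
      rw [h] at this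
      exact (Submodule.mem_bot F).1 this
    · exact h
  obtain ⟨p, hp⟩ : k *ᵥ v0 ∈ S := by rw [hS]; trivial
  refine ⟨p, ?_⟩
  have hcomm : A * aeval A p = aeval A p * A := by
    have h1 : aeval A (X * p) = A * aeval A p := by rw [map_mul, aeval_X]
    have h2 : aeval A (p * X) = aeval A p * A := by rw [map_mul, aeval_X]
    rw [← h1, ← h2, mul_comm]
  have hker : LinearMap.ker (Matrix.toLin' (k - aeval A p)) = ⊤ := by
    rcases hirr (LinearMap.ker (Matrix.toLin' (k - aeval A p))) (by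
      intro v hv
      rw [LinearMap.mem_ker, Matrix.toLin'_apply] at hv ⊢
      rw [Matrix.mulVec_mulVec]
      have h1 : (k - aeval A p) * A = A * (k - aeval A p) := by rw [sub_mul, mul_sub, hk, hcomm]
      rw [h1, ← Matrix.mulVec_mulVec, hv, Matrix.mulVec_zero]) with h | h
    · exfalso
      apply hv
      have : v0 ∈ LinearMap.ker (Matrix.toLin' (k - aeval A p)) := by
        rw [LinearMap.mem_ker, Matrix.toLin'_apply, Matrix.sub_mulVec, hp, sub_self]
      rw [h] at this
      exact (Submodule.mem_bot F).1 this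
    · exact h
  have h0 := LinearMap.ker_eq_top.1 hker
  have h1 : k - aeval A p = 0 := Matrix.toLin'.injective (by rw [h0, map_zero])
  exact sub_eq_zero.1 h1

end

omit [Fintype F] in
/-- polynomials in an isometry: the adjoint. -/
theorem adj_poly {A B : Matrix (Fin m ⊕ Fin m) (Fin m ⊕ Fin m) F}
    (hAB : ∀ u v, sympForm m F (A *ᵥ u) v = sympForm m F u (B *ᵥ v)) (p : F[X]) :
    ∀ u v, sympForm m F ((aeval A p) *ᵥ u) v = sympForm m F u ((aeval B p) *ᵥ v) := by
  induction p using Polynomial.induction_on' with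
  | add p q hp hq =>
    intro u v
    rw [map_add, map_add, Matrix.add_mulVec, Matrix.add_mulVec, sympForm_add_left, sympForm_add_right, hp, hq]
  | monomial n a =>
    have hpow : ∀ n : ℕ, ∀ u v, sympForm m F ((A ^ n) *ᵥ u) v = sympForm m F u ((B ^ n) *ᵥ v) := by
      intro n
      induction n with
      | zero => intro u v; rw [pow_zero, pow_zero, Matrix.one_mulVec, Matrix.one_mulVec]
      | succ n ih =>
        intro u v
        rw [pow_succ', ← Matrix.mulVec_mulVec, hAB, ih, pow_succ, Matrix.mulVec_mulVec]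
    intro u v
    rw [aeval_monomial, aeval_monomial, ← Algebra.smul_def, ← Algebra.smul_def, Matrix.smul_mulVec, Matrix.smul_mulVec,
      sympForm_smul_left, sympForm_smul_right, hpow]

/-- `m` even: a quadratic field centralised by an element of order `r`, `ord_r(q) = 2 m`, is self-adjoint. -/
theorem selfAdjoint_of_irr (hm : Even m) (hm1 : 1 ≤ m) {g : GL (Fin m ⊕ Fin m) F} (hg : g ∈ spGL m F) {r : ℕ}
    (hr : PP (Nat.card F) (2 * m) r) (hgr : g ^ r = 1) (hg1 : g ≠ 1)
    {K : Subalgebra F (Matrix (Fin m ⊕ Fin m) (Fin m ⊕ Fin m) F)} (hK : IsFieldSubalgebra 2 K)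
    (hgK : g ∈ subalgebraNormalizer K) : IsSelfAdjointFor (sympForm m F) K := by
  have hne : Nonempty (Fin m ⊕ Fin m) := ⟨Sum.inl ⟨0, by omega⟩⟩
  have hr2 : r ≠ 2 := by have := hr.lt (by omega); omega
  have hcomm := comm_field Nat.prime_two hK hgK hr.prime hr2 hgr
  have hod := od_of_pp hr (by omega)
  have hirr := irr_of_od (F := F) (by rw [card_sum_fin]; exact hod) hgr hg1
  set A : Matrix (Fin m ⊕ Fin m) (Fin m ⊕ Fin m) F := (g : Matrix (Fin m ⊕ Fin m) (Fin m ⊕ Fin m) F) with hA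
  set q := Fintype.card F with hq
  have hqpos : 1 ≤ q := Fintype.card_pos
  -- `A ^ (q ^ m + 1) = 1`
  have hdvd : r ∣ q ^ m + 1 := by
    have h1 : r ∣ q ^ (2 * m) - 1 := (hod.dvd_iff hqpos _).2 dvd_rfl
    have h2 : ¬ r ∣ q ^ m - 1 := by
      rw [hod.dvd_iff hqpos]
      intro h
      have := Nat.le_of_dvd (by omega) h
      omega
    have h3 : q ^ (2 * m) - 1 = (q ^ m + 1) * (q ^ m - 1) := by
      rw [mul_comm 2 m, pow_mul]
      have := Nat.sq_sub_sq (q ^ m) 1
      rwa [one_pow] at this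
    rw [h3] at h1
    exact (hr.prime.dvd_mul.1 h1).resolve_right h2
  have hAinv : A * A ^ (q ^ m) = 1 := by
    rw [← pow_succ']
    obtain ⟨c, hc⟩ := hdvd
    rw [hc, hA, ← Units.val_pow_eq_pow_val, pow_mul, hgr, one_pow, Units.val_one]
  have hAB : ∀ u v, sympForm m F (A *ᵥ u) v = sympForm m F u (A ^ (q ^ m) *ᵥ v) := by
    intro u v
    have h1 := mem_spGL_iff.1 hg u (A ^ (q ^ m) *ᵥ v)
    rw [← hA, Matrix.mulVec_mulVec, hAinv, Matrix.one_mulVec] at h1
    exact h1
  intro k hk u v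
  obtain ⟨p, hp⟩ := exists_poly hirr (hcomm k hk)
  -- `k ^ (q ^ m) = k`
  have hkq : k ^ (q ^ m) = k := by
    let _ : Field K := (H912.isField_of_fieldSub hK).toField
    have hKfin : Finite K := Module.finite_of_finite F
    have := Fintype.ofFinite K
    have hcardK : Fintype.card K = q ^ 2 := by
      have h2 := Module.natCard_eq_pow_finrank (K := F) (V := K)
      rw [hK.finrank_eq, Nat.card_eq_fintype_card, Nat.card_eq_fintype_card] at h2
      exact h2
    obtain ⟨j, hj⟩ := hm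
    have hqm : q ^ m = Fintype.card K ^ j := by
      rw [hcardK, ← pow_mul, show 2 * j = m by omega]
    have h1 : (⟨k, hk⟩ : K) ^ (q ^ m) = ⟨k, hk⟩ := by
      rw [hqm]
      exact FiniteField.pow_card_pow j _
    have h2 := congrArg Subtype.val h1
    exact h2
  have h1 := adj_poly hAB p u v
  rw [← aeval_pow, ← hp, hkq] at h1
  exact h1

end Cfsg.Agent.H262.El
end

-- part: H262/ElSympMiss
section
/-!
# TEAM ELUSIVE, symplectic row, prime version
-/

set_option autoImplicit false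

namespace Cfsg.Agent.H262.El

open Cfsg Cfsg.Geo Module
open Cfsg.Agent.H884.El (PP Hits Miss oddE oddE_of_even oddE_of_odd oddE_odd exists_pp exists_ppp exists_elt exists_char
  one_lt_q lin)
open Cfsg.Agent.ClassicalGeometry.SympBasic Cfsg.Agent.H876 Cfsg.Agent.H931
open scoped Matrix MatrixGroups

universe u

variable {F : Type u} [Field F] [Fintype F] {m : ℕ}

/-- the large irreducible primes -/
theorem not_le_of_irr (hm : 2 ≤ m) {p f r : ℕ} (hp : p.Prime) (hf : 1 ≤ f) (hF : Fintype.card F = p ^ f)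
    (hr : Cfsg.Agent.H163.PG.Ppd p (f * (2 * m)) r) {H : Subgroup (GL (Fin m ⊕ Fin m) F)} (hdvd : r ∣ Nat.card H) :
    (∀ W : Submodule F (Fin m ⊕ Fin m → F), W ≠ ⊥ → W ≠ ⊤ → ¬ H ≤ subspaceStabilizer W) ∧
    (∀ (t k : ℕ) (D : Fin t → Submodule F (Fin m ⊕ Fin m → F)), IsMDecomposition k D →
      ¬ H ≤ decompositionStabilizer D) ∧
    (∀ (F₀ : Subfield F) (s : ℕ) (P : GL (Fin m ⊕ Fin m) F), s.Prime → Fintype.card F = Nat.card F₀ ^ s →
      ¬ H ≤ subfieldSubgroup F₀ P) ∧
    (∀ (k t : ℕ) (e : (Fin m ⊕ Fin m) ≃ (Fin t → Fin k)) (P : GL (Fin m ⊕ Fin m) F), 2 ≤ k → 2 ≤ t →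
      ¬ H ≤ tensorWreathSubgroup k t e P) := by
  have hfin : Finite (GL (Fin m ⊕ Fin m) F) := inferInstance
  have hod : Od (Fintype.card F) (2 * m) r := by
    rw [hF]
    exact Od.of_ppd hp hf (by omega) hr
  have hι : Fintype.card (Fin m ⊕ Fin m) = 2 * m := card_sum_fin
  have hirr : ∀ y : GL (Fin m ⊕ Fin m) F, y ^ r = 1 → y ≠ 1 → ∀ W : Submodule F (Fin m ⊕ Fin m → F),
      (∀ v ∈ W, (y : Matrix (Fin m ⊕ Fin m) (Fin m ⊕ Fin m) F) *ᵥ v ∈ W) → W = ⊥ ∨ W = ⊤ :=
    fun y h1 h2 => irr_of_od (by rw [hι]; exact hod) h1 h2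
  obtain ⟨y, hyH, hyr, hy1⟩ : ∃ y ∈ H, y ^ r = 1 ∧ y ≠ 1 := by
    have := Fact.mk hod.prime
    obtain ⟨g, hg⟩ := exists_prime_orderOf_dvd_card' r hdvd
    refine ⟨g, g.2, ?_, ?_⟩
    · rw [← Subgroup.coe_pow, ← hg, pow_orderOf_eq_one]; rfl
    · intro h1
      have hg2 : g = 1 := Subtype.ext h1
      rw [hg2, orderOf_one] at hg
      exact hod.prime.one_lt.ne hg
  refine ⟨fun W h0 h1 hH => ?_, fun t k D hD hH => ?_, fun F₀ s P hs hcard hH => ?_, fun k t e P hk ht hH => ?_⟩
  · exact not_mem_subspaceStabilizer_of_irr (hirr y hyr hy1) h0 h1 (hH hyH)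
  · have hyD := hH hyH
    have htk : t * k = 2 * m := by rw [Cfsg.Agent.H918.decomp_card hD, hι]
    have ht : t ≤ 2 * m := by
      rw [← htk]
      exact Nat.le_mul_of_pos_right t hD.pos
    have h1 := fixes_of_decomposition hD hyD hod.prime (lt_of_le_of_lt ht hod.lt) hyr ⟨0, by
      have := hD.two_le; omega⟩
    rcases hirr y hyr hy1 _ h1 with h2 | h2
    · exact Cfsg.Agent.H918.decomp_ne_bot hD _ h2
    · have h3 := hD.finrank_eq ⟨0, by have := hD.two_le; omega⟩
      rw [h2, finrank_top, Module.finrank_fintype_fun_eq_card, hι] at h3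
      have h4 := hD.two_le
      have h5 := hD.pos
      have h6 : 2 * k ≤ t * k := Nat.mul_le_mul_right k h4
      omega
  · apply hy1
    have hyD := hH hyH
    obtain ⟨f₀, hf₀1, hf₀, hfs⟩ : ∃ f₀ : ℕ, 1 ≤ f₀ ∧ Nat.card F₀ = p ^ f₀ ∧ f = f₀ * s := by
      have h1 : Nat.card F₀ ∣ p ^ f := by
        rw [← hF, hcard]
        exact dvd_pow_self _ hs.ne_zero
      obtain ⟨f₀, -, hf₀⟩ := (Nat.dvd_prime_pow hp).1 h1
      refine ⟨f₀, ?_, hf₀, ?_⟩
      · rcases Nat.eq_zero_or_pos f₀ with h0 | h0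
        · exfalso
          rw [h0, pow_zero] at hf₀
          rw [hf₀, one_pow] at hcard
          have := Fintype.one_lt_card (α := F)
          omega
        · exact h0
      · rw [hF, hf₀, ← pow_mul] at hcard
        exact Nat.pow_right_injective hp.two_le hcard
    have hdvd : ∀ j, r ∣ p ^ j - 1 ↔ f * (2 * m) ∣ j := hr.dvd_iff hp.one_lt.le
    have hs2 := hs.two_le
    refine eq_one_of_mem_subfieldSubgroup hyD hod.prime hyr ?_ ?_ ?_
    · intro h
      rw [hf₀] at h
      have h1 := hod.prime.dvd_of_dvd_pow h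
      apply hod.ndvd
      rw [hF]
      exact h1.trans (dvd_pow_self p (by omega))
    · rw [hF, hdvd]
      intro h
      have := Nat.le_of_dvd hf h
      nlinarith only [hm, hf, this]
    · intro j hj1 hj2
      rw [hf₀, ← pow_mul, hdvd]
      intro h
      have h1 := Nat.le_of_dvd (Nat.mul_pos hf₀1 hj1) h
      rw [hι] at hj2
      have h2 : f₀ * j ≤ f₀ * (2 * m) := Nat.mul_le_mul_left _ hj2
      have h3 : f₀ < f := by
        rw [hfs]
        nlinarith only [hf₀1, hs2]
      have h4 : f₀ * (2 * m) < f * (2 * m) := Nat.mul_lt_mul_of_pos_right h3 (by omega)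
      omega
  · apply hy1
    have hyD := hH hyH
    have hkt : k ^ t = 2 * m := by
      have h1 := Fintype.card_congr e
      rw [hι, Fintype.card_fun, Fintype.card_fin, Fintype.card_fin] at h1
      exact h1.symm
    have htm : t < 2 * m := by
      rw [← hkt]
      exact lt_of_lt_of_le Nat.lt_two_pow_self (Nat.pow_le_pow_left hk t)
    have hkm : k < 2 * m := by
      rw [← hkt]
      calc k = k ^ 1 := (pow_one k).symm
        _ < k ^ t := Nat.pow_lt_pow_right (by omega) (by omega)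
    refine eq_one_of_mem_tensorWreathSubgroup hyD hod.prime hyr (htm.trans hod.lt) hod.ndvd ?_
    intro j hj1 hj2
    rw [hod.dvd_iff Fintype.card_pos]
    intro h
    have := Nat.le_of_dvd hj1 h
    omega

/-- primes dividing the order of the normaliser of a symplectic type 2-group -/
theorem symp_prime {k : ℕ} {R H : Subgroup (GL (Fin m ⊕ Fin m) F)} (hm : 1 ≤ m)
    (hH : H ≤ subgroupNormalizer R) (habs : ActsAbsolutelyIrreducibly (matrixSet R)) (hR : IsSymplecticTypeGroup 2 R)
    (hk : 1 ≤ k) (hcard : Fintype.card (Fin m ⊕ Fin m) = 2 ^ k) (hZ : Nat.card (Subgroup.center R) = 2)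
    {t : ℕ} (ht : t.Prime) (hdvd : t ∣ Nat.card H) :
    t = 2 ∨ t ∣ Nat.card F - 1 ∨ t ≤ 2 ^ k + 1 := by
  have hfin : Finite (GL (Fin m ⊕ Fin m) F) := inferInstance
  have hne : Nonempty (Fin m ⊕ Fin m) := ⟨Sum.inl ⟨0, by omega⟩⟩
  have hpr := Fact.mk hR.prime
  have hcomm : ∀ x ∈ R, ∀ y ∈ R, x * y * x⁻¹ * y⁻¹ ∈ scalars (Fin m ⊕ Fin m) F := by
    intro x hx y hy
    exact H920.mem_scalars_of_mem_center habs (H921.commutator_mem_center hR (fun h => absurd h (by decide)) ⟨x, hx⟩ ⟨y, hy⟩)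
  have hpow : ∀ x ∈ R, x ^ 2 ∈ scalars (Fin m ⊕ Fin m) F := by
    have hexp : Monoid.exponent R = 4 := by rw [hR.exponent_eq]; norm_num
    have h4 : ∀ q : R, q ^ 4 = 1 := fun q => by rw [← hexp]; exact Monoid.pow_exponent_eq_one q
    have : Nontrivial (Subgroup.center R) := Finite.one_lt_card_iff_nontrivial.1 (by rw [hZ]; norm_num)
    obtain ⟨z, hz⟩ := exists_ne (1 : Subgroup.center R)
    have hz2 : orderOf z = 2 := by
      have h1 : orderOf z ∣ 2 := by rw [← hZ]; exact orderOf_dvd_natCard z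
      rcases (Nat.dvd_prime Nat.prime_two).1 h1 with h2 | h2
      · exact absurd (orderOf_eq_one_iff.1 h2) hz
      · exact h2
    have hz2' : orderOf (z : R) = 2 := by rw [Subgroup.orderOf_coe, hz2]
    intro x hx
    have hst := (Cfsg.Agent.ClassificationK.SymplecticExpFour.structure_exp_four
      ⟨hR.pGroup, hR.cyclic_of_characteristic⟩ h4 hz2' z.2).2.1 ⟨x, hx⟩
    rcases hst with h | h
    · have h5 : x ^ 2 = 1 := congrArg Subtype.val h
      rw [h5]; exact Subgroup.one_mem _
    · have h5 : x ^ 2 = ((z : R) : GL (Fin m ⊕ Fin m) F) := congrArg Subtype.val h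
      rw [h5]; exact H920.mem_scalars_of_mem_center habs z.2
  obtain ⟨C⟩ := H920.exists_coord habs hcomm hR.prime hk hpow hcard
  exact H251.GeoCard.of_coord hR.prime hR.pGroup habs C ht (hdvd.trans (Subgroup.card_dvd_of_le hH))

/-- the special overgroups: `O^±_2m(q)` for `m`, `q` even, and `Sp_2(q²).2` in `Sp_4(q)` -/
def Spec (m : ℕ) (F : Type u) [Field F] [Fintype F] (H : Subgroup (GL (Fin m ⊕ Fin m) F)) : Prop :=
  (Even m ∧ Even (Fintype.card F) ∧ ∃ Q : (Fin m ⊕ Fin m → F) → F, IsNondegenerateQuadraticForm Q ∧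
    (∀ u v, QuadraticMap.polar Q u v = sympForm m F u v) ∧ H ≤ isometryGroup F Q) ∨
  (m = 2 ∧ ∃ K : Subalgebra F (Matrix (Fin m ⊕ Fin m) (Fin m ⊕ Fin m) F), IsFieldSubalgebra 2 K ∧
    IsSelfAdjointFor (sympForm m F) K ∧ H ≤ subalgebraNormalizer K)

omit [Fintype F] in
theorem mem_isometry {Q : (Fin m ⊕ Fin m → F) → F} (hm : 1 ≤ m)
    (hQ : ∀ u v, QuadraticMap.polar Q u v = sympForm m F u v) {g : GL (Fin m ⊕ Fin m) F}
    (h1 : g ∈ quadSimilarityGroup Q) (h2 : g ∈ spGL m F) : g ∈ isometryGroup F Q := by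
  obtain ⟨c, hc⟩ := h1
  have hpol : ∀ u v, sympForm m F u v = (c : F) * sympForm m F u v := by
    intro u v
    conv_lhs => rw [← mem_spGL_iff.1 h2 u v, ← hQ, QuadraticMap.polar, ← Matrix.mulVec_add, hc, hc, hc]
    rw [← hQ, QuadraticMap.polar]
    ring
  have hv0 : (Pi.single (Sum.inl ⟨0, by omega⟩) 1 : Fin m ⊕ Fin m → F) ≠ 0 := by
    intro h0
    have := congrFun h0 (Sum.inl ⟨0, by omega⟩)
    simp at this
  obtain ⟨x, hx0⟩ : ∃ x, sympForm m F x (Pi.single (Sum.inl ⟨0, by omega⟩) 1) ≠ 0 := by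
    by_contra hcon
    push Not at hcon
    exact hv0 (eq_zero_of_forall_sympForm_left hcon)
  have hc1 : (c : F) = 1 := by
    have h3 := hpol x (Pi.single (Sum.inl ⟨0, by omega⟩) 1)
    have h4 : ((c : F) - 1) * sympForm m F x (Pi.single (Sum.inl ⟨0, by omega⟩) 1) = 0 := by
      rw [sub_mul, one_mul, ← h3, sub_self]
    exact sub_eq_zero.1 ((mul_eq_zero.1 h4).resolve_right hx0)
  rw [H925.mem_iso_iff]
  intro v
  rw [hc, hc1, one_mul]

/-- **The symplectic row, primes.** -/
theorem row_symp (hm : 2 ≤ m) (h22 : ¬ (m = 2 ∧ Fintype.card F = 2)) (h32 : ¬ (m = 3 ∧ Fintype.card F = 2))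
    (h23 : ¬ (m = 2 ∧ Fintype.card F = 3))
    {H M : Subgroup (GL (Fin m ⊕ Fin m) F)} (hM : InSymplecticClass m F M) (hHM : H ≤ M)
    (h1 : Hits H (2 * m)) (h2 : 3 ≤ m → Hits H (2 * m - 2)) (h3 : 3 ≤ m → Hits H (oddE m))
    (hchar : ∀ p : ℕ, p.Prime → p ≠ 2 → p ∣ Fintype.card F → p ∣ Nat.card H) : Spec m F H := by
  have hq := one_lt_q F
  obtain ⟨p, f, hp, hf, hpF⟩ := exists_char F
  have hpF' : Fintype.card F = p ^ f := by rw [← hpF, Nat.card_eq_fintype_card]
  have hι : Fintype.card (Fin m ⊕ Fin m) = 2 * m := card_sum_fin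
  have hne : Nonempty (Fin m ⊕ Fin m) := ⟨Sum.inl ⟨0, by omega⟩⟩
  obtain ⟨r, hr⟩ := Cfsg.Agent.H163.PG.exists_ppd (p := p) (f := f) (k := 2 * m) hp.two_le
    (by nlinarith only [hm, hf]) (by
      rintro ⟨h2, h6⟩
      apply h32
      have h3 : f * m = 3 := by
        have : f * (2 * m) = 2 * (f * m) := by ring
        omega
      have h4 : m ∣ 3 := Dvd.intro_left f h3
      have h5 : m = 3 := by
        rcases (Nat.dvd_prime Nat.prime_three).1 h4 with h | h
        · omega
        · exact h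
      have h6 : f = 1 := by subst h5; omega
      exact ⟨h5, by rw [hpF', h2, h6, pow_one]⟩)
  have hod : Od (Fintype.card F) (2 * m) r := by
    rw [hpF']
    exact Od.of_ppd hp hf (by omega) hr
  have hrq : PP (Nat.card F) (2 * m) r := pp_of_od hod
  have hrH := h1 r hrq
  obtain ⟨k1, k2, k5, k7⟩ := not_le_of_irr hm hp hf hpF' hr hrH
  obtain ⟨g, hgH, hgr, hg1⟩ : ∃ g ∈ H, g ^ r = 1 ∧ g ≠ 1 := by
    have := Fact.mk hod.prime
    have hfin : Finite (GL (Fin m ⊕ Fin m) F) := inferInstance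
    obtain ⟨g, hg⟩ := exists_prime_orderOf_dvd_card' r hrH
    refine ⟨g, g.2, ?_, ?_⟩
    · rw [← Subgroup.coe_pow, ← hg, pow_orderOf_eq_one]; rfl
    · intro h1
      have hg2 : g = 1 := Subtype.ext h1
      rw [hg2, orderOf_one] at hg
      exact hod.prime.one_lt.ne hg
  -- quadratic fields, `m ≥ 3`
  have kfield : ∀ (s : ℕ) (K : Subalgebra F (Matrix (Fin m ⊕ Fin m) (Fin m ⊕ Fin m) F)), s.Prime →
      IsFieldSubalgebra s K → H ≤ subalgebraNormalizer K → H ≤ spGL m F → m = 2 ∧ s = 2 := by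
    intro s K hs hK hHK hHI
    have hsn : s ∣ 2 * m := by
      let _ : Field K := (H912.isField_of_fieldSub hK).toField
      have hfr99 : Module.Free K (Fin m ⊕ Fin m → F) := Module.Free.of_divisionRing _ _
      have hst99 : IsScalarTower F K (Fin m ⊕ Fin m → F) := by first | exact Subalgebra.isScalarTower_mid _ | infer_instance
      have h5 := Module.finrank_mul_finrank F K (Fin m ⊕ Fin m → F)
      rw [hK.finrank_eq, Module.finrank_fintype_fun_eq_card, hι] at h5
      exact Dvd.intro _ h5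
    by_cases hm2 : m = 2
    · refine ⟨hm2, ?_⟩
      rw [hm2] at hsn
      have : s ∣ 2 ^ 2 := by norm_num; exact hsn
      exact (Nat.prime_dvd_prime_iff_eq hs Nat.prime_two).1 (hs.dvd_of_dvd_pow this)
    · exfalso
      have hm3 : 3 ≤ m := by omega
      have hs2 : s = 2 := by
        by_cases hexc : Nat.card F = 2 ∧ 2 * m - 2 = 6
        · have hm4 : m = 4 := by omega
          rw [hm4] at hsn
          have : s ∣ 2 ^ 3 := by norm_num; exact hsn
          exact (Nat.prime_dvd_prime_iff_eq hs Nat.prime_two).1 (hs.dvd_of_dvd_pow this)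
        · obtain ⟨r₁, hr₁⟩ := exists_pp (q := Nat.card F) (e := 2 * m - 2) (by omega) (by omega) hexc
          have h5 := H884.El.ext_cases hs hK hHK (by rw [hι]; exact hsn) hr₁ (by rw [hι]; omega) (h2 hm3 _ hr₁)
          exact H884.El.eq_two (by omega) hs hsn (hr₁.lt (by omega)) h5
      subst hs2
      have ho3 := oddE_odd (m := m) (by omega)
      have he33 : 3 ≤ oddE m := by
        rcases Nat.even_or_odd m with he | ho
        · rw [oddE_of_even he]
          obtain ⟨k, hk⟩ := he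
          omega
        · rw [oddE_of_odd ho]; exact hm3
      have he3n : 2 * m < 4 * oddE m := by
        rcases Nat.even_or_odd m with he | ho
        · rw [oddE_of_even he]; omega
        · rw [oddE_of_odd ho]; omega
      obtain ⟨r₃, hr₃⟩ := exists_pp (q := Nat.card F) (e := oddE m) (by omega) he33 (by
        rintro ⟨-, h⟩
        rw [h] at ho3
        exact absurd ho3 (by decide))
      have hfin : Finite (GL (Fin m ⊕ Fin m) F) := inferInstance
      have := Fact.mk hr₃.prime
      obtain ⟨z, hz⟩ := exists_prime_orderOf_dvd_card' r₃ (h3 hm3 _ hr₃)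
      refine no_quadratic_symp (g := (z : GL (Fin m ⊕ Fin m) F)) (hHI z.2) hr₃ ho3 he33 he3n ?_ ?_ hK (hHK z.2)
      · rw [← Subgroup.coe_pow, ← hz, pow_orderOf_eq_one]; rfl
      · intro h1
        have hg2 : z = 1 := Subtype.ext h1
        rw [hg2, orderOf_one] at hz
        exact hr₃.prime.one_lt.ne hz
  rcases hM with hM | hM | hM | hM | hM
  · rcases hM with hM | hM | hM | hM | hM | hM | hM
    · obtain ⟨W, hW0, hW, rfl⟩ := hM
      exact absurd (hHM.trans inf_le_left) (k1 W hW0 (totallySingular_ne_top (by omega) hW))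
    · obtain ⟨W, hW0, hW, hW2, rfl⟩ := hM
      refine absurd (hHM.trans inf_le_left) (k1 W hW0 ?_)
      rintro rfl
      rw [finrank_top, Module.finrank_fintype_fun_eq_card, hι] at hW2
      omega
    · obtain ⟨t, k, D, hD, rfl⟩ := hM
      exact absurd (hHM.trans inf_le_left) (k2 t k D hD.decomp)
    · obtain ⟨D, -, hD, -, rfl⟩ := hM
      exact absurd (hHM.trans inf_le_left) (k2 2 m D hD)
    · obtain ⟨F₀, s, P, ζ, hs, hcard, -, -, rfl⟩ := hM
      exact absurd (hHM.trans inf_le_left) (k5 F₀ s P hs hcard)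
    · obtain ⟨R, p', k, hR, habs, -, hp', hodd, hFp, hRc, hZ, -, rfl⟩ := hM
      exfalso
      have hfin : Finite (GL (Fin m ⊕ Fin m) F) := inferInstance
      have hcard := Cfsg.Agent.H921.card_eq_pow_of_center_prime hR habs hZ hRc
      have hk : 1 ≤ k := by
        rcases Nat.eq_zero_or_pos k with h | h
        · rw [h, pow_zero, hι] at hcard
          omega
        · exact h
      have hHR : H ≤ subgroupNormalizer R := hHM.trans inf_le_left
      have hsp : ∀ {t : ℕ}, t.Prime → t ∣ Nat.card H → t = 2 ∨ t ∣ Nat.card F - 1 ∨ t ≤ 2 ^ k + 1 := fun ht hd =>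
        symp_prime (by omega) hHR habs hR hk hcard hZ ht hd
      have hpp : ∀ {e t : ℕ}, 2 ≤ e → PP (Nat.card F) e t → t ∣ Nat.card H → t ≤ 2 * m + 1 := by
        intro e t he ht hd
        have hlt := ht.lt (by omega)
        rcases hsp ht.prime hd with h | h | h
        · omega
        · have h5 : t ∣ Nat.card F ^ 1 - 1 := by rwa [pow_one]
          rw [ht.dvd_iff (by omega)] at h5
          have := Nat.le_of_dvd one_pos h5
          omega
        · rwa [← hcard, hι] at h
      have hF2 : Nat.card F ≠ 2 := by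
        rw [Nat.card_eq_fintype_card, hFp]
        rintro rfl
        exact absurd hodd (by decide)
      by_cases hm2 : m = 2
      · -- `p' ≤ 5`
        have hp5 : p' ≤ 5 := by
          rcases hsp hp' (hchar p' hp' (by rintro rfl; exact absurd hodd (by decide)) (by rw [hFp])) with h | h | h
          · omega
          · rw [Nat.card_eq_fintype_card, hFp] at h
            have := Nat.le_of_dvd (by have := hp'.two_le; omega) h
            have := hp'.two_le
            omega
          · rw [← hcard, hι, hm2] at h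
            exact h
        have hp3 : p' ≠ 3 := by
          rintro rfl
          exact h23 ⟨hm2, hFp⟩
        have hp2 : p' ≠ 2 := by
          rintro rfl
          exact absurd hodd (by decide)
        have hp4 : p' ≠ 4 := by
          rintro rfl
          exact absurd hp' (by norm_num)
        have := hp'.two_le
        have hp55 : p' = 5 := by omega
        have h13 : PP (Nat.card F) (2 * m) 13 := by
          rw [Nat.card_eq_fintype_card, hFp, hp55, hm2]
          refine ⟨by norm_num, ?_⟩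
          have h := orderOf_eq_prime_pow (x := ((5 : ℕ) : ZMod 13)) (p := 2) (n := 1) (by decide) (by decide)
          rw [h]
          norm_num
        have := hpp (by omega) h13 (h1 _ h13)
        omega
      · have hm3 : 3 ≤ m := by omega
        have hme : Even m := by
          rw [hι] at hcard
          match k, hcard with
          | 0, h => rw [pow_zero] at h; omega
          | 1, h => omega
          | k + 2, h =>
            rw [pow_succ, pow_succ] at h
            exact ⟨2 ^ k, by omega⟩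
        have hm4 : 4 ≤ m := by
          obtain ⟨c, hc⟩ := hme
          omega
        obtain ⟨r₁, hr₁⟩ := exists_pp (q := Nat.card F) (e := 2 * m - 2) (by omega) (by omega) (fun h => hF2 h.1)
        obtain ⟨r₃, hr₃⟩ := exists_pp (q := Nat.card F) (e := m - 1) (by omega) (by omega) (fun h => hF2 h.1)
        have h5 := hpp (by omega) hr₁ (h2 hm3 _ hr₁)
        have h6 := hpp (by omega) hr₃ (by
          have := h3 hm3
          rw [oddE_of_even hme] at this
          exact this _ hr₃)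
        exact H884.El.false_of_even hm4 hme hr₁ hr₃ (by omega) (by omega)
    · obtain ⟨Q, hodd, hQ, hpol, rfl⟩ := hM
      have hHQ : H ≤ isometryGroup F Q := fun h hh =>
        mem_isometry (by omega) hpol (hHM hh).1 (hHM hh).2
      by_cases hme : Even m
      · exact Or.inl ⟨hme, Nat.not_odd_iff_even.1 hodd, Q, hQ, hpol, hHQ⟩
      exfalso
      have hmo : Odd m := Nat.not_even_iff_odd.1 hme
      have hm3 : 3 ≤ m := by
        obtain ⟨k, hk⟩ := hmo
        omega
      obtain ⟨Q', hQ', hnd⟩ := Cfsg.Agent.H883.Bridge.exists_quadraticForm hQ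
      have hfin : finrank F (Fin m ⊕ Fin m → F) = 2 * m := by rw [Module.finrank_fintype_fun_eq_card, hι]
      rw [← hQ'] at hHQ
      obtain ⟨x, hxH, hiso, -, hx1⟩ := exists_elt hHQ hrq (by omega) hrH
      obtain ⟨hcm, hcmP⟩ := hiso.even_case hnd (H884.El.lin_ne_one hx1) hrq (even_two_mul m) (by omega)
      obtain ⟨r₃, hr₃⟩ := exists_pp (q := Nat.card F) (e := m) (by omega) hm3 (by
        rintro ⟨-, h⟩
        rw [h] at hmo
        exact absurd hmo (by decide))
      have h3' := h3 hm3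
      rw [oddE_of_odd hmo] at h3'
      obtain ⟨z, hzH, hziso, -, hz1⟩ := exists_elt hHQ hr₃ (by omega) (h3' _ hr₃)
      obtain ⟨hzcm, hzP, -⟩ := hziso.odd_case hnd (H884.El.lin_ne_one hz1) hr₃ hmo (by omega)
      have e1 : H951.cm (lin x) = ⊤ := Submodule.eq_top_of_finrank_eq (by rw [hcm, hfin])
      have e2 : H951.cm (lin z) = ⊤ := Submodule.eq_top_of_finrank_eq (by rw [hzcm, hfin])
      rw [e1] at hcmP
      rw [e2] at hzP
      exact hcmP hzP
  · obtain ⟨s, K, hs, hK, hsa, -, rfl⟩ := hM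
    obtain ⟨hm2, rfl⟩ := kfield s K hs hK (hHM.trans inf_le_left) (hHM.trans inf_le_right)
    exact Or.inr ⟨hm2, K, hK, hsa, hHM.trans inf_le_left⟩
  · obtain ⟨K, -, hK, -, hnsa, rfl⟩ := hM
    exfalso
    obtain ⟨hm2, -⟩ := kfield 2 K Nat.prime_two hK (hHM.trans inf_le_left) (hHM.trans inf_le_right)
    exact hnsa (selfAdjoint_of_irr (by rw [hm2]; decide) (by omega) (hHM hgH).2 hrq hgr hg1 hK (hHM hgH).1)
  · obtain ⟨n₁, n₂, e, P, f₁, f₂, -, hn2, hf₁, -, -, rfl⟩ := hM
    exfalso
    have hc := Fintype.card_congr e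
    rw [hι, Fintype.card_prod, Fintype.card_fin, Fintype.card_fin] at hc
    refine H884.El.kill_tensor e P (hHM.trans inf_le_left) (two_le_of_symp hf₁ ?_) (by omega) (by rw [hι, hc]) hrq
      (by rw [hι]; omega) hrH
    rintro rfl
    rw [zero_mul] at hc
    omega
  · obtain ⟨k, t, e, P, f₁, -, -, ht, -, hf₁, -, rfl⟩ := hM
    refine absurd (hHM.trans inf_le_left) (k7 k t e P (two_le_of_symp hf₁ ?_) (by omega))
    rintro rfl
    have h1 := Fintype.card_congr e
    rw [hι, Fintype.card_fun, Fintype.card_fin, Fintype.card_fin, zero_pow (by omega)] at h1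
    omega

/-! ### `PSp` -/

theorem card_pre_eq (R : Subgroup (PSp m F)) : Nat.card R ∣ Nat.card (pre R) := by
  have hfin : Finite (GL (Fin m ⊕ Fin m) F) := inferInstance
  have h1 : Nat.card (pre R) =
      Nat.card (R.comap (QuotientGroup.mk' (Subgroup.center (Matrix.symplecticGroup (Fin m) F)))) := by
    unfold pre
    rw [Subgroup.card_map_of_injective spToGL_injective]
  rw [h1]
  have h2 : R = (R.comap (QuotientGroup.mk' (Subgroup.center (Matrix.symplecticGroup (Fin m) F)))).map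
      (QuotientGroup.mk' (Subgroup.center (Matrix.symplecticGroup (Fin m) F))) :=
    (Subgroup.map_comap_eq_self_of_surjective (QuotientGroup.mk'_surjective _) R).symm
  conv_lhs => rw [h2]
  exact Subgroup.card_map_dvd _ _

/-- odd primes dividing `|Sp|` divide `|PSp|`. -/
theorem dvd_card_PSp (hm : 1 ≤ m) {r : ℕ} (hr : r.Prime) (hr2 : r ≠ 2) (h : r ∣ Nat.card (spGL m F)) :
    r ∣ Nat.card (PSp m F) := by
  have h1 : Nat.card (spGL m F) = Nat.card (Matrix.symplecticGroup (Fin m) F) := by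
    have h2 : spGL m F = (⊤ : Subgroup (Matrix.symplecticGroup (Fin m) F)).map (spToGL m F) := by
      ext g
      constructor
      · intro hg
        obtain ⟨A, rfl⟩ := exists_spToGL hg
        exact ⟨A, trivial, rfl⟩
      · rintro ⟨A, -, rfl⟩
        exact spToGL_mem A
    rw [h2, Subgroup.card_map_of_injective spToGL_injective, Subgroup.card_top]
  rw [h1, Subgroup.card_eq_card_quotient_mul_card_subgroup
    (Subgroup.center (Matrix.symplecticGroup (Fin m) F)), Cfsg.Agent.S0246.result (q := Fintype.card F) rfl m hm] at h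
  rcases hr.dvd_mul.1 h with h2 | h2
  · exact h2
  · exfalso
    have h3 : r ∣ 2 := h2.trans (Nat.gcd_dvd_left _ _)
    exact hr2 ((Nat.prime_dvd_prime_iff_eq hr Nat.prime_two).1 h3)

/-- **Prime version of the symplectic row.** A proper subgroup `R` of `PSp_2m(q)`, `(m, q) ≠ (2, 2), (3, 2), (2, 3)`:
some prime divisor of `|PSp_2m(q)|` does not divide `|R|`, or the preimage of `R` is in the residual class, or it
fixes a quadratic form (`m`, `q` even), or it normalises a self-adjoint quadratic field (`m = 2`). -/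
theorem psp_miss (hm : 2 ≤ m) (h22 : ¬ (m = 2 ∧ Fintype.card F = 2)) (h32 : ¬ (m = 3 ∧ Fintype.card F = 2))
    (h23 : ¬ (m = 2 ∧ Fintype.card F = 3)) {R : Subgroup (PSp m F)} (hR : R ≠ ⊤) :
    Miss R ∨ InSymplecticResidualClass (pre R) ∨ Spec m F (pre R) := by
  by_cases hM : Miss R
  · exact Or.inl hM
  right
  have hfull : ∀ r : ℕ, r.Prime → r ≠ 2 → r ∣ Nat.card (spGL m F) → r ∣ Nat.card (pre R) := by
    intro r hr hr2 h
    refine dvd_trans ?_ (card_pre_eq R)
    by_contra h1
    exact hM ⟨r, hr, dvd_card_PSp (by omega) hr hr2 h, h1⟩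
  have hhits : ∀ e k : ℕ, 2 ≤ e → e ∣ 2 * k → 1 ≤ k → k ≤ m → Hits (pre R) e := by
    intro e k he hek hk hkm r hr
    have hr2 : r ≠ 2 := by have := hr.lt (by omega); omega
    exact hfull r hr.prime hr2 (dvd_card_spGL (by omega) (od_of_pp hr (by omega)) hek hk hkm)
  rcases Cfsg.Agent.S5662.result m hm h22 (pre R) (pre_le R) (by
    rw [sup_eq_left.2 (scalars_le_pre R)]
    exact pre_ne hR) with ⟨M, hM', hle⟩ | h
  · right
    refine row_symp hm h22 h32 h23 hM' hle (hhits _ m (by omega) dvd_rfl (by omega) le_rfl)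
      (fun h3 => hhits _ (m - 1) (by omega) (by rw [show 2 * m - 2 = 2 * (m - 1) by omega]) (by omega) (by omega))
      (fun h3 => ?_) ?_
    · rcases Nat.even_or_odd m with he | ho
      · rw [oddE_of_even he]
        exact hhits _ (m - 1) (by omega) (Dvd.intro_left 2 rfl) (by omega) (by omega)
      · rw [oddE_of_odd ho]
        exact hhits _ m (by omega) (Dvd.intro_left 2 rfl) (by omega) le_rfl
    · intro p hp hp2 hpF
      have hcard : Nat.card F ∣ Nat.card (spGL m F) := by
        rw [Cfsg.Agent.H955.card_spGL]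
        exact (dvd_pow_self _ (by nlinarith)).mul_right _
      rw [← Nat.card_eq_fintype_card] at hpF
      exact hfull p hp hp2 (hpF.trans hcard)
  · exact Or.inl h

end Cfsg.Agent.H262.El
end
end

-- part: H262/ElFourA
section
prune_inst 0x1000440180000000018008023201c4286000590004800000000004004800c2020c02021b130001292880c456830006000100100420000000a000000011800800000000001000000000000000000000000000000000000000000000000010004000000000
set_option linter.all false
open scoped Cfsg.Agent.FastGrp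

/-!
# TEAM ELUSIVE: `PSp_4(q)`, `q` even: the regular element of prime order `r ≥ 5` dividing `q² - 1`
-/

set_option autoImplicit false

namespace Cfsg.Agent.H262.ElFour

open Cfsg Cfsg.Geo Module
open Cfsg.Agent.ClassicalGeometry.SympBasic Cfsg.Agent.H876 Cfsg.Agent.H931 Cfsg.Agent.H262.El
open scoped Matrix MatrixGroups

universe u

variable {F : Type u} [Field F] {m : ℕ}

/-- block sum of `2 × 2` matrices -/
def tm (A : Fin m → Matrix (Fin 2) (Fin 2) F) : Matrix (Fin m ⊕ Fin m) (Fin m ⊕ Fin m) F :=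
  Matrix.fromBlocks (Matrix.diagonal fun i => A i 0 0) (Matrix.diagonal fun i => A i 0 1)
    (Matrix.diagonal fun i => A i 1 0) (Matrix.diagonal fun i => A i 1 1)

theorem tm_mul (A B : Fin m → Matrix (Fin 2) (Fin 2) F) : tm (fun i => A i * B i) = tm A * tm B := by
  simp only [tm, Matrix.fromBlocks_multiply, Matrix.mul_apply, Fin.sum_univ_two, Matrix.diagonal_mul_diagonal,
    Matrix.diagonal_add]

theorem tm_one : tm (fun _ : Fin m => (1 : Matrix (Fin 2) (Fin 2) F)) = 1 := by
  simp [tm]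

theorem tm_mem (A : Fin m → Matrix.SpecialLinearGroup (Fin 2) F) :
    tm (fun i => (A i : Matrix (Fin 2) (Fin 2) F)) ∈ Matrix.symplecticGroup (Fin m) F := by
  have h : ∀ i, (A i).1 0 0 * (A i).1 1 1 - (A i).1 0 1 * (A i).1 1 0 = 1 := fun i => by
    rw [← Matrix.det_fin_two]; exact (A i).2
  rw [tm, SymplecticGroup.fromBlocks_mem_iff]
  refine ⟨?_, ?_, ?_⟩
  · simp only [Matrix.diagonal_transpose, Matrix.diagonal_mul_diagonal, mul_comm, _root_.Fin.isValue]
  · simp only [Matrix.diagonal_transpose, Matrix.diagonal_mul_diagonal, mul_comm, _root_.Fin.isValue]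
  · rw [Matrix.diagonal_transpose, Matrix.diagonal_transpose, Matrix.diagonal_mul_diagonal,
      Matrix.diagonal_mul_diagonal, Matrix.diagonal_sub, ← Matrix.diagonal_one]
    congr 1
    funext i
    linear_combination h i

/-- the homomorphism from `SL₂ ^ m` -/
noncomputable def tHom (m : ℕ) : (Fin m → Matrix.SpecialLinearGroup (Fin 2) F) →* Matrix.symplecticGroup (Fin m) F where
  toFun A := ⟨tm fun i => (A i : Matrix (Fin 2) (Fin 2) F), tm_mem A⟩
  map_one' := Subtype.ext (by
    change tm (fun i => ((1 : Fin m → Matrix.SpecialLinearGroup (Fin 2) F) i : Matrix (Fin 2) (Fin 2) F)) = 1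
    simp only [Pi.one_apply, Matrix.SpecialLinearGroup.coe_one]
    exact tm_one)
  map_mul' A B := Subtype.ext (by
    change tm (fun i => ((A * B) i : Matrix (Fin 2) (Fin 2) F)) = tm _ * tm _
    simp only [Pi.mul_apply, Matrix.SpecialLinearGroup.coe_mul]
    exact tm_mul _ _)

theorem tm_inl (A : Fin m → Matrix (Fin 2) (Fin 2) F) (v : Fin m ⊕ Fin m → F) (i : Fin m) :
    (tm A *ᵥ v) (Sum.inl i) = A i 0 0 * v (Sum.inl i) + A i 0 1 * v (Sum.inr i) := by
  rw [tm, Matrix.fromBlocks_mulVec]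
  simp only [Sum.elim_inl, Pi.add_apply, Matrix.mulVec_diagonal, Function.comp_apply]

theorem tm_inr (A : Fin m → Matrix (Fin 2) (Fin 2) F) (v : Fin m ⊕ Fin m → F) (i : Fin m) :
    (tm A *ᵥ v) (Sum.inr i) = A i 1 0 * v (Sum.inl i) + A i 1 1 * v (Sum.inr i) := by
  rw [tm, Matrix.fromBlocks_mulVec]
  simp only [Sum.elim_inr, Pi.add_apply, Matrix.mulVec_diagonal, Function.comp_apply]

/-- no fixed vectors -/
theorem tm_noFix {A : Fin m → Matrix (Fin 2) (Fin 2) F} (h : ∀ i, (A i - 1).det ≠ 0) {v : Fin m ⊕ Fin m → F}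
    (hv : tm A *ᵥ v = v) : v = 0 := by
  have key : ∀ i, (A i - 1) *ᵥ ![v (Sum.inl i), v (Sum.inr i)] = 0 := by
    intro i
    have h1 := congrFun hv (Sum.inl i)
    have h2 := congrFun hv (Sum.inr i)
    rw [tm_inl] at h1
    rw [tm_inr] at h2
    have e1 : (A i 0 0 - 1) * v (Sum.inl i) + A i 0 1 * v (Sum.inr i) = 0 := by linear_combination h1
    have e2 : A i 1 0 * v (Sum.inl i) + (A i 1 1 - 1) * v (Sum.inr i) = 0 := by linear_combination h2
    rw [sub_one_eq]
    funext j
    fin_cases j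
    · simpa only [Matrix.mulVec, dotProduct, Fin.sum_univ_two, _root_.Nat.succ_eq_add_one, _root_.Nat.reduceAdd, _root_.Fin.isValue, _root_.Fin.zero_eta, _root_.Matrix.of_apply, _root_.Matrix.cons_val', _root_.Matrix.cons_val_fin_one, _root_.Matrix.cons_val_zero, _root_.Matrix.cons_val_one, _root_.Pi.zero_apply] using e1
    · simpa only [Matrix.mulVec, dotProduct, Fin.sum_univ_two, _root_.Nat.succ_eq_add_one, _root_.Nat.reduceAdd, _root_.Fin.isValue, _root_.Fin.mk_one, _root_.Matrix.of_apply, _root_.Matrix.cons_val', _root_.Matrix.cons_val_fin_one, _root_.Matrix.cons_val_one, _root_.Matrix.cons_val_zero, _root_.Pi.zero_apply] using e2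
  funext k
  have h0 : ∀ i, ![v (Sum.inl i), v (Sum.inr i)] = 0 := fun i =>
    Matrix.eq_zero_of_mulVec_eq_zero (h i) (key i)
  rcases k with i | i
  · exact congrFun (h0 i) 0
  · exact congrFun (h0 i) 1

/-- the element `A ⊕ A²` -/
noncomputable def el (A : Matrix.SpecialLinearGroup (Fin 2) F) : Matrix.symplecticGroup (Fin 2) F :=
  tHom 2 ![A, A ^ 2]

theorem el_pow {A : Matrix.SpecialLinearGroup (Fin 2) F} {r : ℕ} (hA : A ^ r = 1) : el A ^ r = 1 := by
  rw [el, ← map_pow]
  have : (![A, A ^ 2] ^ r : Fin 2 → Matrix.SpecialLinearGroup (Fin 2) F) = 1 := by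
    funext i
    fin_cases i
    · simpa only [_root_.Nat.succ_eq_add_one, _root_.Nat.reduceAdd, _root_.Fin.zero_eta, _root_.Fin.isValue, _root_.Pi.pow_apply, _root_.Matrix.cons_val_zero, _root_.Pi.one_apply] using hA
    · have : (A ^ 2) ^ r = 1 := by rw [← pow_mul, mul_comm, pow_mul, hA, one_pow]
      simpa only [_root_.Nat.succ_eq_add_one, _root_.Nat.reduceAdd, _root_.Fin.mk_one, _root_.Fin.isValue, _root_.Pi.pow_apply, _root_.Matrix.cons_val_one, _root_.Matrix.cons_val_fin_one, _root_.Pi.one_apply] using this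
  rw [this, map_one]

theorem el_coe (A : Matrix.SpecialLinearGroup (Fin 2) F) :
    ((el A : Matrix.symplecticGroup (Fin 2) F) : Matrix (Fin 2 ⊕ Fin 2) (Fin 2 ⊕ Fin 2) F) =
      tm ![(A : Matrix (Fin 2) (Fin 2) F), (A : Matrix (Fin 2) (Fin 2) F) ^ 2] := by
  change tm _ = tm _
  congr 1
  funext i
  fin_cases i <;> simp

theorem el_noFix {A : Matrix.SpecialLinearGroup (Fin 2) F} {r : ℕ} (hr : r.Prime) (h5 : 3 ≤ r) (hA : A ^ r = 1)
    (hA1 : A ≠ 1) (hrF : (r : F) ≠ 0) {v : Fin 2 ⊕ Fin 2 → F}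
    (hv : ((el A : Matrix.symplecticGroup (Fin 2) F) : Matrix (Fin 2 ⊕ Fin 2) (Fin 2 ⊕ Fin 2) F) *ᵥ v = v) : v = 0 := by
  rw [el_coe] at hv
  refine tm_noFix (fun i => ?_) hv
  have hp : ∀ B : Matrix.SpecialLinearGroup (Fin 2) F, B ^ r = 1 → B ≠ 1 →
      ((B : Matrix (Fin 2) (Fin 2) F) - 1).det ≠ 0 := fun B h1 h2 =>
    sl2_no_fix B.2 (by rw [← Matrix.SpecialLinearGroup.coe_pow, h1, Matrix.SpecialLinearGroup.coe_one])
      (fun h => h2 (Subtype.ext (h.trans Matrix.SpecialLinearGroup.coe_one.symm))) hrF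
  fin_cases i
  · exact hp A hA hA1
  · have h2 : A ^ 2 ≠ 1 := by
      intro h2
      have h3 := Nat.dvd_gcd (orderOf_dvd_of_pow_eq_one hA) (orderOf_dvd_of_pow_eq_one h2)
      have h4 : Nat.gcd r 2 = 1 := by
        rw [Nat.coprime_primes hr Nat.prime_two |>.2 (by omega)]
      rw [h4] at h3
      exact hA1 (orderOf_eq_one_iff.1 (Nat.dvd_one.1 h3))
    have h3 := hp (A ^ 2) (by rw [← pow_mul, mul_comm, pow_mul, hA, one_pow]) h2
    simpa using h3

/-- Cayley–Hamilton -/
theorem ch (A : Matrix.SpecialLinearGroup (Fin 2) F) :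
    (A : Matrix (Fin 2) (Fin 2) F) ^ 2 = (A.1 0 0 + A.1 1 1) • (A : Matrix (Fin 2) (Fin 2) F) - 1 := by
  have h := A.2
  rw [Matrix.det_fin_two] at h
  rw [pow_two]
  ext i j
  (revert i j; simp only [Matrix.mul_apply, Fin.sum_univ_two, _root_.Fin.forall_fin_succ, Fin.isValue, _root_.Matrix.sub_apply, _root_.Matrix.smul_apply, _root_.smul_eq_mul, _root_.Fin.succ_zero_eq_one, _root_.IsEmpty.forall_iff, _root_.Matrix.one_apply_eq, Nat.reduceAdd, _root_.ne_eq, _root_.zero_ne_one, _root_.not_false_eq_true, _root_.Matrix.one_apply_ne, _root_.sub_zero, _root_.Fin.succ_ne_zero, _root_.and_true, _root_.true_and]) <;> (repeat' with_reducible apply And.intro)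
  · linear_combination -h
  · ring
  · ring
  · linear_combination -h

theorem tr_ne_zero {A : Matrix.SpecialLinearGroup (Fin 2) F} {r : ℕ} (h2 : (2 : F) = 0) (hr : r.Prime) (h5 : 5 ≤ r)
    (hA : A ^ r = 1) (hA1 : A ≠ 1) : A.1 0 0 + A.1 1 1 ≠ 0 := by
  intro h0
  have h1 := ch A
  rw [h0, zero_smul, zero_sub] at h1
  have hneg : (-1 : F) = 1 := by linear_combination -h2
  have h3 : A ^ 2 = 1 := by
    apply Subtype.ext
    rw [Matrix.SpecialLinearGroup.coe_pow, h1, Matrix.SpecialLinearGroup.coe_one]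
    ext i j
    rw [Matrix.neg_apply, Matrix.one_apply]
    split_ifs
    · exact hneg
    · simp
  have h4 := Nat.dvd_gcd (orderOf_dvd_of_pow_eq_one hA) (orderOf_dvd_of_pow_eq_one h3)
  rw [(Nat.coprime_primes hr Nat.prime_two).2 (by omega)] at h4
  exact hA1 (orderOf_eq_one_iff.1 (Nat.dvd_one.1 h4))

theorem tr_ne_one {A : Matrix.SpecialLinearGroup (Fin 2) F} {r : ℕ} (h2 : (2 : F) = 0) (hr : r.Prime) (h5 : 5 ≤ r)
    (hA : A ^ r = 1) (hA1 : A ≠ 1) : A.1 0 0 + A.1 1 1 ≠ 1 := by
  intro h0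
  have h1 := ch A
  rw [h0, one_smul] at h1
  have hneg : (-1 : F) = 1 := by linear_combination -h2
  have h3 : A ^ 3 = 1 := by
    apply Subtype.ext
    rw [Matrix.SpecialLinearGroup.coe_pow, Matrix.SpecialLinearGroup.coe_one, pow_succ, h1, sub_mul, one_mul, ← pow_two, h1]
    ext i j
    rw [Matrix.sub_apply, Matrix.sub_apply, Matrix.one_apply]
    split_ifs
    · linear_combination hneg
    · ring
  have h4 := Nat.dvd_gcd (orderOf_dvd_of_pow_eq_one hA) (orderOf_dvd_of_pow_eq_one h3)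
  rw [(Nat.coprime_primes hr Nat.prime_three).2 (by omega)] at h4
  exact hA1 (orderOf_eq_one_iff.1 (Nat.dvd_one.1 h4))

/-! ### quadratic fields -/

/-- in characteristic two an element of odd order normalising a quadratic field centralises it -/
theorem comm_of_normalizes {ι : Type} [Fintype ι] [DecidableEq ι] [Finite F] (h2 : (2 : F) = 0)
    {K : Subalgebra F (Matrix ι ι F)} (hK : IsFieldSubalgebra 2 K) {g : GL ι F} (hg : g ∈ subalgebraNormalizer K)
    {r : ℕ} (hr : r.Prime) (hr2 : r ≠ 2) (hgr : g ^ r = 1) {k : Matrix ι ι F} (hk : k ∈ K) :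
    (g : Matrix ι ι F) * k = k * (g : Matrix ι ι F) := by
  have hperf : ∀ c : F, ∃ e : F, e ^ 2 = c := by
    have : CharP F 2 := CharTwo.of_one_ne_zero_of_two_eq_zero one_ne_zero h2
    intro c
    obtain ⟨e, he⟩ := (PerfectRing.bijective_frobenius (R := F) (p := 2)).2 c
    exact ⟨e, he⟩
  have hneg : (-1 : F) = 1 := by linear_combination -h2
  -- scalars
  by_cases hsc : ∃ c : F, k = c • 1
  · obtain ⟨c, rfl⟩ := hsc
    rw [Matrix.mul_smul, Matrix.smul_mul, mul_one, one_mul]
  -- `K = F + F k`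
  have hbas : ∀ y ∈ K, ∃ a b : F, y = a • k + b • 1 := by
    intro y hy
    have hli : LinearIndependent F ![(⟨k, hk⟩ : K), 1] := by
      rw [LinearIndependent.pair_iff]
      intro s t hst
      have h1 := congrArg Subtype.val hst
      change s • k + t • (1 : Matrix ι ι F) = 0 at h1
      by_cases hs : s = 0
      · subst hs
        rw [zero_smul, zero_add] at h1
        refine ⟨rfl, ?_⟩
        by_contra ht
        apply hsc
        refine ⟨0, ?_⟩
        have h3 : (1 : Matrix ι ι F) = 0 := by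
          rcases smul_eq_zero.1 h1 with h | h
          · exact absurd h ht
          · exact h
        rw [← mul_one k, h3, mul_zero, smul_zero]
      · exfalso
        apply hsc
        refine ⟨-(s⁻¹ * t), ?_⟩
        have h3 : s • k = -(t • (1 : Matrix ι ι F)) := eq_neg_of_add_eq_zero_left h1
        rw [← inv_smul_smul₀ hs k, h3, smul_neg, smul_smul, neg_smul]
    have hsp := hli.span_eq_top_of_card_eq_finrank' (by simp [hK.finrank_eq])
    have hy' : (⟨y, hy⟩ : K) ∈ Submodule.span F (Set.range ![(⟨k, hk⟩ : K), 1]) := by rw [hsp]; trivial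
    rw [Matrix.range_cons, Matrix.range_cons, Matrix.range_empty, Set.union_empty] at hy'
    obtain ⟨a, b, hab⟩ := Submodule.mem_span_pair.1 hy'
    exact ⟨a, b, (congrArg Subtype.val hab).symm⟩
  -- the conjugate of `k`
  have hconj : ∀ y : Matrix ι ι F, y ∈ K →
      (g : Matrix ι ι F) * y * ((g⁻¹ : GL ι F) : Matrix ι ι F) ∈ K := fun y hy => (hg y).1 hy
  obtain ⟨a, b, hab⟩ := hbas _ (hconj k hk)
  obtain ⟨s, d, hsd⟩ := hbas _ (K.mul_mem hk hk)
  have hgg : ((g⁻¹ : GL ι F) : Matrix ι ι F) * (g : Matrix ι ι F) = 1 := by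
    rw [← Units.val_mul, inv_mul_cancel, Units.val_one]
  have hgg' : (g : Matrix ι ι F) * ((g⁻¹ : GL ι F) : Matrix ι ι F) = 1 := by
    rw [← Units.val_mul, mul_inv_cancel, Units.val_one]
  -- uniqueness of coordinates
  have huniq : ∀ a b a' b' : F, a • k + b • (1 : Matrix ι ι F) = a' • k + b' • 1 → a = a' ∧ b = b' := by
    intro a b a' b' h
    have h1 : (a - a') • k = (b' - b) • (1 : Matrix ι ι F) := by
      rw [sub_smul, sub_smul, sub_eq_sub_iff_add_eq_add, h, add_comm]
    by_cases haa : a - a' = 0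
    · rw [haa, zero_smul] at h1
      refine ⟨sub_eq_zero.1 haa, ?_⟩
      by_contra hbb
      apply hsc
      refine ⟨0, ?_⟩
      have h3 : (1 : Matrix ι ι F) = 0 := by
        rcases smul_eq_zero.1 h1.symm with h | h
        · exact absurd (sub_eq_zero.1 h).symm hbb
        · exact h
      rw [← mul_one k, h3, mul_zero, smul_zero]
    · exfalso
      apply hsc
      refine ⟨(a - a')⁻¹ * (b' - b), ?_⟩
      rw [← smul_smul, ← h1, inv_smul_smul₀ haa]
  -- `s ≠ 0`
  have hs : s ≠ 0 := by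
    rintro rfl
    rw [zero_smul, zero_add] at hsd
    obtain ⟨e, he⟩ := hperf d
    have h1 : (k - e • 1) * (k - e • 1) = 0 := by
      have h3 : (k - e • 1) * (k - e • 1) = k * k - (2 * e) • k + (e ^ 2) • (1 : Matrix ι ι F) := by
        simp only [sub_mul, mul_sub, Matrix.smul_mul, Matrix.mul_smul, one_mul, mul_one, two_mul, add_smul, pow_two,
          smul_smul]
        abel
      rw [h3, hsd, he, h2, zero_mul, zero_smul, sub_zero, ← add_smul, ← two_mul, h2, zero_mul, zero_smul]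
    have h3 : k - e • 1 ∈ K := K.sub_mem hk (K.smul_mem K.one_mem e)
    have h4 : k - e • 1 = 0 := by
      by_contra h0
      obtain ⟨y, -, hy⟩ := hK.inv _ h3 h0
      apply h0
      calc k - e • 1 = (k - e • 1) * ((k - e • 1) * y) := by rw [hy, mul_one]
        _ = 0 := by rw [← mul_assoc, h1, zero_mul]
    exact hsc ⟨e, sub_eq_zero.1 h4⟩
  -- the relation for the conjugate
  have hrel : (a * a * s + 2 * a * b) • k + (a * a * d + b * b) • (1 : Matrix ι ι F) =
      (s * a) • k + (s * b + d) • 1 := by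
    have h1 : (a • k + b • (1 : Matrix ι ι F)) * (a • k + b • 1) = s • (a • k + b • 1) + d • 1 := by
      rw [← hab]
      calc (g : Matrix ι ι F) * k * ((g⁻¹ : GL ι F) : Matrix ι ι F) *
            ((g : Matrix ι ι F) * k * ((g⁻¹ : GL ι F) : Matrix ι ι F))
          = (g : Matrix ι ι F) * k * (((g⁻¹ : GL ι F) : Matrix ι ι F) * (g : Matrix ι ι F)) * k *
            ((g⁻¹ : GL ι F) : Matrix ι ι F) := by simp only [mul_assoc]
        _ = (g : Matrix ι ι F) * (k * k) * ((g⁻¹ : GL ι F) : Matrix ι ι F) := by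
            rw [hgg, mul_one]; simp only [mul_assoc]
        _ = s • ((g : Matrix ι ι F) * k * ((g⁻¹ : GL ι F) : Matrix ι ι F)) + d • 1 := by
            rw [hsd, mul_add, add_mul, Matrix.mul_smul, Matrix.smul_mul, Matrix.mul_smul, Matrix.smul_mul, mul_one,
              hgg']
    have h3 : (a • k + b • (1 : Matrix ι ι F)) * (a • k + b • 1) =
        (a * a) • (k * k) + (2 * a * b) • k + (b * b) • 1 := by
      simp only [add_mul, mul_add, Matrix.smul_mul, Matrix.mul_smul, one_mul, mul_one, smul_smul]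
      rw [show 2 * a * b = b * a + a * b by ring, add_smul]
      abel
    rw [h3, hsd] at h1
    simp only [smul_add, smul_smul] at h1
    have h4 : (a * a * s + 2 * a * b) • k + (a * a * d + b * b) • (1 : Matrix ι ι F) =
        (a * a * s) • k + (a * a * d) • 1 + (2 * a * b) • k + (b * b) • 1 := by
      rw [add_smul, add_smul]; abel
    rw [h4, h1, add_smul]
    abel
  obtain ⟨h3, h4⟩ := huniq _ _ _ _ hrel
  have ha0 : a ≠ 0 := by
    rintro rfl
    apply hsc
    refine ⟨b, ?_⟩
    rw [zero_smul, zero_add] at hab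
    calc k = ((g⁻¹ : GL ι F) : Matrix ι ι F) * ((g : Matrix ι ι F) * k * ((g⁻¹ : GL ι F) : Matrix ι ι F)) *
          (g : Matrix ι ι F) := by
          simp only [← mul_assoc]
          rw [hgg, one_mul, mul_assoc, hgg, mul_one]
      _ = b • 1 := by rw [hab, Matrix.mul_smul, Matrix.smul_mul, mul_one, hgg]
  have ha1 : a = 1 := by
    have h5 : a * s * (a - 1) = 0 := by linear_combination h3 - (a * b) * h2
    rcases mul_eq_zero.1 h5 with h | h
    · exact absurd h (mul_ne_zero ha0 hs)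
    · exact sub_eq_zero.1 h
  subst ha1
  rw [one_smul] at hab
  -- iterate
  have hit : ∀ n : ℕ, ((g ^ n : GL ι F) : Matrix ι ι F) * k * (((g ^ n)⁻¹ : GL ι F) : Matrix ι ι F) =
      k + ((n : F) * b) • 1 := by
    intro n
    induction n with
    | zero => simp only [_root_.pow_zero, _root_.Units.val_one, _root_.one_mul, _root_.inv_one, _root_.mul_one, _root_.Nat.cast_zero, _root_.MulZeroClass.zero_mul, _root_.zero_smul, _root_.add_zero]
    | succ n ih =>
      rw [pow_succ', mul_inv_rev, Units.val_mul, Units.val_mul]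
      calc (g : Matrix ι ι F) * ((g ^ n : GL ι F) : Matrix ι ι F) * k *
            ((((g ^ n)⁻¹ : GL ι F) : Matrix ι ι F) * ((g⁻¹ : GL ι F) : Matrix ι ι F))
          = (g : Matrix ι ι F) * (((g ^ n : GL ι F) : Matrix ι ι F) * k *
            (((g ^ n)⁻¹ : GL ι F) : Matrix ι ι F)) * ((g⁻¹ : GL ι F) : Matrix ι ι F) := by simp only [mul_assoc]
        _ = k + ((n + 1 : ℕ) * b : F) • 1 := by
          rw [ih, mul_add, add_mul, hab, Matrix.mul_smul, Matrix.smul_mul, mul_one, hgg', add_assoc, ← add_smul]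
          congr 2
          push_cast
          ring
  have hfin := hit r
  rw [hgr, Units.val_one, one_mul, inv_one, Units.val_one, mul_one, left_eq_add] at hfin
  have hb : b = 0 ∨ (1 : Matrix ι ι F) = 0 := by
    rcases smul_eq_zero.1 hfin with h | h
    · left
      refine (mul_eq_zero.1 h).resolve_left ?_
      intro h0
      obtain ⟨c, hc⟩ := hr.odd_of_ne_two hr2
      rw [hc] at h0
      push_cast at h0
      rw [h2, zero_mul, zero_add] at h0
      exact one_ne_zero h0
    · exact Or.inr h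
  have hb' : b • (1 : Matrix ι ι F) = 0 := by
    rcases hb with h | h
    · rw [h, zero_smul]
    · rw [h, smul_zero]
  rw [hb', add_zero] at hab
  calc (g : Matrix ι ι F) * k = (g : Matrix ι ι F) * k * (((g⁻¹ : GL ι F) : Matrix ι ι F) * (g : Matrix ι ι F)) := by
        rw [hgg, mul_one]
    _ = k * (g : Matrix ι ι F) := by rw [← mul_assoc, hab]

theorem el_val (A : Matrix.SpecialLinearGroup (Fin 2) F) :
    ((spToGL 2 F (el A) : GL (Fin 2 ⊕ Fin 2) F) : Matrix (Fin 2 ⊕ Fin 2) (Fin 2 ⊕ Fin 2) F) =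
      tm ![(A : Matrix (Fin 2) (Fin 2) F), (A : Matrix (Fin 2) (Fin 2) F) ^ 2] := el_coe A

theorem poly_aux {R : Type*} [Ring R] [Algebra F R] {M : R} {t : F} (h2 : (2 : F) = 0) (h : M ^ 2 = t • M - 1) :
    M ^ 2 * M ^ 2 - t • M ^ 2 + 1 = (t * (t - 1)) • M ^ 2 := by
  have h3 : M ^ 3 = t • M ^ 2 - M := by
    calc M ^ 3 = M ^ 2 * M := pow_succ _ _
      _ = t • M ^ 2 - M := by rw [h, sub_mul, one_mul, smul_mul_assoc, ← pow_two, h]
  have h1 : M ^ 2 * M ^ 2 = t • M ^ 3 - M ^ 2 := by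
    calc M ^ 2 * M ^ 2 = (t • M - 1) * M ^ 2 := by rw [h]
      _ = t • M ^ 3 - M ^ 2 := by rw [sub_mul, one_mul, smul_mul_assoc, ← pow_succ']
  have h4 : t • M = M ^ 2 + 1 := by rw [h]; abel
  have h5 : (t * (t - 1)) • M ^ 2 = (t * t) • M ^ 2 - t • M ^ 2 := by rw [← sub_smul]; congr 1; ring
  have h6 : M ^ 2 + M ^ 2 = 0 := by rw [← two_smul F, h2, zero_smul]
  rw [h1, h3, smul_sub, h4, smul_smul, h5]
  have h7 : (t * t) • M ^ 2 - (M ^ 2 + 1) - M ^ 2 - t • M ^ 2 + 1 =
      (t * t) • M ^ 2 - t • M ^ 2 - (M ^ 2 + M ^ 2) := by abel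
  rw [h7, h6, sub_zero]

/-- the polynomial of `A` in `A ⊕ A²` -/
theorem el_poly (h2 : (2 : F) = 0) (A : Matrix.SpecialLinearGroup (Fin 2) F) :
    tm ![(A : Matrix (Fin 2) (Fin 2) F), (A : Matrix (Fin 2) (Fin 2) F) ^ 2] ^ 2 -
        (A.1 0 0 + A.1 1 1) • tm ![(A : Matrix (Fin 2) (Fin 2) F), (A : Matrix (Fin 2) (Fin 2) F) ^ 2] + 1 =
      tm ![0, ((A.1 0 0 + A.1 1 1) * (A.1 0 0 + A.1 1 1 - 1)) • (A : Matrix (Fin 2) (Fin 2) F) ^ 2] := by
  obtain ⟨t, ht⟩ : ∃ t, t = A.1 0 0 + A.1 1 1 := ⟨_, rfl⟩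
  have hch := ch A
  rw [← ht] at hch ⊢
  have hsub : ∀ X Y : Fin 2 → Matrix (Fin 2) (Fin 2) F, tm X - tm Y = tm (fun i => X i - Y i) := by
    intro X Y
    ext (i | i) (j | j) <;> simp only [tm, Matrix.sub_apply, Matrix.fromBlocks_apply₁₁, Matrix.fromBlocks_apply₁₂,
      Matrix.fromBlocks_apply₂₁, Matrix.fromBlocks_apply₂₂, Matrix.diagonal_apply] <;> split_ifs <;> simp
  have hadd : ∀ X Y : Fin 2 → Matrix (Fin 2) (Fin 2) F, tm X + tm Y = tm (fun i => X i + Y i) := by
    intro X Y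
    simp only [tm, Matrix.fromBlocks_add, Matrix.diagonal_add, Matrix.add_apply]
  have hsmul : ∀ (c : F) (X : Fin 2 → Matrix (Fin 2) (Fin 2) F), c • tm X = tm (fun i => c • X i) := by
    intro c X
    simp only [tm, Matrix.fromBlocks_smul, ← Matrix.diagonal_smul, Pi.smul_def, Matrix.smul_apply]
  rw [← tm_one, pow_two (tm _), ← tm_mul, hsmul, hsub, hadd]
  congr 1
  funext i
  fin_cases i
  · change (A : Matrix (Fin 2) (Fin 2) F) * (A : Matrix (Fin 2) (Fin 2) F) - t • (A : Matrix (Fin 2) (Fin 2) F) + 1 = 0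
    rw [← pow_two, hch]
    abel
  · change (A : Matrix (Fin 2) (Fin 2) F) ^ 2 * (A : Matrix (Fin 2) (Fin 2) F) ^ 2 -
      t • (A : Matrix (Fin 2) (Fin 2) F) ^ 2 + 1 = (t * (t - 1)) • (A : Matrix (Fin 2) (Fin 2) F) ^ 2
    exact poly_aux h2 hch

/-- **The regular element does not normalise a self-adjoint quadratic field.** -/
theorem not_mem_field [Finite F] (h2 : (2 : F) = 0) {A : Matrix.SpecialLinearGroup (Fin 2) F} {r : ℕ} (hr : r.Prime)
    (h5 : 5 ≤ r) (hA : A ^ r = 1) (hA1 : A ≠ 1) {K : Subalgebra F (Matrix (Fin 2 ⊕ Fin 2) (Fin 2 ⊕ Fin 2) F)}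
    (hK : IsFieldSubalgebra 2 K) (hs : IsSelfAdjointFor (sympForm 2 F) K) :
    spToGL 2 F (el A) ∉ subalgebraNormalizer K := by
  intro hmem
  have hperf : ∀ c : F, ∃ e : F, e ^ 2 = c := by
    have : CharP F 2 := CharTwo.of_one_ne_zero_of_two_eq_zero one_ne_zero h2
    intro c
    obtain ⟨e, he⟩ := (PerfectRing.bijective_frobenius (R := F) (p := 2)).2 c
    exact ⟨e, he⟩
  have hpow : (spToGL 2 F (el A)) ^ r = 1 := by rw [← map_pow, el_pow hA, map_one]
  have hcomm := fun k hk => comm_of_normalizes h2 hK hmem hr (by omega) hpow (k := k) hk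
  obtain ⟨t, ht⟩ : ∃ t, t = A.1 0 0 + A.1 1 1 := ⟨_, rfl⟩
  have ht0 : t ≠ 0 := ht ▸ tr_ne_zero h2 hr h5 hA hA1
  have ht1 : t ≠ 1 := ht ▸ tr_ne_one h2 hr h5 hA hA1
  obtain ⟨X, hX⟩ : ∃ X, X = tm ![(A : Matrix (Fin 2) (Fin 2) F), (A : Matrix (Fin 2) (Fin 2) F) ^ 2] := ⟨_, rfl⟩
  have hpoly := el_poly h2 A
  rw [← ht, ← hX] at hpoly
  -- the first plane
  have hker : ∀ v : Fin 2 ⊕ Fin 2 → F, (X ^ 2 - t • X + 1) *ᵥ v = 0 ↔ v (Sum.inl 1) = 0 ∧ v (Sum.inr 1) = 0 := by
    intro v
    rw [hpoly]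
    have hdet : ((t * (t - 1)) • (A : Matrix (Fin 2) (Fin 2) F) ^ 2).det ≠ 0 := by
      rw [Matrix.det_smul, Matrix.det_pow, A.2, one_pow, mul_one]
      exact pow_ne_zero _ (mul_ne_zero ht0 (sub_ne_zero.2 ht1))
    constructor
    · intro h
      have e1 := congrFun h (Sum.inl 1)
      have e2 := congrFun h (Sum.inr 1)
      rw [tm_inl] at e1
      rw [tm_inr] at e2
      have h3 : ((t * (t - 1)) • (A : Matrix (Fin 2) (Fin 2) F) ^ 2) *ᵥ ![v (Sum.inl 1), v (Sum.inr 1)] = 0 := by
        funext j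
        fin_cases j
        · simpa only [Matrix.mulVec, dotProduct, Fin.sum_univ_two, _root_.Nat.succ_eq_add_one, _root_.Nat.reduceAdd, _root_.Fin.zero_eta, _root_.Fin.isValue, _root_.Matrix.smul_apply, _root_.smul_eq_mul, _root_.Matrix.cons_val_zero, _root_.Matrix.cons_val_one, _root_.Matrix.cons_val_fin_one, _root_.Pi.zero_apply] using e1
        · simpa only [Matrix.mulVec, dotProduct, Fin.sum_univ_two, _root_.Nat.succ_eq_add_one, _root_.Nat.reduceAdd, _root_.Fin.mk_one, _root_.Fin.isValue, _root_.Matrix.smul_apply, _root_.smul_eq_mul, _root_.Matrix.cons_val_zero, _root_.Matrix.cons_val_one, _root_.Matrix.cons_val_fin_one, _root_.Pi.zero_apply] using e2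
      have h4 := Matrix.eq_zero_of_mulVec_eq_zero hdet h3
      exact ⟨congrFun h4 0, congrFun h4 1⟩
    · rintro ⟨h1, h3⟩
      funext j
      rcases j with j | j <;> fin_cases j
      · rw [show (⟨0, by omega⟩ : Fin 2) = 0 from rfl, tm_inl]; simp
      · rw [show (⟨1, by omega⟩ : Fin 2) = 1 from rfl, tm_inl, h1, h3]; simp
      · rw [show (⟨0, by omega⟩ : Fin 2) = 0 from rfl, tm_inr]; simp
      · rw [show (⟨1, by omega⟩ : Fin 2) = 1 from rfl, tm_inr, h1, h3]; simp
  -- `K` preserves the first plane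
  have hpres : ∀ k ∈ K, ∀ v : Fin 2 ⊕ Fin 2 → F, (X ^ 2 - t • X + 1) *ᵥ v = 0 →
      (X ^ 2 - t • X + 1) *ᵥ (k *ᵥ v) = 0 := by
    intro k hk v hv
    have h1 : X * k = k * X := by
      have := hcomm k hk
      rwa [el_val, ← hX] at this
    have h3 : (X ^ 2 - t • X + 1) * k = k * (X ^ 2 - t • X + 1) := by
      rw [add_mul, sub_mul, mul_add, mul_sub, Matrix.smul_mul, Matrix.mul_smul, h1, pow_two, mul_assoc, h1, ← mul_assoc,
        h1, mul_assoc, one_mul, mul_one]
    rw [Matrix.mulVec_mulVec, h3, ← Matrix.mulVec_mulVec, hv, Matrix.mulVec_zero]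
  -- basis vectors of the first plane
  let e1 : Fin 2 ⊕ Fin 2 → F := Pi.single (Sum.inl 0) 1
  let f1 : Fin 2 ⊕ Fin 2 → F := Pi.single (Sum.inr 0) 1
  have he1 : (X ^ 2 - t • X + 1) *ᵥ e1 = 0 := (hker e1).2 ⟨by simp [e1], by simp [e1]⟩
  have hf1 : (X ^ 2 - t • X + 1) *ᵥ f1 = 0 := (hker f1).2 ⟨by simp [f1], by simp [f1]⟩
  -- every element of `K` is scalar
  have hscal : ∀ k ∈ K, ∃ c : F, k = c • (1 : Matrix (Fin 2 ⊕ Fin 2) (Fin 2 ⊕ Fin 2) F) := by
    intro k hk
    have h1 := (hker _).1 (hpres k hk e1 he1)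
    have h3 := (hker _).1 (hpres k hk f1 hf1)
    obtain ⟨a, ha⟩ : ∃ a, a = (k *ᵥ e1) (Sum.inl 0) := ⟨_, rfl⟩
    obtain ⟨b, hb⟩ : ∃ b, b = (k *ᵥ e1) (Sum.inr 0) := ⟨_, rfl⟩
    obtain ⟨c, hc⟩ : ∃ c, c = (k *ᵥ f1) (Sum.inl 0) := ⟨_, rfl⟩
    obtain ⟨d, hd⟩ : ∃ d, d = (k *ᵥ f1) (Sum.inr 0) := ⟨_, rfl⟩
    have hke : k *ᵥ e1 = a • e1 + b • f1 := by
      funext j
      rcases j with j | j <;> fin_cases j
      · simp [e1, f1, ← ha]
      · simpa [e1, f1] using h1.1
      · simp [e1, f1, ← hb]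
      · simpa [e1, f1] using h1.2
    have hkf : k *ᵥ f1 = c • e1 + d • f1 := by
      funext j
      rcases j with j | j <;> fin_cases j
      · simp [e1, f1, ← hc]
      · simpa [e1, f1] using h3.1
      · simp [e1, f1, ← hd]
      · simpa [e1, f1] using h3.2
    have had : a = d := by
      have h4 := hs k hk e1 f1
      rw [hke, hkf] at h4
      have hJ : ∀ u v : Fin 2 ⊕ Fin 2 → F, sympForm 2 F u v =
          ∑ i, (u (Sum.inr i) * v (Sum.inl i) - u (Sum.inl i) * v (Sum.inr i)) := by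
        intro u v
        rw [sympForm, Matrix.J, Matrix.fromBlocks_mulVec]
        simp only [dotProduct, Fintype.sum_sum_type, Matrix.neg_mulVec, Fin.sum_univ_two, _root_.Matrix.zero_mulVec, _root_.Matrix.one_mulVec, _root_.zero_add, _root_.add_zero, _root_.Sum.elim_inl, _root_.Pi.neg_apply, _root_.Function.comp_apply, _root_.mul_neg, _root_.Finset.sum_neg_distrib, _root_.Fin.isValue, _root_.neg_add_rev, _root_.Sum.elim_inr, _root_.Finset.sum_sub_distrib]
        ring
      rw [hJ, hJ] at h4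
      simpa only [e1, f1, Fin.sum_univ_two, _root_.Fin.isValue, _root_.Pi.add_apply, _root_.Pi.smul_apply, _root_.ne_eq, _root_.reduceCtorEq, _root_.not_false_eq_true, _root_.Pi.single_eq_of_ne, _root_.smul_eq_mul, _root_.MulZeroClass.mul_zero, _root_.zero_add, _root_.add_zero, _root_.zero_sub, _root_.Finset.sum_neg_distrib, _root_.Pi.single_eq_same, _root_.mul_one, _root_.Sum.inl.injEq, _root_.one_ne_zero, _root_.Sum.inr.injEq, _root_.MulZeroClass.zero_mul, _root_.one_mul, _root_.neg_inj] using h4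
    obtain ⟨e, he⟩ := hperf (b * c)
    refine ⟨a + e, ?_⟩
    have hk' : k - (a + e) • 1 ∈ K := K.sub_mem hk (K.smul_mem K.one_mem _)
    by_contra hne
    obtain ⟨y, -, hy⟩ := hK.inv _ hk' (fun h0 => hne (sub_eq_zero.1 h0))
    have hy' : y * (k - (a + e) • 1) = 1 := mul_eq_one_comm.1 hy
    have h5 : (k - (a + e) • 1) *ᵥ ((k - (a + e) • 1) *ᵥ e1) = 0 := by
      have h51 : (k - (a + e) • 1) *ᵥ e1 = (- e) • e1 + b • f1 := by
        rw [Matrix.sub_mulVec, Matrix.smul_mulVec, Matrix.one_mulVec, hke, add_sub_right_comm, ← sub_smul]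
        congr 2
        ring
      have h52 : (k - (a + e) • 1) *ᵥ f1 = c • e1 + (- e) • f1 := by
        rw [Matrix.sub_mulVec, Matrix.smul_mulVec, Matrix.one_mulVec, hkf, add_sub_assoc, ← sub_smul, ← had]
        congr 2
        ring
      rw [h51, Matrix.mulVec_add, Matrix.mulVec_smul, Matrix.mulVec_smul, h51, h52]
      funext j
      rcases j with j | j <;> fin_cases j
      · simp only [e1, f1, _root_.Fin.isValue, _root_.neg_smul, _root_.smul_add, _root_.smul_neg, _root_.neg_neg, _root_.Fin.zero_eta, _root_.Pi.add_apply, _root_.Pi.smul_apply, _root_.Pi.single_eq_same, _root_.smul_eq_mul, _root_.mul_one, _root_.Pi.neg_apply, _root_.ne_eq, _root_.reduceCtorEq, _root_.not_false_eq_true, _root_.Pi.single_eq_of_ne, _root_.MulZeroClass.mul_zero, _root_.neg_zero, _root_.add_zero, _root_.Pi.zero_apply]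
        linear_combination he + (b * c) * h2
      · simp [e1, f1]
      · simp only [e1, f1, _root_.Fin.isValue, _root_.neg_smul, _root_.smul_add, _root_.smul_neg, _root_.neg_neg, _root_.Fin.zero_eta, _root_.Pi.add_apply, _root_.Pi.smul_apply, _root_.ne_eq, _root_.reduceCtorEq, _root_.not_false_eq_true, _root_.Pi.single_eq_of_ne, _root_.smul_eq_mul, _root_.MulZeroClass.mul_zero, _root_.Pi.neg_apply, _root_.Pi.single_eq_same, _root_.mul_one, _root_.zero_add, _root_.Pi.zero_apply]
        linear_combination (- b * e) * h2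
      · simp [e1, f1]
    have h6 : e1 = 0 := by
      have h7 := congrArg (fun v => y *ᵥ (y *ᵥ v)) h5
      simp only [Matrix.mulVec_zero, Matrix.mulVec_mulVec] at h7
      rw [← mul_assoc y (k - (a + e) • 1), hy', one_mul, hy', Matrix.one_mulVec] at h7
      exact h7
    have h8 := congrFun h6 (Sum.inl 0)
    simp [e1] at h8
  -- the dimension
  have h9 : finrank F K ≤ 1 := by
    refine finrank_le_one (1 : K) fun w => ?_
    obtain ⟨c, hc⟩ := hscal w w.2
    exact ⟨c, Subtype.ext hc.symm⟩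
  rw [hK.finrank_eq] at h9
  omega

end Cfsg.Agent.H262.ElFour

private theorem dce_6b9d1e33df23 : _root_.True := by
  try have : _root_.True := by simp only [_root_.Cfsg.Agent.H262.ElFour.el.eq_1]
  try have : _root_.True := by simp only [_root_.Cfsg.Agent.H262.ElFour.tm.eq_1]
  exact _root_.True.intro
end
end
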