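import Cfsg.Agent.H918.TransvTensor
import Cfsg.Agent.H921.SympDim
import Cfsg.Agent.H931.SpProper
import Cfsg.Agent.FastGrp
import Cfsg.Agent.Prune
set_option linter.all false
prune_inst 0x7f00000000000000000000000000000000000000000000000000000000000000000000000000000000000000000000000000000000000000000000000000000000000000000000000000000000000000003fffffffffffffffffffffffffffbeffbdffffffff
open scoped Cfsg.Agent.FastGrp

/-!
# TEAM ELUSIVE, symplectic row: transvections are in no extension field group and in no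
normaliser of a symplectic type group
-/

set_option autoImplicit false

namespace Cfsg.Agent.H262.El

open Cfsg Cfsg.Geo Cfsg.Agent.H918
open scoped Matrix MatrixGroups

variable {ι : Type} [Fintype ι] [DecidableEq ι] {F : Type*} [Field F]

/-- two linear conditions have a common nonzero solution in dimension at least three -/
theorem exists_ne_zero_two (hι : 3 ≤ Fintype.card ι) (φ ψ : (ι → F) →ₗ[F] F) :
    ∃ v : ι → F, v ≠ 0 ∧ φ v = 0 ∧ ψ v = 0 := by
  have h := LinearMap.ker_ne_bot_of_finrank_lt (f := φ.prod ψ) (by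
    rw [Module.finrank_prod, Module.finrank_self, Module.finrank_fintype_fun_eq_card]
    omega)
  obtain ⟨v, hv, hv0⟩ := Submodule.exists_mem_ne_zero_of_ne_bot h
  rw [LinearMap.mem_ker] at hv
  exact ⟨v, hv0, congrArg Prod.fst hv, congrArg Prod.snd hv⟩

/-- the functional `x ↦ w ⬝ x` -/
def dp (w : ι → F) : (ι → F) →ₗ[F] F where
  toFun x := w ⬝ᵥ x
  map_add' := dotProduct_add w
  map_smul' c x := by simp

@[simp] theorem dp_apply (w x : ι → F) : dp w x = w ⬝ᵥ x := rfl

/-- A rank one element normalises no extension field. -/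
theorem rankOne_not_mem_subalgebraNormalizer (hι : 3 ≤ Fintype.card ι) {g : GL ι F}
    (hg : IsRankOneElt g) {r : ℕ} (hr : 2 ≤ r) {K : Subalgebra F (Matrix ι ι F)}
    (hK : IsFieldSubalgebra r K) : g ∉ subalgebraNormalizer K := by
  intro hmem
  obtain ⟨u, w, hu, hw, hguw⟩ := hg
  have hgv : ∀ x, (g : Matrix ι ι F) *ᵥ x = x + (w ⬝ᵥ x) • u := fun x =>
    IsRankOneElt.mulVec hguw x
  have hinj : ∀ a ∈ K, ∀ v : ι → F, v ≠ 0 → a *ᵥ v = 0 → a = 0 := by
    intro a ha v hv hav
    by_contra h0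
    obtain ⟨b, hb, hab⟩ := hK.inv a ha h0
    have h1 : b * a = 1 := by rw [hK.comm b hb a ha]; exact hab
    apply hv
    calc v = (b * a) *ᵥ v := by rw [h1, Matrix.one_mulVec]
      _ = 0 := by rw [← Matrix.mulVec_mulVec, hav, Matrix.mulVec_zero]
  -- `g` centralises `K`
  have hcomm : ∀ k ∈ K, ∀ v, (g : Matrix ι ι F) *ᵥ (k *ᵥ v) = k *ᵥ ((g : Matrix ι ι F) *ᵥ v) := by
    intro k hk v
    set k' := (g : Matrix ι ι F) * k * ((g⁻¹ : GL ι F) : Matrix ι ι F) with hk'
    have hk'K : k' ∈ K := (hmem k).1 hk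
    have hkg : ∀ v, k' *ᵥ ((g : Matrix ι ι F) *ᵥ v) = (g : Matrix ι ι F) *ᵥ (k *ᵥ v) := by
      intro v
      rw [hk', Matrix.mulVec_mulVec, Matrix.mulVec_mulVec, mul_assoc, mul_assoc]
      have : ((g⁻¹ : GL ι F) : Matrix ι ι F) * (g : Matrix ι ι F) = 1 := by
        rw [← Units.val_mul, inv_mul_cancel, Units.val_one]
      rw [this, mul_one]
    obtain ⟨x, hx0, hx1, hx2⟩ := exists_ne_zero_two hι (dp w) ((dp w).comp (Matrix.mulVecLin k))
    rw [dp_apply] at hx1
    rw [LinearMap.comp_apply, dp_apply, Matrix.mulVecLin_apply] at hx2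
    have h1 := hkg x
    rw [hgv, hgv, hx1, hx2, zero_smul, add_zero, add_zero] at h1
    have h2 : k' - k = 0 := hinj _ (K.sub_mem hk'K hk) x hx0 (by
      rw [Matrix.sub_mulVec, h1, sub_self])
    rw [← hkg v, sub_eq_zero.1 h2]
  -- `u` is an eigenvector
  obtain ⟨y, hy⟩ : ∃ y : ι → F, w ⬝ᵥ y ≠ 0 := by
    by_contra hcon
    push Not at hcon
    exact hw (by
      funext i
      have := hcon (Pi.single i 1)
      simpa using this)
  have heig : ∀ k ∈ K, ∃ c : F, k = c • (1 : Matrix ι ι F) := by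
    intro k hk
    have h1 := hcomm k hk y
    rw [hgv, hgv, Matrix.mulVec_add, add_right_inj, Matrix.mulVec_smul] at h1
    refine ⟨(w ⬝ᵥ y)⁻¹ * (w ⬝ᵥ (k *ᵥ y)), ?_⟩
    rw [← sub_eq_zero]
    refine hinj _ (K.sub_mem hk (K.smul_mem K.one_mem _)) u hu ?_
    rw [Matrix.sub_mulVec, Matrix.smul_mulVec, Matrix.one_mulVec, mul_smul, h1, smul_smul,
      inv_mul_cancel₀ hy, one_smul, sub_self]
  have hle : Module.finrank F K ≤ 1 := by
    have h1 : ∀ x : K, ∃ c : F, c • (1 : K) = x := by
      intro x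
      obtain ⟨c, hc⟩ := heig x x.2
      exact ⟨c, Subtype.ext hc.symm⟩
    exact finrank_le_one _ h1
  rw [hK.finrank_eq] at hle
  omega

/-- transvections -/
def IsTv (g : GL ι F) : Prop :=
  ∃ u w : ι → F, u ≠ 0 ∧ w ≠ 0 ∧ w ⬝ᵥ u = 0 ∧ (g : Matrix ι ι F) = 1 + Matrix.vecMulVec u w

theorem IsTv.isRankOneElt {g : GL ι F} (h : IsTv g) : IsRankOneElt g := by
  obtain ⟨u, w, hu, hw, -, h⟩ := h
  exact ⟨u, w, hu, hw, h⟩

theorem IsTv.conj {g : GL ι F} (hg : IsTv g) (P : GL ι F) : IsTv (P * g * P⁻¹) := by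
  obtain ⟨u, w, hu, hw, huw, h⟩ := hg
  have hP : ((P⁻¹ : GL ι F) : Matrix ι ι F) * (P : Matrix ι ι F) = 1 := by
    rw [← Units.val_mul, inv_mul_cancel, Units.val_one]
  have hP' : (P : Matrix ι ι F) * ((P⁻¹ : GL ι F) : Matrix ι ι F) = 1 := by
    rw [← Units.val_mul, mul_inv_cancel, Units.val_one]
  refine ⟨(P : Matrix ι ι F) *ᵥ u, w ᵥ* ((P⁻¹ : GL ι F) : Matrix ι ι F), ?_, ?_, ?_, ?_⟩
  · intro h0
    apply hu
    calc u = (((P⁻¹ : GL ι F) : Matrix ι ι F) * (P : Matrix ι ι F)) *ᵥ u := by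
          rw [hP, Matrix.one_mulVec]
      _ = 0 := by rw [← Matrix.mulVec_mulVec, h0, Matrix.mulVec_zero]
  · intro h0
    apply hw
    calc w = w ᵥ* (((P⁻¹ : GL ι F) : Matrix ι ι F) * (P : Matrix ι ι F)) := by
          rw [hP, Matrix.vecMul_one]
      _ = 0 := by rw [← Matrix.vecMul_vecMul, h0, Matrix.zero_vecMul]
  · rw [← Matrix.dotProduct_mulVec, Matrix.mulVec_mulVec, hP, Matrix.one_mulVec, huw]
  · rw [Units.val_mul, Units.val_mul, h, mul_add, mul_one, add_mul, hP', Matrix.mul_vecMulVec,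
      Matrix.vecMulVec_mul]

theorem IsTv.inv_mulVec {g : GL ι F} {u w : ι → F} (huw : w ⬝ᵥ u = 0)
    (h : (g : Matrix ι ι F) = 1 + Matrix.vecMulVec u w) (x : ι → F) :
    ((g⁻¹ : GL ι F) : Matrix ι ι F) *ᵥ x = x - (w ⬝ᵥ x) • u := by
  have hg : (g : Matrix ι ι F) *ᵥ (x - (w ⬝ᵥ x) • u) = x := by
    rw [IsRankOneElt.mulVec h, dotProduct_sub, dotProduct_smul, huw, smul_zero, sub_zero,
      sub_add_cancel]
  calc ((g⁻¹ : GL ι F) : Matrix ι ι F) *ᵥ x
      = ((g⁻¹ : GL ι F) : Matrix ι ι F) *ᵥ ((g : Matrix ι ι F) *ᵥ (x - (w ⬝ᵥ x) • u)) := by rw [hg]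
    _ = x - (w ⬝ᵥ x) • u := by
      rw [Matrix.mulVec_mulVec, ← Units.val_mul, inv_mul_cancel, Units.val_one, Matrix.one_mulVec]

/-- `(1 + u w)^n = 1 + n u w` -/
theorem IsTv.pow_eq {g : GL ι F} {u w : ι → F} (huw : w ⬝ᵥ u = 0)
    (h : (g : Matrix ι ι F) = 1 + Matrix.vecMulVec u w) (n : ℕ) :
    ((g ^ n : GL ι F) : Matrix ι ι F) = 1 + (n : F) • Matrix.vecMulVec u w := by
  induction n with
  | zero => simp
  | succ n ih =>
    rw [pow_succ, Units.val_mul, ih, h]
    have h2 : Matrix.vecMulVec u w * Matrix.vecMulVec u w = 0 := by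
      rw [Matrix.vecMulVec_mul_vecMulVec, huw, zero_smul, Matrix.vecMulVec_zero]
    rw [add_mul, one_mul, mul_add, mul_one, Matrix.smul_mul, h2, smul_zero, add_zero]
    push_cast
    rw [add_smul, one_smul]
    abel

theorem IsTv.pow_char {g : GL ι F} (hg : IsTv g) {p : ℕ} [CharP F p] : g ^ p = 1 := by
  obtain ⟨u, w, -, -, huw, h⟩ := hg
  apply Units.ext
  rw [IsTv.pow_eq huw h, CharP.cast_eq_zero, zero_smul, add_zero, Units.val_one]


/-- A transvection normalises no absolutely irreducible subgroup which is abelian modulo scalars,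
in dimension at least four. -/
theorem IsTv.not_mem_subgroupNormalizer (hι : 4 ≤ Fintype.card ι) {g : GL ι F} (hg : IsTv g)
    {R : Subgroup (GL ι F)} (habs : ActsAbsolutelyIrreducibly (matrixSet R))
    (hcomm : ∀ x ∈ R, ∀ y ∈ R, ∃ c : F, (x : Matrix ι ι F) * y = c • ((y : Matrix ι ι F) * x)) :
    g ∉ subgroupNormalizer R := by
  classical
  intro hmem
  obtain ⟨u, w, hu, hw, huw, hguw⟩ := hg
  have hgv : ∀ x, (g : Matrix ι ι F) *ᵥ x = x + (w ⬝ᵥ x) • u := fun x =>
    IsRankOneElt.mulVec hguw x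
  have hgi : ∀ x, ((g⁻¹ : GL ι F) : Matrix ι ι F) *ᵥ x = x - (w ⬝ᵥ x) • u := fun x =>
    IsTv.inv_mulVec huw hguw x
  -- `g` commutes with all elements of `R`
  have key : ∀ a ∈ R, (g : Matrix ι ι F) * (a : Matrix ι ι F) = (a : Matrix ι ι F) * g := by
    intro a ha
    have haa : ((a⁻¹ : GL ι F) : Matrix ι ι F) * (a : Matrix ι ι F) = 1 := by
      rw [← Units.val_mul, inv_mul_cancel, Units.val_one]
    have haa' : (a : Matrix ι ι F) * ((a⁻¹ : GL ι F) : Matrix ι ι F) = 1 := by
      rw [← Units.val_mul, mul_inv_cancel, Units.val_one]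
    set z : GL ι F := g * (a * g⁻¹ * a⁻¹) with hz
    have hzR : z ∈ R := by
      have h1 : g * a * g⁻¹ ∈ R := (Subgroup.mem_normalizer_iff.1 hmem a).1 ha
      have h2 : z = (g * a * g⁻¹) * a⁻¹ := by rw [hz]; group
      rw [h2]
      exact R.mul_mem h1 (R.inv_mem ha)
    set u' := (a : Matrix ι ι F) *ᵥ u with hu'
    set w' := w ᵥ* ((a⁻¹ : GL ι F) : Matrix ι ι F) with hw'
    have hw'x : ∀ x, w' ⬝ᵥ x = w ⬝ᵥ (((a⁻¹ : GL ι F) : Matrix ι ι F) *ᵥ x) := by
      intro x
      rw [hw', ← Matrix.dotProduct_mulVec]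
    have hw'u : w' ⬝ᵥ u' = 0 := by
      rw [hw'x, hu', Matrix.mulVec_mulVec, haa, Matrix.one_mulVec, huw]
    have hzv : ∀ x, (z : Matrix ι ι F) *ᵥ x =
        x - (w' ⬝ᵥ x) • u' + (w ⬝ᵥ x - (w' ⬝ᵥ x) * (w ⬝ᵥ u')) • u := by
      intro x
      have h1 : ((a * g⁻¹ * a⁻¹ : GL ι F) : Matrix ι ι F) *ᵥ x = x - (w' ⬝ᵥ x) • u' := by
        rw [Units.val_mul, Units.val_mul, ← Matrix.mulVec_mulVec, ← Matrix.mulVec_mulVec, hgi,
          Matrix.mulVec_sub, Matrix.mulVec_mulVec, haa', Matrix.one_mulVec, Matrix.mulVec_smul,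
          ← hw'x]
      rw [hz, Units.val_mul, ← Matrix.mulVec_mulVec, h1, hgv, dotProduct_sub, dotProduct_smul,
        smul_eq_mul]
    have hfix : ∀ x, w ⬝ᵥ x = 0 → w' ⬝ᵥ x = 0 → (z : Matrix ι ι F) *ᵥ x = x := by
      intro x h1 h2
      rw [hzv, h1, h2, zero_smul, zero_mul, sub_zero, sub_zero, zero_smul, add_zero]
    -- `z` commutes with all elements of `R`
    have hzc : ∀ y ∈ R, (z : Matrix ι ι F) * (y : Matrix ι ι F) = (y : Matrix ι ι F) * z := by
      intro y hy
      obtain ⟨c, hc⟩ := hcomm y hy z hzR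
      have hyy : ((y⁻¹ : GL ι F) : Matrix ι ι F) * (y : Matrix ι ι F) = 1 := by
        rw [← Units.val_mul, inv_mul_cancel, Units.val_one]
      by_cases hc1 : c = 1
      · rw [hc, hc1, one_smul]
      exfalso
      -- the fixed space of `z`
      set E : Submodule F (ι → F) := LinearMap.ker ((dp w).prod (dp w')) with hE
      have hEdim : Fintype.card ι ≤ Module.finrank F E + 2 := by
        have h1 := LinearMap.finrank_range_add_finrank_ker ((dp w).prod (dp w'))
        rw [Module.finrank_fintype_fun_eq_card] at h1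
        have h2 : Module.finrank F (LinearMap.range ((dp w).prod (dp w'))) ≤ 2 := by
          refine (Submodule.finrank_le _).trans ?_
          rw [Module.finrank_prod, Module.finrank_self]
        rw [← hE] at h1
        omega
      have hEv : ∀ v ∈ E, (y : Matrix ι ι F) *ᵥ v = c • ((z : Matrix ι ι F) *ᵥ ((y : Matrix ι ι F) *ᵥ v)) := by
        intro v hv
        rw [hE, LinearMap.mem_ker] at hv
        have h1 : w ⬝ᵥ v = 0 := congrArg Prod.fst hv
        have h2 : w' ⬝ᵥ v = 0 := congrArg Prod.snd hv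
        have h3 := congrArg (fun M : Matrix ι ι F => M *ᵥ v) hc
        simp only [Matrix.smul_mulVec, ← Matrix.mulVec_mulVec] at h3
        rw [hfix v h1 h2] at h3
        exact h3
      have hc0 : c ≠ 0 := by
        rintro rfl
        have hE0 : E ≠ ⊥ := by
          intro h0
          rw [h0, finrank_bot] at hEdim
          omega
        obtain ⟨v, hv, hv0⟩ := Submodule.exists_mem_ne_zero_of_ne_bot hE0
        have h1 := hEv v hv
        rw [zero_smul] at h1
        apply hv0
        rw [← Matrix.one_mulVec v, ← hyy, ← Matrix.mulVec_mulVec, h1, Matrix.mulVec_zero]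
      set E' : Submodule F (ι → F) := E.map (Matrix.mulVecLin (y : Matrix ι ι F)) with hE'
      have hE'dim : Module.finrank F E' = Module.finrank F E := by
        have hinj : Function.Injective (Matrix.mulVecLin (y : Matrix ι ι F)) := by
          intro v v' hvv
          have h1 : (y : Matrix ι ι F) *ᵥ v = (y : Matrix ι ι F) *ᵥ v' := hvv
          rw [← Matrix.one_mulVec v, ← hyy, ← Matrix.mulVec_mulVec, h1, Matrix.mulVec_mulVec, hyy,
            Matrix.one_mulVec]
        exact (Submodule.equivMapOfInjective _ hinj E).finrank_eq.symm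
      have hE'z : ∀ v ∈ E', (z : Matrix ι ι F) *ᵥ v = c⁻¹ • v := by
        rintro _ ⟨v, hv, rfl⟩
        have h1 := hEv v hv
        rw [Matrix.mulVecLin_apply]
        conv_rhs => rw [h1]
        rw [smul_smul, inv_mul_cancel₀ hc0, one_smul]
      have hE'le : E' ≤ Submodule.span F {u, u'} := by
        intro v hv
        have h1 := hE'z v hv
        rw [hzv] at h1
        have hc' : c⁻¹ - 1 ≠ 0 := by
          intro h0
          apply hc1
          have : c⁻¹ = 1 := by linear_combination h0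
          rw [← inv_inv c, this, inv_one]
        have h2 : v = (c⁻¹ - 1)⁻¹ • ((w ⬝ᵥ v - (w' ⬝ᵥ v) * (w ⬝ᵥ u')) • u - (w' ⬝ᵥ v) • u') := by
          rw [eq_inv_smul_iff₀ hc', sub_smul, one_smul, ← h1]
          abel
        rw [h2]
        apply Submodule.smul_mem
        apply Submodule.sub_mem
        · exact Submodule.smul_mem _ _ (Submodule.subset_span (by simp))
        · exact Submodule.smul_mem _ _ (Submodule.subset_span (by simp))
      have hspan : Module.finrank F (Submodule.span F {u, u'}) ≤ 2 := by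
        have h1 := finrank_span_le_card (R := F) ({u, u'} : Set (ι → F))
        refine h1.trans ?_
        rw [Set.toFinset_insert, Set.toFinset_singleton]
        exact Finset.card_le_two
      have hE'eq : E' = Submodule.span F {u, u'} := by
        apply Submodule.eq_of_le_of_finrank_le hE'le
        omega
      have hu'E : u' ∈ E' := by
        rw [hE'eq]
        exact Submodule.subset_span (by simp)
      have h1 := hE'z u' hu'E
      rw [hzv, hw'u, zero_smul, zero_mul, sub_zero, sub_zero] at h1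
      -- independence
      have hdim2 : 2 ≤ Module.finrank F (Submodule.span F {u, u'}) := by
        rw [← hE'eq]
        omega
      by_cases h0 : w ⬝ᵥ u' = 0
      · rw [h0, zero_smul, add_zero] at h1
        have hu'0 : u' ≠ 0 := by
          intro h2
          apply hu
          rw [← Matrix.one_mulVec u, ← haa, ← Matrix.mulVec_mulVec, ← hu', h2, Matrix.mulVec_zero]
        have h2 : (c⁻¹ - 1) • u' = 0 := by rw [sub_smul, one_smul, ← h1, sub_self]
        rcases smul_eq_zero.1 h2 with h3 | h3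
        · apply hc1
          have : c⁻¹ = 1 := by linear_combination h3
          rw [← inv_inv c, this, inv_one]
        · exact hu'0 h3
      · have h2 : u = ((w ⬝ᵥ u')⁻¹ * (c⁻¹ - 1)) • u' := by
          rw [mul_smul, eq_inv_smul_iff₀ h0, sub_smul, one_smul, ← h1]
          abel
        have h3 : Submodule.span F {u, u'} ≤ Submodule.span F {u'} := by
          rw [Submodule.span_le]
          rintro x (rfl | rfl)
          · rw [h2]
            exact Submodule.smul_mem _ _ (Submodule.subset_span rfl)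
          · exact Submodule.subset_span rfl
        have h4 := Submodule.finrank_mono h3
        have h5 : Module.finrank F (Submodule.span F {u'}) ≤ 1 :=
          (finrank_span_le_card (R := F) ({u'} : Set (ι → F))).trans (by simp)
        omega
    obtain ⟨c, hc⟩ := habs.2 (z : Matrix ι ι F) (by
      rintro _ ⟨y, hy, rfl⟩
      exact hzc y hy)
    obtain ⟨x, hx0, hx1, hx2⟩ := exists_ne_zero_two (by omega) (dp w) (dp w')
    rw [dp_apply] at hx1 hx2
    have h1 := hfix x hx1 hx2
    rw [hc, Matrix.smul_mulVec, Matrix.one_mulVec] at h1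
    have hc1 : c = 1 := by
      have h2 : (c - 1) • x = 0 := by rw [sub_smul, one_smul, h1, sub_self]
      rcases smul_eq_zero.1 h2 with h3 | h3
      · linear_combination h3
      · exact absurd h3 hx0
    have hz1 : z = 1 := by
      apply Units.ext
      rw [hc, hc1, one_smul, Units.val_one]
    have hga : g * a = a * g := by
      have h2 : g * (a * g⁻¹ * a⁻¹) = 1 := by rw [← hz, hz1]
      have h3 : g * a * g⁻¹ * a⁻¹ = 1 := by rw [← h2]; group
      calc g * a = (g * a * g⁻¹ * a⁻¹) * (a * g) := by group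
        _ = a * g := by rw [h3, one_mul]
    have := congrArg Units.val hga
    simpa using this
  obtain ⟨c, hc⟩ := habs.2 (g : Matrix ι ι F) (by
    rintro _ ⟨y, hy, rfl⟩
    exact key y hy)
  obtain ⟨x, hx0, hx1, -⟩ := exists_ne_zero_two (by omega) (dp w) (dp w)
  rw [dp_apply] at hx1
  have h1 := hgv x
  rw [hc, Matrix.smul_mulVec, Matrix.one_mulVec, hx1, zero_smul, add_zero] at h1
  have hc1 : c = 1 := by
    have h2 : (c - 1) • x = 0 := by rw [sub_smul, one_smul, h1, sub_self]
    rcases smul_eq_zero.1 h2 with h3 | h3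
    · linear_combination h3
    · exact absurd h3 hx0
  rw [hguw, hc1, one_smul, add_eq_left] at hc
  obtain ⟨i, hi⟩ : ∃ i, u i ≠ 0 := by
    by_contra hcon
    push Not at hcon
    exact hu (funext hcon)
  obtain ⟨j, hj⟩ : ∃ j, w j ≠ 0 := by
    by_contra hcon
    push Not at hcon
    exact hw (funext hcon)
  have := congrFun (congrFun hc i) j
  rw [Matrix.vecMulVec_apply, Matrix.zero_apply] at this
  exact mul_ne_zero hi hj this

end Cfsg.Agent.H262.El
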