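import Cfsg.Agent.H876.SpGen
import Cfsg.Agent.H931.SpProper
import Cfsg.Agent.S0801
import Cfsg.Agent.H813.SaxSpK
import Cfsg.Agent.FastGrp
import Cfsg.Agent.Prune
set_option linter.all false

section
prune_inst 0x7f00000000000000000000000000000000000000000000000000000000000000000000000000000000000000000000000000000000000000000000000000000000000000000000000000000000000000003fffffffffffffffffffffffffffbeffbdffffffff

-- part: H262/ElTvA
section
set_option linter.all false
open scoped Cfsg.Agent.FastGrp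

/-!
# Irreducible groups generated by symplectic transvections, odd characteristic: two transvections
-/

set_option autoImplicit false

namespace Cfsg.Agent.H262.Tv

open Cfsg Module
open Cfsg.Agent.ClassicalGeometry.SympBasic Cfsg.Agent.H876 Cfsg.Agent.H931
open scoped Matrix MatrixGroups

variable {F : Type*} [Field F] {m : ℕ}

local notation "V" => (Fin m ⊕ Fin m → F)

/-- action on vectors -/
abbrev ap (g : GL (Fin m ⊕ Fin m) F) (v : Fin m ⊕ Fin m → F) : Fin m ⊕ Fin m → F :=
  (g : Matrix (Fin m ⊕ Fin m) (Fin m ⊕ Fin m) F) *ᵥ v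

local notation "fo" => sympForm m F

theorem ap_mul (g h : GL (Fin m ⊕ Fin m) F) (v : Fin m ⊕ Fin m → F) : ap (g * h) v = ap g (ap h v) := by
  rw [ap, ap, ap, Matrix.mulVec_mulVec, Units.val_mul]

theorem ap_one (v : Fin m ⊕ Fin m → F) : ap (1 : GL (Fin m ⊕ Fin m) F) v = v := by
  rw [ap, Units.val_one, Matrix.one_mulVec]

theorem ap_t (a v : Fin m ⊕ Fin m → F) (c : F) : ap (tGL a c) v = v + (c * fo v a) • a := tGL_mulVec a v c

theorem t_zero (a : Fin m ⊕ Fin m → F) : tGL a (0 : F) = 1 := by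
  apply gl_ext
  intro v
  change ap _ v = ap _ v
  rw [ap_t, ap_one, zero_mul, zero_smul, add_zero]

theorem t_add (a : Fin m ⊕ Fin m → F) (c d : F) : tGL a (c + d) = tGL a c * tGL a d := by
  apply gl_ext
  intro v
  change ap _ v = ap _ v
  rw [ap_mul, ap_t, ap_t, ap_t, sympForm_add_left, sympForm_smul_left, sympForm_self, mul_zero, add_zero,
    add_assoc, ← add_smul]
  congr 2
  ring

theorem t_neg (a : Fin m ⊕ Fin m → F) (c : F) : tGL a (-c) = (tGL a c)⁻¹ := by
  rw [eq_inv_iff_mul_eq_one, ← t_add, neg_add_cancel, t_zero]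

theorem t_smul (a : Fin m ⊕ Fin m → F) (s c : F) : tGL (s • a) c = tGL a (s ^ 2 * c) := by
  apply gl_ext
  intro v
  change ap _ v = ap _ v
  rw [ap_t, ap_t, sympForm_smul_right, smul_smul]
  congr 2
  ring

theorem t_conj {g : GL (Fin m ⊕ Fin m) F} (hg : g ∈ spGL m F) (a : Fin m ⊕ Fin m → F) (c : F) :
    g * tGL a c * g⁻¹ = tGL (ap g a) c := by
  rw [mul_inv_eq_iff_eq_mul]
  apply gl_ext
  intro v
  change ap _ v = ap _ v
  rw [ap_mul, ap_mul, ap_t, ap_t, ap, Matrix.mulVec_add, Matrix.mulVec_smul]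
  congr 3
  exact (mem_spGL_iff.1 hg v a).symm

/-! ### The plane homomorphism -/

/-- the matrix of the map acting on the plane `⟨a, b⟩` by `A` and trivially on its orthogonal complement -/
def th (a b : Fin m ⊕ Fin m → F) (A : Matrix (Fin 2) (Fin 2) F) : Matrix (Fin m ⊕ Fin m) (Fin m ⊕ Fin m) F :=
  LinearMap.toMatrix' (
    { toFun := fun v => v +
        ((A 0 0 - 1) * (fo v b / fo a b) + A 0 1 * (fo a v / fo a b)) • a +
        (A 1 0 * (fo v b / fo a b) + (A 1 1 - 1) * (fo a v / fo a b)) • b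
      map_add' := by
        intro u v
        simp only [sympForm_add_left, sympForm_add_right, add_div, mul_add, add_smul]
        abel
      map_smul' := by
        intro c v
        simp only [sympForm_smul_left, sympForm_smul_right, smul_add, smul_smul, RingHom.id_apply]
        congr 2
        · congr 2
          ring
        · ring_nf } : (Fin m ⊕ Fin m → F) →ₗ[F] (Fin m ⊕ Fin m → F))

theorem th_mulVec (a b : Fin m ⊕ Fin m → F) (A : Matrix (Fin 2) (Fin 2) F) (v : Fin m ⊕ Fin m → F) :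
    th a b A *ᵥ v = v +
        ((A 0 0 - 1) * (fo v b / fo a b) + A 0 1 * (fo a v / fo a b)) • a +
        (A 1 0 * (fo v b / fo a b) + (A 1 1 - 1) * (fo a v / fo a b)) • b := by
  rw [th, LinearMap.toMatrix'_mulVec]
  rfl

theorem th_one (a b : Fin m ⊕ Fin m → F) : th a b 1 = 1 := by
  apply Matrix.ext_of_mulVec_single
  intro i
  rw [th_mulVec, Matrix.one_mulVec]
  simp

theorem th_mul {a b : Fin m ⊕ Fin m → F} (hab : fo a b ≠ 0) (A B : Matrix (Fin 2) (Fin 2) F) :
    th a b (A * B) = th a b A * th a b B := by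
  apply Matrix.ext_of_mulVec_single
  intro i
  rw [← Matrix.mulVec_mulVec, th_mulVec, th_mulVec a b B]
  set v : Fin m ⊕ Fin m → F := Pi.single i 1 with hv
  rw [th_mulVec]
  simp only [sympForm_add_left, sympForm_add_right, sympForm_smul_left, sympForm_smul_right, sympForm_self,
    Matrix.mul_apply, Fin.sum_univ_two]
  have h1 : sympForm m F a b / sympForm m F a b = 1 := div_self hab
  have e : ∀ (x y : F) (p q r s : F), (v + x • a + y • b) + p • a + q • b = v + r • a + s • b ↔
      (x + p - r) • a + (y + q - s) • b = 0 := by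
    intro x y p q r s
    constructor
    · intro h
      have h2 : (v + x • a + y • b) + p • a + q • b - (v + r • a + s • b) = 0 := sub_eq_zero.2 h
      rw [← h2]
      simp only [add_smul, sub_smul]
      abel
    · intro h
      rw [← sub_eq_zero, ← h]
      simp only [add_smul, sub_smul]
      abel
  symm
  rw [e]
  set φ := sympForm m F a b with hφ
  have h2 : ∀ x : F, x * φ / φ = x := fun x => by rw [mul_div_assoc, h1, mul_one]
  convert (by simp : (0 : F) • a + (0 : F) • b = 0) using 2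
  · congr 1
    field_simp
    ring
  · congr 1
    field_simp
    ring


/-- the homomorphism from `SL₂(F)` attached to a hyperbolic plane -/
noncomputable def thHom {a b : Fin m ⊕ Fin m → F} (hab : fo a b ≠ 0) :
    Matrix.SpecialLinearGroup (Fin 2) F →* GL (Fin m ⊕ Fin m) F where
  toFun A := ⟨th a b A.1, th a b (A⁻¹).1,
    by rw [← th_mul hab, ← Matrix.SpecialLinearGroup.coe_mul, mul_inv_cancel, Matrix.SpecialLinearGroup.coe_one,
      th_one],
    by rw [← th_mul hab, ← Matrix.SpecialLinearGroup.coe_mul, inv_mul_cancel, Matrix.SpecialLinearGroup.coe_one,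
      th_one]⟩
  map_one' := Units.ext (th_one a b)
  map_mul' A B := Units.ext ((congrArg (th a b) (Matrix.SpecialLinearGroup.coe_mul A B)).trans (th_mul hab _ _))

theorem ap_thHom {a b : Fin m ⊕ Fin m → F} (hab : fo a b ≠ 0) (A : Matrix.SpecialLinearGroup (Fin 2) F)
    (v : Fin m ⊕ Fin m → F) : ap (thHom hab A) v = v +
        ((A.1 0 0 - 1) * (fo v b / fo a b) + A.1 0 1 * (fo a v / fo a b)) • a +
        (A.1 1 0 * (fo v b / fo a b) + (A.1 1 1 - 1) * (fo a v / fo a b)) • b := th_mulVec a b A.1 v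

theorem thHom_upper {a b : Fin m ⊕ Fin m → F} (hab : fo a b ≠ 0) {A : Matrix.SpecialLinearGroup (Fin 2) F} {μ : F}
    (hA : A.1 = !![1, μ; 0, 1]) : thHom hab A = tGL a (-μ / fo a b) := by
  apply gl_ext
  intro v
  change ap _ v = ap _ v
  rw [ap_thHom, ap_t, hA]
  simp only [Matrix.of_apply, Matrix.cons_val', Matrix.cons_val_zero, Matrix.cons_val_one, Matrix.cons_val_fin_one,
    sub_self, zero_mul, zero_add, add_zero, zero_smul]
  rw [sympForm_swap a v]
  congr 2
  ring

theorem thHom_lower {a b : Fin m ⊕ Fin m → F} (hab : fo a b ≠ 0) {A : Matrix.SpecialLinearGroup (Fin 2) F} {ν : F}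
    (hA : A.1 = !![1, 0; ν, 1]) : thHom hab A = tGL b (ν / fo a b) := by
  apply gl_ext
  intro v
  change ap _ v = ap _ v
  rw [ap_thHom, ap_t, hA]
  simp only [Matrix.of_apply, Matrix.cons_val', Matrix.cons_val_zero, Matrix.cons_val_one, Matrix.cons_val_fin_one,
    sub_self, zero_mul, add_zero, zero_smul]
  congr 2
  ring

/-- an involution of `SL₂(k)` is `-1` -/
theorem involution_eq {k : Type*} [Field k] (h2 : (2 : k) ≠ 0) {w : Matrix.SpecialLinearGroup (Fin 2) k}
    (hw : w ^ 2 = 1) (hw1 : w ≠ 1) : w.1 = !![-1, 0; 0, -1] := by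
  have hinv : w⁻¹ = w := by
    rw [inv_eq_iff_mul_eq_one, ← pow_two, hw]
  have h1 := congrArg Subtype.val hinv
  rw [Matrix.SpecialLinearGroup.coe_inv, Matrix.adjugate_fin_two] at h1
  have hdet := w.2
  rw [Matrix.det_fin_two] at hdet
  have e00 := congrFun (congrFun h1 0) 0
  have e01 := congrFun (congrFun h1 0) 1
  have e10 := congrFun (congrFun h1 1) 0
  simp only [Matrix.of_apply, Matrix.cons_val', Matrix.cons_val_zero, Matrix.cons_val_one,
    Matrix.cons_val_fin_one] at e00 e01 e10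
  have h01 : w.1 0 1 = 0 := by
    have : (2 : k) * w.1 0 1 = 0 := by linear_combination -e01
    exact (mul_eq_zero.1 this).resolve_left h2
  have h10 : w.1 1 0 = 0 := by
    have : (2 : k) * w.1 1 0 = 0 := by linear_combination -e10
    exact (mul_eq_zero.1 this).resolve_left h2
  rw [h01, e00] at hdet
  have h3 : (w.1 0 0 - 1) * (w.1 0 0 + 1) = 0 := by linear_combination hdet
  rcases mul_eq_zero.1 h3 with h4 | h4
  · exfalso
    apply hw1
    apply Subtype.ext
    rw [Matrix.SpecialLinearGroup.coe_one, Matrix.eta_fin_two w.1, e00, h01, h10, sub_eq_zero.1 h4,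
      Matrix.one_fin_two]
  · rw [Matrix.eta_fin_two w.1, e00, h01, h10, eq_neg_of_add_eq_zero_left h4]

theorem closure_singleton_top {lam : F} (x : Subfield.closure ({lam} : Set F)) (hx : (x : F) = lam) :
    Subfield.closure ({x} : Set (Subfield.closure ({lam} : Set F))) = ⊤ := by
  rw [eq_top_iff]
  rintro ⟨y, hy⟩ -
  have h1 : Subfield.closure ({lam} : Set F) ≤
      (Subfield.closure ({x} : Set (Subfield.closure ({lam} : Set F)))).map
        (Subfield.closure ({lam} : Set F)).subtype := by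
    rw [Subfield.closure_le]
    rintro _ rfl
    exact ⟨x, Subfield.subset_closure rfl, hx⟩
  obtain ⟨z, hz, hzy⟩ := h1 hy
  have : z = ⟨y, hy⟩ := Subtype.ext hzy
  rwa [← this]

/-- **Two transvections.** -/
theorem key [Finite F] (h2 : (2 : F) ≠ 0) {H : Subgroup (GL (Fin m ⊕ Fin m) F)} {a b : Fin m ⊕ Fin m → F}
    (hab : fo a b ≠ 0) {c d : F} (hc : c ≠ 0) (hd : d ≠ 0) (ha : tGL a c ∈ H) (hb : tGL b d ∈ H) :
    tGL a (c * (c * d * (fo a b) ^ 2)) ∈ H ∨
      ((c * d * (fo a b) ^ 2) ^ 2 = -1 ∧ (3 : F) = 0 ∧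
        ∃ z ∈ H, ∀ v, ap z v = v - (2 * (fo v b / fo a b)) • a - (2 * (fo a v / fo a b)) • b) := by
  classical
  set φ := fo a b with hφ
  set γ := c * d * φ ^ 2 with hγ
  have hγ0 : γ ≠ 0 := mul_ne_zero (mul_ne_zero hc hd) (pow_ne_zero 2 hab)
  have hdφ : d * φ ≠ 0 := mul_ne_zero hd hab
  set s : F := (d * φ)⁻¹ with hs
  have hab1 : fo (s • a) b ≠ 0 := by
    rw [sympForm_smul_left]
    exact mul_ne_zero (inv_ne_zero hdφ) hab
  have hφ1 : fo (s • a) b = d⁻¹ := by
    rw [sympForm_smul_left, hs, ← hφ]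
    field_simp
  set k := Subfield.closure ({-γ} : Set F) with hk
  have hlam : -γ ∈ k := Subfield.subset_closure rfl
  have hfink : Finite k := inferInstance
  have : Fintype k := Fintype.ofFinite k
  let Ψ : Matrix.SpecialLinearGroup (Fin 2) k →* GL (Fin m ⊕ Fin m) F :=
    (thHom hab1).comp (Matrix.SpecialLinearGroup.map k.subtype)
  have hmap : ∀ A : Matrix.SpecialLinearGroup (Fin 2) k, ∀ p q r t : k, A.1 = !![p, q; r, t] →
      (Matrix.SpecialLinearGroup.map k.subtype A).1 = !![(p : F), q; r, t] := by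
    intro A p q r t hA
    ext i j
    rw [Matrix.SpecialLinearGroup.map_apply_coe, RingHom.mapMatrix_apply, Matrix.map_apply, hA]
    fin_cases i <;> fin_cases j <;> rfl
  have hup : ∀ A : Matrix.SpecialLinearGroup (Fin 2) k, ∀ μ : k, A.1 = !![1, μ; 0, 1] →
      Ψ A = tGL a (-(μ : F) / (d * φ ^ 2)) := by
    intro A μ hA
    have h1 := thHom_upper hab1 (A := Matrix.SpecialLinearGroup.map k.subtype A) (μ := (μ : F)) (by
      rw [hmap A 1 μ 0 1 hA]
      rfl)
    change thHom hab1 (Matrix.SpecialLinearGroup.map k.subtype A) = _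
    rw [h1, t_smul, hφ1, hs]
    congr 1
    field_simp
  have hlo : ∀ A : Matrix.SpecialLinearGroup (Fin 2) k, A.1 = !![1, 0; 1, 1] → Ψ A = tGL b d := by
    intro A hA
    have h1 := thHom_lower hab1 (A := Matrix.SpecialLinearGroup.map k.subtype A) (ν := 1) (by
      rw [hmap A 1 0 1 1 hA]
      rfl)
    change thHom hab1 (Matrix.SpecialLinearGroup.map k.subtype A) = _
    rw [h1, hφ1]
    congr 1
    rw [one_div, inv_inv]
  set lam : k := ⟨-γ, hlam⟩ with hlamd
  have h2k : (2 : k) ≠ 0 := by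
    intro h
    apply h2
    have := congrArg k.subtype h
    rwa [map_ofNat, map_zero] at this
  have hle : Subgroup.closure {g : Matrix.SpecialLinearGroup (Fin 2) k |
      (g : Matrix (Fin 2) (Fin 2) k) = !![1, 0; 1, 1] ∨ (g : Matrix (Fin 2) (Fin 2) k) = !![1, lam; 0, 1]} ≤
      H.comap Ψ := by
    rw [Subgroup.closure_le]
    rintro g (hg | hg)
    · rw [SetLike.mem_coe, Subgroup.mem_comap, hlo g hg]
      exact hb
    · rw [SetLike.mem_coe, Subgroup.mem_comap, hup g lam hg]
      have : -(lam : F) / (d * φ ^ 2) = c := by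
        change -(-γ) / (d * φ ^ 2) = c
        rw [neg_neg, hγ]
        field_simp
      rw [this]
      exact ha
  rcases Cfsg.Agent.S0801.result h2k lam (fun h => hγ0 (by
      have := congrArg (fun x : k => (x : F)) h
      simpa [hlamd] using this)) (closure_singleton_top lam rfl) with ⟨htop, -⟩ | ⟨h9, hl2, h120⟩
  · left
    let A : Matrix.SpecialLinearGroup (Fin 2) k := ⟨!![1, -(lam ^ 2); 0, 1], by
      rw [Matrix.det_fin_two_of]; ring⟩
    have h1 : A ∈ H.comap Ψ := hle (by rw [htop]; trivial)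
    rw [Subgroup.mem_comap, hup A (-(lam ^ 2)) rfl] at h1
    have h3 : -((-(lam ^ 2) : k) : F) / (d * φ ^ 2) = c * γ := by
      push_cast
      change - -((-γ) ^ 2) / (d * φ ^ 2) = c * γ
      rw [neg_neg, neg_sq, pow_two γ]
      nth_rewrite 1 [hγ]
      field_simp
    rwa [h3] at h1
  · right
    have h3 : (3 : F) = 0 := by
      obtain ⟨p, hp⟩ := CharP.exists k
      obtain ⟨n, hpp, hn⟩ := FiniteField.card k p
      rw [h9] at hn
      have h4 : p ∣ 9 := by
        rw [hn]
        exact dvd_pow_self p n.pos.ne'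
      have h5 : p = 3 := by
        have h6 : p ∣ 3 ^ 2 := by norm_num; exact h4
        exact (Nat.prime_dvd_prime_iff_eq hpp Nat.prime_three).1 (hpp.dvd_of_dvd_pow h6)
      subst h5
      have h7 : ((3 : ℕ) : k) = 0 := CharP.cast_eq_zero k 3
      have := congrArg k.subtype h7
      rw [map_natCast, map_zero] at this
      exact_mod_cast this
    refine ⟨?_, h3, ?_⟩
    · have := congrArg k.subtype hl2
      rw [map_pow, map_neg, map_one] at this
      change (-γ) ^ 2 = -1 at this
      rwa [neg_sq] at this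
    · have : Fact (Nat.Prime 2) := ⟨Nat.prime_two⟩
      obtain ⟨⟨w, hwc⟩, hw⟩ := exists_prime_orderOf_dvd_card' 2 (by rw [h120]; norm_num :
        2 ∣ Nat.card ↥(Subgroup.closure {g : Matrix.SpecialLinearGroup (Fin 2) k |
          (g : Matrix (Fin 2) (Fin 2) k) = !![1, 0; 1, 1] ∨ (g : Matrix (Fin 2) (Fin 2) k) = !![1, lam; 0, 1]}))
      rw [Subgroup.orderOf_mk] at hw
      have hw2 : w ^ 2 = 1 := orderOf_dvd_iff_pow_eq_one.1 (by rw [hw])
      have hw1 : w ≠ 1 := by
        rintro rfl
        rw [orderOf_one] at hw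
        omega
      have hwm := involution_eq h2k hw2 hw1
      refine ⟨Ψ w, hle hwc, fun v => ?_⟩
      change ap (thHom hab1 (Matrix.SpecialLinearGroup.map k.subtype w)) v = _
      rw [ap_thHom, hmap w (-1) 0 0 (-1) hwm, sympForm_smul_left, sympForm_smul_left, ← hφ]
      simp only [Matrix.of_apply, Matrix.cons_val', Matrix.cons_val_zero, Matrix.cons_val_one,
        Matrix.cons_val_fin_one, Subfield.coe_neg, Subfield.coe_one, Subfield.coe_zero, zero_mul, add_zero,
        zero_add, smul_smul]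
      have hsub : v - (2 * (fo v b / φ)) • a - (2 * (fo a v / φ)) • b =
          v + (-(2 * (fo v b / φ))) • a + (-(2 * (fo a v / φ))) • b := by
        rw [neg_smul, neg_smul, sub_eq_add_neg, sub_eq_add_neg]
      rw [hsub]
      have hs0 : s ≠ 0 := inv_ne_zero hdφ
      congr 2
      · congr 1
        field_simp
        ring
      · congr 1
        field_simp
        ring

end Cfsg.Agent.H262.Tv

private theorem dce_169b8885ef90 : _root_.True := by
  try have : _root_.True := by simp only [_root_.Cfsg.Agent.H262.Tv.th.eq_1]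
  try have : _root_.True := by simp only [_root_.Cfsg.Agent.H262.Tv.ap.eq_1]
  exact _root_.True.intro
end

-- part: H262/ElSympRes
section
set_option linter.all false
open scoped Cfsg.Agent.FastGrp

-- part: H262/ElTvB
section
/-!
# Irreducible groups generated by symplectic transvections, odd characteristic: connectedness and the
elimination of `SL₂(5) ≤ SL₂(9)`
-/

set_option autoImplicit false

namespace Cfsg.Agent.H262.Tv

open Cfsg Module
open Cfsg.Agent.ClassicalGeometry.SympBasic Cfsg.Agent.H876 Cfsg.Agent.H931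
open scoped Matrix MatrixGroups

variable {F : Type*} [Field F] {m : ℕ}

local notation "fo" => sympForm m F

/-- the hypotheses: `H ≤ Sp_2m(q)`, `q` odd, `m ≥ 2`, the transvections in `H` generate an irreducible group -/
structure Dat (H : Subgroup (GL (Fin m ⊕ Fin m) F)) : Prop where
  le : H ≤ spGL m F
  two : (2 : F) ≠ 0
  dim : 2 ≤ m
  irr : ∀ W : Submodule F (Fin m ⊕ Fin m → F), (∀ b c, tGL b c ∈ H → ∀ v ∈ W, ap (tGL b c) v ∈ W) → W = ⊥ ∨ W = ⊤
  ne : ∃ b, ∃ c : F, b ≠ 0 ∧ c ≠ 0 ∧ tGL b c ∈ H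

variable {H : Subgroup (GL (Fin m ⊕ Fin m) F)}

/-- centers of transvections -/
def Cen (H : Subgroup (GL (Fin m ⊕ Fin m) F)) (a : Fin m ⊕ Fin m → F) : Prop :=
  a ≠ 0 ∧ ∃ c : F, c ≠ 0 ∧ tGL a c ∈ H

/-- adjacency -/
def Adj (H : Subgroup (GL (Fin m ⊕ Fin m) F)) (a b : Fin m ⊕ Fin m → F) : Prop :=
  Cen H a ∧ Cen H b ∧ fo a b ≠ 0

theorem Adj.symm {a b : Fin m ⊕ Fin m → F} (h : Adj H a b) : Adj H b a :=
  ⟨h.2.1, h.1, by rw [sympForm_swap]; exact neg_ne_zero.2 h.2.2⟩

theorem Cen.of_ne {a : Fin m ⊕ Fin m → F} {c : F} (ha : a ≠ 0) (hc : c ≠ 0) (h : tGL a c ∈ H) : Cen H a :=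
  ⟨ha, c, hc, h⟩

theorem t_mem_add {a : Fin m ⊕ Fin m → F} {c d : F} (hc : tGL a c ∈ H) (hd : tGL a d ∈ H) : tGL a (c + d) ∈ H := by
  rw [t_add]
  exact H.mul_mem hc hd

theorem t_mem_neg {a : Fin m ⊕ Fin m → F} {c : F} (hc : tGL a c ∈ H) : tGL a (-c) ∈ H := by
  rw [t_neg]
  exact H.inv_mem hc

theorem t_mem_sub {a : Fin m ⊕ Fin m → F} {c d : F} (hc : tGL a c ∈ H) (hd : tGL a d ∈ H) : tGL a (c - d) ∈ H := by
  rw [sub_eq_add_neg]
  exact t_mem_add hc (t_mem_neg hd)

theorem Dat.conj (D : Dat H) {g : GL (Fin m ⊕ Fin m) F} (hg : g ∈ H) {a : Fin m ⊕ Fin m → F} {c : F}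
    (h : tGL a c ∈ H) : tGL (ap g a) c ∈ H := by
  rw [← t_conj (D.le hg)]
  exact H.mul_mem (H.mul_mem hg h) (H.inv_mem hg)

theorem ap_ne_zero {g : GL (Fin m ⊕ Fin m) F} {a : Fin m ⊕ Fin m → F} (ha : a ≠ 0) : ap g a ≠ 0 := mulVec_ne_zero g ha

theorem Dat.cen_conj (D : Dat H) {g : GL (Fin m ⊕ Fin m) F} (hg : g ∈ H) {a : Fin m ⊕ Fin m → F}
    (h : Cen H a) : Cen H (ap g a) := by
  obtain ⟨h0, c, hc, h⟩ := h
  exact ⟨ap_ne_zero h0, c, hc, D.conj hg h⟩

theorem Dat.fo_ap (D : Dat H) {g : GL (Fin m ⊕ Fin m) F} (hg : g ∈ H) (u v : Fin m ⊕ Fin m → F) :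
    fo (ap g u) (ap g v) = fo u v := mem_spGL_iff.1 (D.le hg) u v

theorem cen_of_t {a : Fin m ⊕ Fin m → F} {c : F} (h : tGL a c ∈ H) {v : Fin m ⊕ Fin m → F}
    (hv : c * fo v a ≠ 0) : Cen H a := by
  refine ⟨?_, c, left_ne_zero_of_mul hv, h⟩
  rintro rfl
  rw [sympForm_zero_right, mul_zero] at hv
  exact hv rfl

/-- the graph of centers is connected -/
theorem Dat.connected (D : Dat H) {a b : Fin m ⊕ Fin m → F} (ha : Cen H a) (hb : Cen H b) :
    Relation.ReflTransGen (Adj H) a b := by
  set W : Submodule F (Fin m ⊕ Fin m → F) := Submodule.span F {y | Relation.ReflTransGen (Adj H) a y} with hW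
  have haW : a ∈ W := Submodule.subset_span Relation.ReflTransGen.refl
  have hcen : ∀ y, Relation.ReflTransGen (Adj H) a y → Cen H y := by
    intro y hy
    rcases Relation.ReflTransGen.cases_tail hy with rfl | ⟨z, -, hz⟩
    · exact ha
    · exact hz.2.1
  rcases D.irr W (by
    intro e c hec v hv
    rw [ap_t]
    by_cases h0 : c * fo v e = 0
    · rw [h0, zero_smul, add_zero]
      exact hv
    · have he := cen_of_t hec h0
      refine W.add_mem hv (W.smul_mem _ ?_)
      -- `e` is adjacent to some `y` in the component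
      obtain ⟨y, hy, hye⟩ : ∃ y, Relation.ReflTransGen (Adj H) a y ∧ fo y e ≠ 0 := by
        by_contra hcon
        push Not at hcon
        apply right_ne_zero_of_mul h0
        rw [hW] at hv
        induction hv using Submodule.span_induction with
        | mem x hx => exact hcon x hx
        | zero => exact sympForm_zero_left e
        | add x y _ _ hx hy =>
          by_cases h1 : c * fo x e = 0
          · by_cases h2 : c * fo y e = 0
            · exfalso
              apply h0
              rw [sympForm_add_left, mul_add, h1, h2, add_zero]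
            · have h3 := (mul_eq_zero.1 h1).resolve_left (left_ne_zero_of_mul h2)
              rw [sympForm_add_left, h3, hy h2, add_zero]
          · by_cases h2 : c * fo y e = 0
            · have h3 := (mul_eq_zero.1 h2).resolve_left (left_ne_zero_of_mul h1)
              rw [sympForm_add_left, hx h1, h3, add_zero]
            · rw [sympForm_add_left, hx h1, hy h2, add_zero]
        | smul s x _ hx =>
          by_cases h1 : c * fo x e = 0
          · exfalso
            apply h0
            rw [sympForm_smul_left, mul_left_comm, h1, mul_zero]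
          · rw [sympForm_smul_left, hx h1, mul_zero]
      exact Submodule.subset_span (hy.tail ⟨hcen y hy, he, hye⟩)) with h | h
  · rw [h, Submodule.mem_bot] at haW
    exact absurd haW ha.1
  · -- `b` is adjacent to some `y` in the component
    obtain ⟨y, hy, hyb⟩ : ∃ y, Relation.ReflTransGen (Adj H) a y ∧ fo y b ≠ 0 := by
      by_contra hcon
      push Not at hcon
      apply hb.1
      apply eq_zero_of_forall_sympForm_left
      intro u
      have hu : u ∈ W := by rw [h]; trivial
      rw [hW] at hu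
      induction hu using Submodule.span_induction with
      | mem x hx => exact hcon x hx
      | zero => exact sympForm_zero_left b
      | add x y _ _ hx hy => rw [sympForm_add_left, hx, hy, add_zero]
      | smul s x _ hx => rw [sympForm_smul_left, hx, mul_zero]
    exact hy.tail ⟨hcen y hy, hb, hyb⟩

theorem Dat.exists_adj (D : Dat H) {a : Fin m ⊕ Fin m → F} (ha : Cen H a) : ∃ b, Adj H a b := by
  by_contra hcon
  push Not at hcon
  rcases D.irr (Submodule.span F {a}) (by
    intro e c hec v hv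
    rw [ap_t]
    by_cases h0 : c * fo v e = 0
    · rw [h0, zero_smul, add_zero]
      exact hv
    · exfalso
      obtain ⟨s, rfl⟩ := Submodule.mem_span_singleton.1 hv
      apply hcon e
      refine ⟨ha, cen_of_t hec h0, ?_⟩
      rw [sympForm_smul_left] at h0
      exact right_ne_zero_of_mul (right_ne_zero_of_mul h0)) with h | h
  · exact ha.1 (Submodule.span_singleton_eq_bot.1 h)
  · have h1 : finrank F (Submodule.span F ({a} : Set (Fin m ⊕ Fin m → F))) ≤ 1 :=
      (finrank_span_le_card (R := F) ({a} : Set (Fin m ⊕ Fin m → F))).trans (by simp)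
    rw [h, finrank_top, Module.finrank_fintype_fun_eq_card, Fintype.card_sum, Fintype.card_fin] at h1
    have := D.dim
    omega

/-- at most one transvection group element up to sign -/
def Small (H : Subgroup (GL (Fin m ⊕ Fin m) F)) (a : Fin m ⊕ Fin m → F) : Prop :=
  ∃ w : F, ∀ c, tGL a c ∈ H → c = 0 ∨ c = w ∨ c = -w

theorem Dat.small_adj [Finite F] (D : Dat H) (h3 : (3 : F) = 0) {x y : Fin m ⊕ Fin m → F} (hxy : Adj H x y)
    (hx : Small H x) : Small H y := by
  obtain ⟨w, hw⟩ := hx
  obtain ⟨⟨hx0, c0, hc0, hc0H⟩, ⟨hy0, d1, hd1, hd1H⟩, hφ⟩ := hxy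
  set φ := fo x y with hφd
  have hw0 : w ≠ 0 := by
    rintro rfl
    rcases hw c0 hc0H with h | h | h
    · exact hc0 h
    · exact hc0 h
    · rw [neg_zero] at h
      exact hc0 h
  have hwH : tGL x w ∈ H := by
    rcases hw c0 hc0H with h | h | h
    · exact absurd h hc0
    · rw [← h]; exact hc0H
    · have := t_mem_neg hc0H
      rwa [h, neg_neg] at this
  have hsq : ∀ d, d ≠ 0 → tGL y d ∈ H → (w * d * φ ^ 2) ^ 2 = 1 ∨ (w * d * φ ^ 2) ^ 2 = -1 := by
    intro d hd hdH
    rcases key D.two hφ hw0 hd hwH hdH with h | ⟨h, -⟩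
    · left
      have hγ0 : w * d * φ ^ 2 ≠ 0 := mul_ne_zero (mul_ne_zero hw0 hd) (pow_ne_zero 2 hφ)
      rcases hw _ h with h1 | h1 | h1
      · exact absurd h1 (mul_ne_zero hw0 hγ0)
      · have h2 : w * d * φ ^ 2 = 1 := mul_left_cancel₀ hw0 (h1.trans (mul_one w).symm)
        rw [h2, one_pow]
      · have h2 : w * d * φ ^ 2 = -1 := mul_left_cancel₀ hw0 (h1.trans (by ring))
        rw [h2]
        ring
    · exact Or.inr h
  refine ⟨d1, fun d hdH => ?_⟩
  by_contra hcon
  push Not at hcon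
  obtain ⟨hd0, hd1', hd2'⟩ := hcon
  have e1 := hsq d1 hd1 hd1H
  have e2 := hsq d hd0 hdH
  have e3 := hsq (d1 + d) (fun h => hd2' (by linear_combination h)) (t_mem_add hd1H hdH)
  have e4 := hsq (d1 - d) (fun h => hd1' (by linear_combination -h)) (t_mem_sub hd1H hdH)
  set g1 := w * d1 * φ ^ 2 with hg1
  set g2 := w * d * φ ^ 2 with hg2
  have h5 : w * (d1 + d) * φ ^ 2 = g1 + g2 := by rw [hg1, hg2]; ring
  have h6 : w * (d1 - d) * φ ^ 2 = g1 - g2 := by rw [hg1, hg2]; ring
  rw [h5] at e3
  rw [h6] at e4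
  have two := D.two
  have one : (1 : F) ≠ 0 := one_ne_zero
  have h7 : (g1 + g2) ^ 2 + (g1 - g2) ^ 2 = 2 * g1 ^ 2 + 2 * g2 ^ 2 := by ring
  have h8 : (g1 + g2) ^ 2 * (g1 - g2) ^ 2 = (g1 ^ 2 - g2 ^ 2) ^ 2 := by ring
  rcases e1 with e1 | e1 <;> rcases e2 with e2 | e2 <;> rcases e3 with e3 | e3 <;> rcases e4 with e4 | e4 <;>
    rw [e1, e2, e3, e4] at h7 h8
  map_tacs [(exact one (by linear_combination h8)); (exact one (by linear_combination -h8)); (exact one (by linear_combination -h8));
   (exact one (by linear_combination h8)); (exact two (by linear_combination h7)); (exact one (by linear_combination h8 + 2 * h3));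
   (exact one (by linear_combination h8 + 2 * h3)); (exact two (by linear_combination -h7)); (exact two (by linear_combination h7));
   (exact one (by linear_combination h8 + 2 * h3)); (exact one (by linear_combination h8 + 2 * h3)); (exact two (by linear_combination -h7));
   (exact one (by linear_combination h8)); (exact one (by linear_combination -h8)); (exact one (by linear_combination -h8));
   (exact one (by linear_combination h8))]

theorem Dat.small_all [Finite F] (D : Dat H) (h3 : (3 : F) = 0) {x y : Fin m ⊕ Fin m → F} (hx : Small H x)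
    (hxc : Cen H x) (hyc : Cen H y) : Small H y := by
  have h := D.connected hxc hyc
  induction h with
  | refl => exact hx
  | tail _ hyz ih => exact D.small_adj h3 hyz (ih hyz.1)

end Cfsg.Agent.H262.Tv
end

-- part: H262/ElTvC
section
/-!
# Irreducible groups generated by symplectic transvections, odd characteristic: elimination of
`SL₂(5) ≤ SL₂(9)`
-/

set_option autoImplicit false

namespace Cfsg.Agent.H262.Tv

open Cfsg Module
open Cfsg.Agent.ClassicalGeometry.SympBasic Cfsg.Agent.H876 Cfsg.Agent.H931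
open scoped Matrix MatrixGroups

variable {F : Type*} [Field F] {m : ℕ}

local notation "fo" => sympForm m F

variable {H : Subgroup (GL (Fin m ⊕ Fin m) F)}

/-- in a bad pair the transvection group is small -/
theorem Dat.bad_small [Finite F] (D : Dat H) {a b : Fin m ⊕ Fin m → F} (hab : fo a b ≠ 0) {c d : F} (hc : c ≠ 0)
    (hd : d ≠ 0) (ha : tGL a c ∈ H) (hb : tGL b d ∈ H) (h3 : (3 : F) = 0)
    (hγ : (c * d * (fo a b) ^ 2) ^ 2 = -1) (hbad : tGL a (c * (c * d * (fo a b) ^ 2)) ∉ H) : Small H a := by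
  set φ := fo a b with hφ
  refine ⟨c, fun c' hc'H => ?_⟩
  by_contra hcon
  push Not at hcon
  obtain ⟨hc0, hc1, hc2⟩ := hcon
  -- squares
  have hsq : ∀ x : F, x ≠ 0 → tGL a x ∈ H → (x * d * φ ^ 2) ^ 2 ≠ -1 → tGL a (x * (x * d * φ ^ 2)) ∈ H := by
    intro x hx hxH h
    rcases key D.two hab hx hd hxH hb with h1 | ⟨h1, -⟩
    · exact h1
    · exact absurd h1 h
  have hδ : d * φ ^ 2 ≠ 0 := mul_ne_zero hd (pow_ne_zero 2 hab)
  have hfac : ∀ x : F, (x * d * φ ^ 2) ^ 2 = -1 → x = c ∨ x = -c := by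
    intro x hx
    have h1 : (d * φ ^ 2) ^ 2 * ((x - c) * (x + c)) = 0 := by linear_combination hx - hγ
    rcases mul_eq_zero.1 h1 with h2 | h2
    · exact absurd h2 (pow_ne_zero 2 hδ)
    · rcases mul_eq_zero.1 h2 with h4 | h4
      · exact Or.inl (sub_eq_zero.1 h4)
      · exact Or.inr (eq_neg_of_add_eq_zero_left h4)
  have e1 := hsq c' hc0 hc'H (fun h => by
    rcases hfac c' h with h | h
    · exact hc1 h
    · exact hc2 h)
  have e2 := hsq (c' + c) (fun h => hc2 (by linear_combination h)) (t_mem_add hc'H ha) (fun h => by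
    rcases hfac _ h with h | h
    · exact hc0 (by linear_combination h)
    · exact hc1 (by linear_combination h - c * h3))
  have e3 := hsq (c' - c) (fun h => hc1 (by linear_combination h)) (t_mem_sub hc'H ha) (fun h => by
    rcases hfac _ h with h | h
    · exact hc2 (by linear_combination h + c * h3)
    · exact hc0 (by linear_combination h))
  have e4 := t_mem_sub (t_mem_sub (t_mem_add e2 e3) e1) e1
  apply hbad
  have e5 := t_mem_neg e4
  have e6 : -((c' + c) * ((c' + c) * d * φ ^ 2) + (c' - c) * ((c' - c) * d * φ ^ 2) -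
      c' * (c' * d * φ ^ 2) - c' * (c' * d * φ ^ 2)) = c * (c * d * φ ^ 2) := by
    linear_combination (-c * (c * d * φ ^ 2)) * h3
  rwa [e6] at e5

/-- a third center in general position to a hyperbolic plane -/
theorem Dat.exists_third (D : Dat H) {a b : Fin m ⊕ Fin m → F} (hab : fo a b ≠ 0) {c d : F} (hc : c ≠ 0)
    (hd : d ≠ 0) (ha : tGL a c ∈ H) (hb : tGL b d ∈ H) :
    ∃ (e : Fin m ⊕ Fin m → F) (g : F), g ≠ 0 ∧ tGL e g ∈ H ∧ fo e a ≠ 0 ∧ fo e b ≠ 0 ∧
      e ∉ Submodule.span F ({a, b} : Set (Fin m ⊕ Fin m → F)) := by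
  classical
  set W := Submodule.span F ({a, b} : Set (Fin m ⊕ Fin m → F)) with hW
  have haW : a ∈ W := Submodule.subset_span (by simp)
  have hbW : b ∈ W := Submodule.subset_span (by simp)
  have h1 : ∃ (e : Fin m ⊕ Fin m → F) (g : F), tGL e g ∈ H ∧ ∃ v ∈ W, ap (tGL e g) v ∉ W := by
    by_contra hcon
    push Not at hcon
    rcases D.irr W hcon with h | h
    · rw [h, Submodule.mem_bot] at haW
      rw [haW, sympForm_zero_left] at hab
      exact hab rfl
    · have h2 : finrank F W ≤ 2 := by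
        refine (finrank_span_le_card (R := F) ({a, b} : Set (Fin m ⊕ Fin m → F))).trans ?_
        rw [Set.toFinset_insert, Set.toFinset_singleton]
        exact Finset.card_le_two
      rw [h, finrank_top, Module.finrank_fintype_fun_eq_card, Fintype.card_sum, Fintype.card_fin] at h2
      have := D.dim
      omega
  obtain ⟨e, g, heH, v, hv, hve⟩ := h1
  rw [ap_t] at hve
  have hg0 : g * fo v e ≠ 0 := by
    intro h0
    rw [h0, zero_smul, add_zero] at hve
    exact hve hv
  have heW : e ∉ W := fun h => hve (W.add_mem hv (W.smul_mem _ h))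
  have hg : g ≠ 0 := left_ne_zero_of_mul hg0
  have hve' : fo v e ≠ 0 := right_ne_zero_of_mul hg0
  have hor : fo e a ≠ 0 ∨ fo e b ≠ 0 := by
    by_contra hcon
    push Not at hcon
    apply hve'
    obtain ⟨s, t, rfl⟩ := Submodule.mem_span_pair.1 hv
    rw [sympForm_swap, sympForm_add_right, sympForm_smul_right, sympForm_smul_right, hcon.1, hcon.2]
    simp
  by_cases h2 : fo e a = 0
  · have h3 : fo e b ≠ 0 := by
      rcases hor with h | h
      · exact absurd h2 h
      · exact h
    refine ⟨ap (tGL b d) e, g, hg, D.conj hb heH, ?_, ?_, ?_⟩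
    · rw [ap_t, sympForm_add_left, sympForm_smul_left, h2, zero_add, sympForm_swap b a]
      exact mul_ne_zero (mul_ne_zero hd h3) (neg_ne_zero.2 hab)
    · rw [ap_t, sympForm_add_left, sympForm_smul_left, sympForm_self, mul_zero, add_zero]
      exact h3
    · intro h
      rw [ap_t] at h
      apply heW
      have := W.sub_mem h (W.smul_mem (d * fo e b) hbW)
      rwa [add_sub_cancel_right] at this
  · by_cases h3 : fo e b = 0
    · refine ⟨ap (tGL a c) e, g, hg, D.conj ha heH, ?_, ?_, ?_⟩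
      · rw [ap_t, sympForm_add_left, sympForm_smul_left, sympForm_self, mul_zero, add_zero]
        exact h2
      · rw [ap_t, sympForm_add_left, sympForm_smul_left, h3, zero_add]
        exact mul_ne_zero (mul_ne_zero hc h2) hab
      · intro h
        rw [ap_t] at h
        apply heW
        have := W.sub_mem h (W.smul_mem (c * fo e a) haW)
        rwa [add_sub_cancel_right] at this
    · exact ⟨e, g, hg, heH, h2, h3, heW⟩

/-- the product of the transvections with centers `y - e'` and `y + e'` -/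
noncomputable def sg (e' : Fin m ⊕ Fin m → F) (g : F) (y : Fin m ⊕ Fin m → F) : GL (Fin m ⊕ Fin m) F :=
  tGL (y - e') g * tGL (y + e') (-g)

theorem ap_sg {y e' : Fin m ⊕ Fin m → F} (hy : fo y e' = 0) (g : F) (v : Fin m ⊕ Fin m → F) :
    ap (sg e' g y) v = v - (2 * g * fo v y) • e' - (2 * g * fo v e') • y := by
  have hy' : fo e' y = 0 := by rw [sympForm_swap, hy, neg_zero]
  rw [sg, ap_mul, ap_t, ap_t]
  simp only [sympForm_add_left, sympForm_smul_left, sympForm_sub_right, sympForm_add_right, sympForm_self, hy, hy']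
  generalize fo v y = x
  generalize fo v e' = z
  module

/-- commutators of Siegel elements are transvections -/
theorem sg_comm {y z e' : Fin m ⊕ Fin m → F} (hy : fo y e' = 0) (hz : fo z e' = 0) (g : F) :
    sg e' g y * sg e' g z = tGL e' (8 * g ^ 2 * fo z y) * (sg e' g z * sg e' g y) := by
  apply gl_ext
  intro v
  change ap _ v = ap _ v
  have hy' : fo e' y = 0 := by rw [sympForm_swap, hy, neg_zero]
  have hz' : fo e' z = 0 := by rw [sympForm_swap, hz, neg_zero]
  have hyz : fo y z = - fo z y := sympForm_swap y z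
  rw [ap_mul, ap_mul (tGL e' _), ap_mul, ap_sg hz, ap_sg hy, ap_sg hy, ap_sg hz, ap_t]
  simp only [sympForm_sub_left, sympForm_smul_left, sympForm_self, hy, hz, hy', hz', hyz]
  generalize fo v z = p
  generalize fo v e' = q
  generalize fo v y = r
  generalize fo z y = s
  module

/-- **The bad case does not occur.** -/
theorem Dat.good [Finite F] (D : Dat H) {a b : Fin m ⊕ Fin m → F} (hab : fo a b ≠ 0) {c d : F} (hc : c ≠ 0)
    (hd : d ≠ 0) (ha : tGL a c ∈ H) (hb : tGL b d ∈ H) : tGL a (c * (c * d * (fo a b) ^ 2)) ∈ H := by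
  by_contra hbad
  rcases key D.two hab hc hd ha hb with h | ⟨hγ, h3, z, hzH, hz⟩
  · exact hbad h
  have hsmall := D.bad_small hab hc hd ha hb h3 hγ hbad
  obtain ⟨e, g, hg, heH, hea, heb, heW⟩ := D.exists_third hab hc hd ha hb
  set φ := fo a b with hφ
  have hba : fo b a = -φ := sympForm_swap b a
  set x : Fin m ⊕ Fin m → F := (fo e b / φ) • a + (fo a e / φ) • b with hx
  set e' : Fin m ⊕ Fin m → F := e - x with he'
  have hexe : x + e' = e := by rw [he']; abel
  have hae : fo a e = - fo e a := sympForm_swap a e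
  have hxa : fo x a = fo e a := by
    rw [hx, sympForm_add_left, sympForm_smul_left, sympForm_smul_left, sympForm_self, hba, hae]
    field_simp
    ring
  have hxb : fo x b = fo e b := by
    rw [hx, sympForm_add_left, sympForm_smul_left, sympForm_smul_left, sympForm_self, ← hφ]
    field_simp
    ring
  have he'a : fo e' a = 0 := by rw [he', sympForm_sub_left, hxa, sub_self]
  have he'b : fo e' b = 0 := by rw [he', sympForm_sub_left, hxb, sub_self]
  have hxe' : fo x e' = 0 := by
    rw [hx, sympForm_add_left, sympForm_smul_left, sympForm_smul_left, sympForm_swap a e', sympForm_swap b e',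
      he'a, he'b]
    ring
  have he'0 : e' ≠ 0 := by
    intro h0
    apply heW
    rw [← hexe, h0, add_zero, hx]
    exact Submodule.add_mem _ (Submodule.smul_mem _ _ (Submodule.subset_span (by simp)))
      (Submodule.smul_mem _ _ (Submodule.subset_span (by simp)))
  -- the set of good vectors
  let X : (Fin m ⊕ Fin m → F) → Prop := fun y => fo y e' = 0 ∧ tGL (y + e') g ∈ H ∧ tGL (y - e') g ∈ H
  have hXx : X x := by
    refine ⟨hxe', by rw [hexe]; exact heH, ?_⟩
    have h1 := D.conj hzH heH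
    have h2 : ap z e = (-1 : F) • (x - e') := by
      rw [hz, he', hx, hae]
      module
    rw [h2, t_smul] at h1
    rwa [neg_one_sq, one_mul] at h1
  have hXa : ∀ y, X y → X (ap (tGL a c) y) := by
    rintro y ⟨h1, h2, h4⟩
    have h5 : ap (tGL a c) e' = e' := by rw [ap_t, he'a, mul_zero, zero_smul, add_zero]
    refine ⟨?_, ?_, ?_⟩
    · rw [← h5, D.fo_ap ha, h1]
    · have := D.conj ha h2
      rwa [ap, Matrix.mulVec_add, ← ap, ← ap, h5] at this
    · have := D.conj ha h4
      rwa [ap, Matrix.mulVec_sub, ← ap, ← ap, h5] at this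
  have hXb : ∀ y, X y → X (ap (tGL b d) y) := by
    rintro y ⟨h1, h2, h4⟩
    have h5 : ap (tGL b d) e' = e' := by rw [ap_t, he'b, mul_zero, zero_smul, add_zero]
    refine ⟨?_, ?_, ?_⟩
    · rw [← h5, D.fo_ap hb, h1]
    · have := D.conj hb h2
      rwa [ap, Matrix.mulVec_add, ← ap, ← ap, h5] at this
    · have := D.conj hb h4
      rwa [ap, Matrix.mulVec_sub, ← ap, ← ap, h5] at this
  have hXX : ∀ y z, X y → X z → tGL e' (8 * g ^ 2 * fo z y) ∈ H := by
    rintro y z ⟨h1, h2, h4⟩ ⟨h5, h6, h7⟩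
    have h8 := sg_comm h1 h5 g
    have hy : sg e' g y ∈ H := H.mul_mem h4 (t_mem_neg h2)
    have hz : sg e' g z ∈ H := H.mul_mem h7 (t_mem_neg h6)
    have h9 : tGL e' (8 * g ^ 2 * fo z y) = sg e' g y * sg e' g z * (sg e' g z * sg e' g y)⁻¹ := by
      rw [h8, mul_inv_cancel_right]
    rw [h9]
    exact H.mul_mem (H.mul_mem hy hz) (H.inv_mem (H.mul_mem hz hy))
  set α := fo e a with hα
  set β := fo e b with hβ
  set κ : F := 8 * g ^ 2 with hκ
  have h8 : (8 : F) ≠ 0 := by
    intro h
    apply one_ne_zero (α := F)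
    linear_combination 3 * h3 - h
  have hκ0 : κ ≠ 0 := mul_ne_zero h8 (pow_ne_zero 2 hg)
  have hax : fo a x = -α := by rw [sympForm_swap, hxa]
  have hbx : fo b x = -β := by rw [sympForm_swap, hxb]
  -- three elements
  have m1 : tGL e' (κ * (c * α ^ 2)) ∈ H := by
    have h1 := t_mem_neg (hXX x _ hXx (hXa x hXx))
    rw [ap_t, sympForm_add_left, sympForm_smul_left, sympForm_self, hxa, hax] at h1
    have e1 : -(κ * (0 + c * α * -α)) = κ * (c * α ^ 2) := by ring
    rwa [e1] at h1
  have m2 : tGL e' (κ * (d * β ^ 2)) ∈ H := by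
    have h1 := t_mem_neg (hXX x _ hXx (hXb x hXx))
    rw [ap_t, sympForm_add_left, sympForm_smul_left, sympForm_self, hxb, hbx] at h1
    have e1 : -(κ * (0 + d * β * -β)) = κ * (d * β ^ 2) := by ring
    rwa [e1] at h1
  have m3 : tGL e' (κ * (c * d * α * β * φ)) ∈ H := by
    have h1 := t_mem_neg (hXX x _ hXx (hXb _ (hXa x hXx)))
    rw [ap_t, ap_t] at h1
    simp only [sympForm_add_left, sympForm_smul_left, sympForm_self, hxa, hxb, hax, hbx, ← hφ] at h1
    have h2 := t_mem_sub (t_mem_sub h1 m1) m2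
    have e1 : -(κ * (0 + c * α * -α + d * (β + c * α * φ) * -β)) - κ * (c * α ^ 2) - κ * (d * β ^ 2) =
        κ * (c * d * α * β * φ) := by ring
    rwa [e1] at h2
  have hsm : Small H e' := D.small_all h3 hsmall (Cen.of_ne (fun h => by
      rw [h, sympForm_zero_left] at hφ
      exact hab hφ) hc ha)
    (Cen.of_ne he'0 (mul_ne_zero hκ0 (mul_ne_zero hc (pow_ne_zero 2 hea))) m1)
  obtain ⟨w, hw⟩ := hsm
  have hn1 : κ * (c * α ^ 2) ≠ 0 := mul_ne_zero hκ0 (mul_ne_zero hc (pow_ne_zero 2 hea))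
  have hn2 : κ * (d * β ^ 2) ≠ 0 := mul_ne_zero hκ0 (mul_ne_zero hd (pow_ne_zero 2 heb))
  have hn3 : κ * (c * d * α * β * φ) ≠ 0 :=
    mul_ne_zero hκ0 (mul_ne_zero (mul_ne_zero (mul_ne_zero (mul_ne_zero hc hd) hea) heb) hab)
  have s1 : (κ * (c * α ^ 2)) ^ 2 = w ^ 2 := by
    rcases hw _ m1 with h | h | h
    · exact absurd h hn1
    · rw [h]
    · rw [h, neg_sq]
  have s2 : (κ * (d * β ^ 2)) ^ 2 = w ^ 2 := by
    rcases hw _ m2 with h | h | h
    · exact absurd h hn2
    · rw [h]
    · rw [h, neg_sq]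
  have s3 : (κ * (c * d * α * β * φ)) ^ 2 = w ^ 2 := by
    rcases hw _ m3 with h | h | h
    · exact absurd h hn3
    · rw [h]
    · rw [h, neg_sq]
  have hw0 : w ≠ 0 := by
    rintro rfl
    rw [zero_pow two_ne_zero] at s1
    exact pow_ne_zero 2 hn1 s1
  -- `γ² = 1`
  have e1 : (κ * (c * d * α * β * φ)) ^ 2 * (κ * (c * d * α * β * φ)) ^ 2 =
      (κ * (c * α ^ 2)) ^ 2 * (κ * (d * β ^ 2)) ^ 2 * (c * d * φ ^ 2) ^ 2 := by ring
  rw [s1, s2, s3, hγ] at e1
  have e2 : 2 * (w ^ 2 * w ^ 2) = 0 := by linear_combination e1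
  rcases mul_eq_zero.1 e2 with h | h
  · exact D.two h
  · rcases mul_eq_zero.1 h with h | h <;> exact pow_ne_zero 2 hw0 h

end Cfsg.Agent.H262.Tv
end

-- part: H262/ElTvD
section
/-!
# Irreducible groups generated by symplectic transvections, odd characteristic: the field and the
rational structure
-/

set_option autoImplicit false

namespace Cfsg.Agent.H262.Tv

open Cfsg Module
open Cfsg.Agent.ClassicalGeometry.SympBasic Cfsg.Agent.H876 Cfsg.Agent.H931
open scoped Matrix MatrixGroups

variable {F : Type*} [Field F] {m : ℕ}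

local notation "fo" => sympForm m F

variable {H : Subgroup (GL (Fin m ⊕ Fin m) F)}

/-- closed under multiplication by `r ≠ 0` implies closed under division by `r` -/
theorem div_closed [Finite F] {P : F → Prop} {r : F} (hr : r ≠ 0) (h : ∀ s, P s → P (r * s)) {s : F} (hs : P s) :
    P (r⁻¹ * s) := by
  have : Fintype F := Fintype.ofFinite F
  have h1 : ∀ n : ℕ, P (r ^ n * s) := by
    intro n
    induction n with
    | zero => rwa [pow_zero, one_mul]
    | succ n ih =>
      rw [pow_succ', mul_assoc]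
      exact h _ ih
  have h2 : r⁻¹ = r ^ (Fintype.card F - 2) := by
    have h3 := FiniteField.pow_card_sub_one_eq_one r hr
    have h4 : Fintype.card F - 1 = (Fintype.card F - 2) + 1 := by
      have := Fintype.one_lt_card (α := F)
      omega
    rw [h4, pow_succ] at h3
    exact (eq_inv_of_mul_eq_one_left h3).symm
  rw [h2]
  exact h1 _

/-- closure properties of the transvections with a given center -/
theorem Dat.mul_mem_edge [Finite F] (D : Dat H) {x y : Fin m ⊕ Fin m → F} (hxy : fo x y ≠ 0) {c d : F} (hc : c ≠ 0)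
    (hd : d ≠ 0) (hx : tGL x c ∈ H) (hy : tGL y d ∈ H) {s t : F} (hs : tGL x (s * c) ∈ H)
    (ht : tGL x (t * c) ∈ H) : tGL x (s * t * c) ∈ H := by
  set φ := fo x y with hφ
  set γ := c * d * φ ^ 2 with hγ
  have hγ0 : γ ≠ 0 := mul_ne_zero (mul_ne_zero hc hd) (pow_ne_zero 2 hxy)
  have hsq : ∀ u : F, tGL x (u * c) ∈ H → tGL x (u ^ 2 * γ * c) ∈ H := by
    intro u hu
    by_cases hu0 : u = 0
    · rw [hu0, zero_pow two_ne_zero, zero_mul, zero_mul, t_zero]
      exact H.one_mem
    · have h1 := D.good hxy (mul_ne_zero hu0 hc) hd hu hy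
      have e1 : u * c * (u * c * d * φ ^ 2) = u ^ 2 * γ * c := by rw [hγ]; ring
      rwa [e1] at h1
  have hprod : ∀ u v : F, tGL x (u * c) ∈ H → tGL x (v * c) ∈ H → tGL x (u * v * γ * c) ∈ H := by
    intro u v hu hv
    have h1 : tGL x ((u + v) * c) ∈ H := by
      rw [add_mul]
      exact t_mem_add hu hv
    have h2 := t_mem_sub (t_mem_sub (hsq _ h1) (hsq u hu)) (hsq v hv)
    have e1 : (u + v) ^ 2 * γ * c - u ^ 2 * γ * c - v ^ 2 * γ * c = 2 * (u * v * γ * c) := by ring
    rw [e1] at h2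
    have h3 := div_closed (P := fun w => tGL x w ∈ H) D.two (fun w hw => by
      rw [two_mul]
      exact t_mem_add hw hw) h2
    change tGL x (2⁻¹ * (2 * (u * v * γ * c))) ∈ H at h3
    rwa [inv_mul_cancel_left₀ D.two] at h3
  have hγdiv : tGL x (γ⁻¹ * (t * c)) ∈ H := by
    refine div_closed (P := fun w => tGL x w ∈ H) hγ0 (fun w hw => ?_) ht
    have e1 : w = (w / c) * c := by field_simp
    rw [e1] at hw
    have h1 := hprod (w / c) 1 hw (by rwa [one_mul])
    have e2 : w / c * 1 * γ * c = γ * w := by field_simp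
    rwa [e2] at h1
  have e1 : γ⁻¹ * (t * c) = (γ⁻¹ * t) * c := by ring
  rw [e1] at hγdiv
  have h1 := hprod s (γ⁻¹ * t) hs hγdiv
  have e2 : s * (γ⁻¹ * t) * γ * c = s * t * c := by field_simp
  rwa [e2] at h1

theorem Dat.edge_transfer [Finite F] (D : Dat H) {x y : Fin m ⊕ Fin m → F} (hxy : fo x y ≠ 0) {c d : F}
    (hc : c ≠ 0) (hd : d ≠ 0) (hx : tGL x c ∈ H) (hy : tGL y d ∈ H) {s : F} (hs : tGL x (s * c) ∈ H) :
    tGL y (s * d) ∈ H := by
  by_cases hs0 : s = 0
  · rw [hs0, zero_mul, t_zero]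
    exact H.one_mem
  have hyx : fo y x ≠ 0 := by rw [sympForm_swap]; exact neg_ne_zero.2 hxy
  set φ := fo y x with hφ
  set γ := d * c * φ ^ 2 with hγ
  have hγ0 : γ ≠ 0 := mul_ne_zero (mul_ne_zero hd hc) (pow_ne_zero 2 hyx)
  have h1 : tGL y (γ * d) ∈ H := by
    have := D.good hyx hd hc hy hx
    rwa [mul_comm] at this
  have h2 : tGL y (s * γ * d) ∈ H := by
    have := D.good hyx hd (mul_ne_zero hs0 hc) hy hs
    have e1 : d * (d * (s * c) * φ ^ 2) = s * γ * d := by rw [hγ]; ring
    rwa [e1] at this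
  have h3 : tGL y (γ⁻¹ * (s * γ * d)) ∈ H := by
    refine div_closed (P := fun w => tGL y w ∈ H) hγ0 (fun w hw => ?_) h2
    have e1 : w = (w / d) * d := by field_simp
    rw [e1] at hw
    have h4 := D.mul_mem_edge hyx hd hc hy hx h1 hw
    have e2 : γ * (w / d) * d = γ * w := by field_simp
    rwa [e2] at h4
  have e3 : γ⁻¹ * (s * γ * d) = s * d := by field_simp
  rwa [e3] at h3

/-- the multiplier field -/
def In (H : Subgroup (GL (Fin m ⊕ Fin m) F)) (s : F) : Prop :=
  ∀ (x : Fin m ⊕ Fin m → F) (c : F), tGL x c ∈ H → tGL x (s * c) ∈ H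

/-- the multiplier field as a subfield -/
def mf [Finite F] (H : Subgroup (GL (Fin m ⊕ Fin m) F)) : Subfield F where
  carrier := {s | In H s}
  mul_mem' {s t} hs ht x c h := by
    rw [mul_assoc]
    exact hs x _ (ht x c h)
  one_mem' x c h := by rwa [one_mul]
  add_mem' {s t} hs ht x c h := by
    rw [add_mul]
    exact t_mem_add (hs x c h) (ht x c h)
  zero_mem' x c h := by
    rw [zero_mul, t_zero]
    exact H.one_mem
  neg_mem' {s} hs x c h := by
    rw [neg_mul]
    exact t_mem_neg (hs x c h)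
  inv_mem' s hs x c h := by
    by_cases hs0 : s = 0
    · rw [hs0, inv_zero, zero_mul, t_zero]
      exact H.one_mem
    · exact div_closed (P := fun w => tGL x w ∈ H) hs0 (fun w hw => hs x w hw) h

theorem Dat.in_of [Finite F] (D : Dat H) {x : Fin m ⊕ Fin m → F} (hx0 : x ≠ 0) {c s : F} (hc : c ≠ 0)
    (hx : tGL x c ∈ H) (hs : tGL x (s * c) ∈ H) : s ∈ mf H := by
  -- all elements with center `y`
  have key : ∀ y, Relation.ReflTransGen (Adj H) x y → y = x ∨ ∀ d, d ≠ 0 → tGL y d ∈ H → tGL y (s * d) ∈ H := by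
    intro y hy
    induction hy with
    | refl => exact Or.inl rfl
    | tail _ hyz ih =>
      right
      intro d hd hdH
      rcases ih with rfl | ih
      · exact D.edge_transfer hyz.2.2 hc hd hx hdH hs
      · obtain ⟨⟨-, c', hc', hc'H⟩, -, hφ⟩ := hyz
        exact D.edge_transfer hφ hc' hd hc'H hdH (ih c' hc' hc'H)
  have hxc : Cen H x := Cen.of_ne hx0 hc hx
  have key2 : ∀ y, Cen H y → ∀ d, d ≠ 0 → tGL y d ∈ H → tGL y (s * d) ∈ H := by
    intro y hyc d hd hdH
    rcases key y (D.connected hxc hyc) with rfl | h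
    · obtain ⟨z, hz⟩ := D.exists_adj hxc
      obtain ⟨-, ⟨-, e, he, heH⟩, hφ⟩ := hz
      have h1 := D.edge_transfer hφ hc he hx heH hs
      exact D.edge_transfer (by rw [sympForm_swap]; exact neg_ne_zero.2 hφ) he hd heH hdH h1
    · exact h d hd hdH
  intro y d hdH
  by_cases hd : d = 0
  · rw [hd, mul_zero, t_zero]
    exact H.one_mem
  by_cases hy : y = 0
  · subst hy
    have h1 : tGL (0 : Fin m ⊕ Fin m → F) (s * d) = 1 := by
      apply gl_ext
      intro v
      change ap _ v = ap _ v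
      rw [ap_t, ap_one, smul_zero, add_zero]
    rw [h1]
    exact H.one_mem
  exact key2 y (Cen.of_ne hy hd hdH) d hd hdH

/-- the values on edges -/
theorem Dat.val_mem [Finite F] (D : Dat H) {x y : Fin m ⊕ Fin m → F} {c d : F} (hx : tGL x c ∈ H)
    (hy : tGL y d ∈ H) : c * d * (fo x y) ^ 2 ∈ mf H := by
  by_cases h0 : c * d * (fo x y) ^ 2 = 0
  · rw [h0]
    exact (mf H).zero_mem
  have hc : c ≠ 0 := fun h => h0 (by rw [h]; ring)
  have hd : d ≠ 0 := fun h => h0 (by rw [h]; ring)
  have hφ : fo x y ≠ 0 := fun h => h0 (by rw [h]; ring)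
  have hx0 : x ≠ 0 := by
    rintro rfl
    exact hφ (sympForm_zero_left y)
  refine D.in_of hx0 hc hx ?_
  have h1 := D.good hφ hc hd hx hy
  rwa [mul_comm] at h1

/-! ### The rational structure -/

section rat

variable [Finite F] (H)

/-- the normalised centers -/
def Om (κ : F) (x : Fin m ⊕ Fin m → F) : Prop := x ≠ 0 ∧ tGL x κ ∈ H

/-- the relation -/
def Rr (κ : F) (x y : Fin m ⊕ Fin m → F) : Prop :=
  Om H κ x ∧ Om H κ y ∧ κ * fo x y ∈ mf H ∧ κ * fo x y ≠ 0

variable {H} {κ : F}

theorem Rr.symm {x y : Fin m ⊕ Fin m → F} (h : Rr H κ x y) : Rr H κ y x := by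
  obtain ⟨h1, h2, h3, h4⟩ := h
  have e : κ * fo y x = -(κ * fo x y) := by rw [sympForm_swap y x]; ring
  exact ⟨h2, h1, by rw [e]; exact (mf H).neg_mem h3, by rw [e]; exact neg_ne_zero.2 h4⟩

theorem Dat.sq_mem (D : Dat H) {x y : Fin m ⊕ Fin m → F} (hx : Om H κ x) (hy : Om H κ y) :
    (κ * fo x y) ^ 2 ∈ mf H := by
  have h1 := D.val_mem hx.2 hy.2
  have e : κ * κ * (fo x y) ^ 2 = (κ * fo x y) ^ 2 := by ring
  rwa [e] at h1

/-- moving a normalised center -/
theorem Dat.om_move (D : Dat H) {y z : Fin m ⊕ Fin m → F} (hy : Om H κ y) (hz : Om H κ z) {s : F}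
    (hs : s ∈ mf H) : Om H κ (z + (s * (κ * fo z y)) • y) := by
  have h1 := hs y κ hy.2
  have h2 : ap (tGL y (s * κ)) z = z + (s * (κ * fo z y)) • y := by
    rw [ap_t]
    congr 2
    ring
  rw [← h2]
  exact ⟨ap_ne_zero hz.1, D.conj h1 hz.2⟩

theorem Dat.tri (D : Dat H) {x y z : Fin m ⊕ Fin m → F} (hxy : Rr H κ x y) (hyz : Rr H κ y z) :
    κ * fo x z ∈ mf H := by
  obtain ⟨hx, hy, h1, h2⟩ := hxy
  obtain ⟨h3, h4⟩ := hyz.symm.2.2
  have hz := hyz.2.1
  have hu := D.om_move hy hz (mf H).one_mem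
  have e1 := D.sq_mem hx hu
  have e2 := D.sq_mem hx hz
  have h5 : (κ * fo z y) * (κ * fo x y) ∈ mf H := (mf H).mul_mem h3 h1
  have h50 : (κ * fo z y) * (κ * fo x y) ≠ 0 := mul_ne_zero h4 h2
  have h2m : (2 : F) ∈ mf H := by
    have := (mf H).add_mem (mf H).one_mem (mf H).one_mem
    rwa [one_add_one_eq_two] at this
  have h6 : 2 * (κ * fo x z) * ((κ * fo z y) * (κ * fo x y)) ∈ mf H := by
    have h7 := (mf H).sub_mem ((mf H).sub_mem e1 e2) ((mf H).mul_mem h5 h5)
    have e3 : (κ * fo x (z + (1 * (κ * fo z y)) • y)) ^ 2 - (κ * fo x z) ^ 2 -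
        (κ * fo z y) * (κ * fo x y) * ((κ * fo z y) * (κ * fo x y)) =
        2 * (κ * fo x z) * ((κ * fo z y) * (κ * fo x y)) := by
      rw [sympForm_add_right, sympForm_smul_right]
      ring
    rwa [e3] at h7
  have h8 := (mf H).div_mem h6 ((mf H).mul_mem h2m h5)
  have e4 : 2 * (κ * fo x z) * ((κ * fo z y) * (κ * fo x y)) / (2 * ((κ * fo z y) * (κ * fo x y))) =
      κ * fo x z := by
    rw [div_eq_iff (mul_ne_zero D.two h50)]
    ring
  rwa [e4] at h8

theorem Dat.three (D : Dat H) {x y z w : Fin m ⊕ Fin m → F} (hxy : Rr H κ x y) (hyz : Rr H κ y z)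
    (hzw : Rr H κ z w) : ∃ u, Rr H κ x u ∧ Rr H κ u w := by
  by_cases h0 : κ * fo x z = 0
  swap
  · exact ⟨z, ⟨hxy.1, hyz.2.1, D.tri hxy hyz, h0⟩, hzw⟩
  have hyw := D.tri hyz hzw
  obtain ⟨hx, hy, h1, h2⟩ := hxy
  obtain ⟨h3, h4⟩ := hyz.symm.2.2
  have hz := hyz.2.1
  obtain ⟨-, hw, h5, h6⟩ := hzw
  have hκ : κ ≠ 0 := left_ne_zero_of_mul h2
  have h0' : fo x z = 0 := (mul_eq_zero.1 h0).resolve_left hκ
  have main : ∀ s : F, s ∈ mf H → s ≠ 0 →
      κ * fo z w + s * (κ * fo z y) * (κ * fo y w) ≠ 0 → ∃ u, Rr H κ x u ∧ Rr H κ u w := by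
    intro s hs hs0 hne
    have hu := D.om_move hy hz hs
    have e1 : κ * fo x (z + (s * (κ * fo z y)) • y) = s * (κ * fo z y) * (κ * fo x y) := by
      rw [sympForm_add_right, sympForm_smul_right, h0']
      ring
    have e2 : κ * fo (z + (s * (κ * fo z y)) • y) w = κ * fo z w + s * (κ * fo z y) * (κ * fo y w) := by
      rw [sympForm_add_left, sympForm_smul_left]
      ring
    refine ⟨_, ⟨hx, hu, ?_, ?_⟩, ⟨hu, hw, ?_, ?_⟩⟩
    · rw [e1]
      exact (mf H).mul_mem ((mf H).mul_mem hs h3) h1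
    · rw [e1]
      exact mul_ne_zero (mul_ne_zero hs0 h4) h2
    · rw [e2]
      exact (mf H).add_mem h5 ((mf H).mul_mem ((mf H).mul_mem hs h3) hyw)
    · rw [e2]
      exact hne
  by_cases h7 : κ * fo z w + 1 * (κ * fo z y) * (κ * fo y w) = 0
  · refine main (-1) ((mf H).neg_mem (mf H).one_mem) (neg_ne_zero.2 one_ne_zero) ?_
    intro h8
    apply h6
    have h9 : 2 * (κ * fo z w) = 0 := by linear_combination h7 + h8
    exact (mul_eq_zero.1 h9).resolve_left D.two
  · exact main 1 (mf H).one_mem one_ne_zero h7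

theorem Dat.diam (D : Dat H) {x y : Fin m ⊕ Fin m → F} (h : Relation.ReflTransGen (Rr H κ) x y) :
    y = x ∨ Rr H κ x y ∨ ∃ u, Rr H κ x u ∧ Rr H κ u y := by
  induction h with
  | refl => exact Or.inl rfl
  | tail _ hyz ih =>
    rcases ih with rfl | ih | ⟨u, h1, h2⟩
    · exact Or.inr (Or.inl hyz)
    · exact Or.inr (Or.inr ⟨_, ih, hyz⟩)
    · obtain ⟨v, h3, h4⟩ := D.three h1 h2 hyz
      exact Or.inr (Or.inr ⟨v, h3, h4⟩)

theorem Dat.val_of_path (D : Dat H) {x y : Fin m ⊕ Fin m → F} (h : Relation.ReflTransGen (Rr H κ) x y) :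
    κ * fo x y ∈ mf H := by
  rcases D.diam h with rfl | h | ⟨u, h1, h2⟩
  · rw [sympForm_self, mul_zero]
    exact (mf H).zero_mem
  · exact h.2.2.1
  · exact D.tri h1 h2

theorem path_symm {x y : Fin m ⊕ Fin m → F} (h : Relation.ReflTransGen (Rr H κ) x y) :
    Relation.ReflTransGen (Rr H κ) y x := by
  induction h with
  | refl => exact Relation.ReflTransGen.refl
  | tail _ hyz ih => exact Relation.ReflTransGen.head hyz.symm ih

theorem om_of_path {x y : Fin m ⊕ Fin m → F} (hx : Om H κ x) (h : Relation.ReflTransGen (Rr H κ) x y) :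
    Om H κ y := by
  rcases Relation.ReflTransGen.cases_tail h with rfl | ⟨z, -, hz⟩
  · exact hx
  · exact hz.2.1

/-- transvections in `H` preserve the component -/
theorem Dat.path_move (D : Dat H) (hκ : κ ≠ 0) {a x b : Fin m ⊕ Fin m → F} {c : F} (ha : Om H κ a)
    (hx : Relation.ReflTransGen (Rr H κ) a x) (hb : tGL b c ∈ H) :
    Relation.ReflTransGen (Rr H κ) a (ap (tGL b c) x) := by
  have hxo := om_of_path ha hx
  by_cases h0 : c * fo x b = 0
  · rw [ap_t, h0, zero_smul, add_zero]
    exact hx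
  have hc : c ≠ 0 := left_ne_zero_of_mul h0
  have hxb : fo x b ≠ 0 := right_ne_zero_of_mul h0
  have hb0 : b ≠ 0 := by
    rintro rfl
    exact hxb (sympForm_zero_right x)
  set lam : F := (κ * fo x b)⁻¹ with hlam
  have hlam0 : lam ≠ 0 := inv_ne_zero (mul_ne_zero hκ hxb)
  -- the normalised multiple of `b`
  have hv := D.val_mem hxo.2 hb
  have hv0 : κ * c * (fo x b) ^ 2 ≠ 0 := mul_ne_zero (mul_ne_zero hκ hc) (pow_ne_zero 2 hxb)
  have hvi := (mf H).inv_mem hv
  have hb' : Om H κ (lam • b) := by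
    refine ⟨smul_ne_zero hlam0 hb0, ?_⟩
    rw [t_smul]
    have h1 := hvi b c hb
    have e1 : (κ * c * (fo x b) ^ 2)⁻¹ * c = lam ^ 2 * κ := by
      rw [hlam]
      field_simp
    rwa [e1] at h1
  have hg : κ * fo x (lam • b) = 1 := by
    rw [sympForm_smul_right, hlam]
    field_simp
  have hxb' : Rr H κ x (lam • b) := ⟨hxo, hb', by rw [hg]; exact (mf H).one_mem, by rw [hg]; exact one_ne_zero⟩
  have hx' : Om H κ (ap (tGL b c) x) := ⟨ap_ne_zero hxo.1, D.conj hb hxo.2⟩
  have hg' : κ * fo (ap (tGL b c) x) (lam • b) = 1 := by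
    have hbb : fo b (lam • b) = 0 := by rw [sympForm_smul_right, sympForm_self, mul_zero]
    rw [ap_t, sympForm_add_left, sympForm_smul_left, hbb, mul_zero, add_zero, hg]
  have h2 : Rr H κ (ap (tGL b c) x) (lam • b) :=
    ⟨hx', hb', by rw [hg']; exact (mf H).one_mem, by rw [hg']; exact one_ne_zero⟩
  exact (hx.tail hxb').tail h2.symm

end rat

end Cfsg.Agent.H262.Tv
end

-- part: H262/ElTvE
section
/-!
# Irreducible groups generated by symplectic transvections, odd characteristic: the theorem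
-/

set_option autoImplicit false

namespace Cfsg.Agent.H262.Tv

open Cfsg Module
open Cfsg.Agent.ClassicalGeometry.SympBasic Cfsg.Agent.H876 Cfsg.Agent.H931
open scoped Matrix MatrixGroups

variable {F : Type*} [Field F] {m : ℕ}

local notation "fo" => sympForm m F

variable {H : Subgroup (GL (Fin m ⊕ Fin m) F)}

/-! ### Full root groups -/

theorem Dat.exists_cen_ne (D : Dat H) {p : Fin m ⊕ Fin m → F} (hp : p ≠ 0) : ∃ w, Cen H w ∧ fo p w ≠ 0 := by
  by_contra hcon
  push Not at hcon
  rcases D.irr (Submodule.span F {p}) (by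
    intro e c hec v hv
    rw [ap_t]
    by_cases h0 : c * fo v e = 0
    · rw [h0, zero_smul, add_zero]
      exact hv
    · exfalso
      obtain ⟨s, rfl⟩ := Submodule.mem_span_singleton.1 hv
      have h1 := hcon e (cen_of_t hec h0)
      rw [sympForm_smul_left, h1, mul_zero, mul_zero] at h0
      exact h0 rfl) with h | h
  · exact hp (Submodule.span_singleton_eq_bot.1 h)
  · have h1 : finrank F (Submodule.span F ({p} : Set (Fin m ⊕ Fin m → F))) ≤ 1 :=
      (finrank_span_le_card (R := F) ({p} : Set (Fin m ⊕ Fin m → F))).trans (by simp)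
    rw [h, finrank_top, Module.finrank_fintype_fun_eq_card, Fintype.card_sum, Fintype.card_fin] at h1
    have := D.dim
    omega

theorem cen_smul {x : Fin m ⊕ Fin m → F} (hx : Cen H x) {s : F} (hs : s ≠ 0) : Cen H (s • x) := by
  obtain ⟨h0, c, hc, h⟩ := hx
  refine ⟨smul_ne_zero hs h0, (s ^ 2)⁻¹ * c, mul_ne_zero (inv_ne_zero (pow_ne_zero 2 hs)) hc, ?_⟩
  rw [t_smul, mul_inv_cancel_left₀ (pow_ne_zero 2 hs)]
  exact h

section full

variable [Finite F] (hall : ∀ s : F, In H s)

include hall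

theorem full_t {x : Fin m ⊕ Fin m → F} (hx : Cen H x) (c : F) : tGL x c ∈ H := by
  obtain ⟨-, d, hd, h⟩ := hx
  have := hall (c / d) x d h
  rwa [div_mul_cancel₀ _ hd] at this

theorem add_adj (D : Dat H) {x y : Fin m ⊕ Fin m → F} (hx : Cen H x) (hy : Cen H y) (h : fo x y ≠ 0) :
    Cen H (x + y) := by
  have h1 := D.cen_conj (full_t hall hy (fo x y)⁻¹) hx
  rwa [ap_t, inv_mul_cancel₀ h, one_smul] at h1

theorem add_core (D : Dat H) {x y z : Fin m ⊕ Fin m → F} (hx : Cen H x) (hy : Cen H y) (hz : Cen H z)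
    (hxy : fo x y = 0) (h1 : fo x z ≠ 0) (h2 : fo z y ≠ 0) (h3 : fo (x + y) z ≠ 0) : Cen H (x + y) := by
  have e1 := add_adj hall D hx hz h1
  have e2 := add_adj hall D e1 hy (by rwa [sympForm_add_left, hxy, zero_add])
  have e3 := add_adj hall D e2 (cen_smul hz (neg_ne_zero.2 (one_ne_zero (α := F)))) (by
    rw [sympForm_smul_right, sympForm_add_left, sympForm_add_left, sympForm_self, add_zero, ← sympForm_add_left]
    exact mul_ne_zero (neg_ne_zero.2 one_ne_zero) h3)
  have e4 : x + z + y + (-1 : F) • z = x + y := by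
    rw [neg_one_smul]
    abel
  rwa [e4] at e3

theorem exists_mid (D : Dat H) {x y : Fin m ⊕ Fin m → F} (hx : Cen H x) (hy : Cen H y) (hne : y ≠ x)
    (hxy : fo x y = 0) : ∃ u, Cen H u ∧ fo x u ≠ 0 ∧ fo u y ≠ 0 := by
  have hR : ∀ {a b : Fin m ⊕ Fin m → F}, Adj H a b → Rr H 1 a b := by
    rintro a b ⟨ha, hb, hab⟩
    refine ⟨⟨ha.1, full_t hall ha 1⟩, ⟨hb.1, full_t hall hb 1⟩, hall _, ?_⟩
    rwa [one_mul]
  have hp : Relation.ReflTransGen (Rr H 1) x y :=
    Relation.ReflTransGen.mono (fun _ _ h => hR h) _ _ (D.connected hx hy)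
  rcases D.diam hp with h | h | ⟨u, h1, h2⟩
  · exact absurd h hne
  · exfalso
    have := h.2.2.2
    rw [hxy, mul_zero] at this
    exact this rfl
  · refine ⟨u, ⟨h2.1.1, 1, one_ne_zero, h2.1.2⟩, ?_, ?_⟩
    · have := h1.2.2.2
      rwa [one_mul] at this
    · have := h2.2.2.2
      rwa [one_mul] at this

/-- the asymmetric case -/
theorem add_asym (D : Dat H) {x y u w : Fin m ⊕ Fin m → F} (hx : Cen H x) (hy : Cen H y) (hu : Cen H u)
    (hw : Cen H w) (hxy : fo x y = 0) (hxu : fo x u ≠ 0) (huy : fo u y ≠ 0) (hwy : fo w y = 0) (hwx : fo w x ≠ 0) :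
    Cen H (x + y) := by
  have hux : fo u x ≠ 0 := by rw [sympForm_swap]; exact neg_ne_zero.2 hxu
  have hyx : fo y x = 0 := by rw [sympForm_swap, hxy, neg_zero]
  have hyw : fo y w = 0 := by rw [sympForm_swap, hwy, neg_zero]
  -- adjust `w` to be adjacent to `u`
  obtain ⟨w', hw', h1, h2, h3⟩ : ∃ w', Cen H w' ∧ fo w' u ≠ 0 ∧ fo w' x = fo w x ∧ fo w' y = 0 := by
    by_cases h0 : fo w u = 0
    · refine ⟨w + x, add_adj hall D hw hx hwx, ?_, ?_, ?_⟩
      · rwa [sympForm_add_left, h0, zero_add]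
      · rw [sympForm_add_left, sympForm_self, add_zero]
      · rw [sympForm_add_left, hwy, hxy, add_zero]
    · exact ⟨w, hw, h0, rfl, hwy⟩
  set μ : F := fo w x / fo u x with hμ
  have hμ0 : μ ≠ 0 := div_ne_zero hwx hux
  have hz : Cen H (w' + μ • u) := add_adj hall D hw' (cen_smul hu hμ0) (by
    rw [sympForm_smul_right]
    exact mul_ne_zero hμ0 h1)
  have e1 : fo (w' + μ • u) x = 2 * fo w x := by
    rw [sympForm_add_left, sympForm_smul_left, h2, hμ, div_mul_cancel₀ _ hux]
    ring
  have e2 : fo (w' + μ • u) y = μ * fo u y := by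
    rw [sympForm_add_left, sympForm_smul_left, h3, zero_add]
  by_cases h4 : fo (x + y) (w' + μ • u) = 0
  · -- then use `w'' = w' - μ u`... instead scale differently
    have e3 : 2 * fo w x + μ * fo u y = 0 := by
      rw [sympForm_swap, sympForm_add_right, e1, e2] at h4
      linear_combination -h4
    -- use the factor `2 μ`
    have h2μ : 2 * μ ≠ 0 := mul_ne_zero D.two hμ0
    have hz' : Cen H (w' + (-μ) • u) := add_adj hall D hw' (cen_smul hu (neg_ne_zero.2 hμ0)) (by
      rw [sympForm_smul_right]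
      exact mul_ne_zero (neg_ne_zero.2 hμ0) h1)
    -- `fo (w' - μ u) x = 0`: not usable; use `u` itself or a combination
    by_cases h5 : fo (x + y) u = 0
    · exfalso
      have h6 : fo u x + fo u y = 0 := by
        rw [sympForm_swap, sympForm_add_right] at h5
        linear_combination -h5
      have h7 : fo w x = 0 := by
        have h8 : μ * fo u x = fo w x := by rw [hμ, div_mul_cancel₀ _ hux]
        linear_combination e3 - μ * h6 + h8
      exact hwx h7
    · exact add_core hall D hx hy hu hxy hxu huy h5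
  · refine add_core hall D hx hy hz hxy ?_ ?_ h4
    · rw [sympForm_swap, e1]
      exact neg_ne_zero.2 (mul_ne_zero D.two hwx)
    · rw [e2]
      exact mul_ne_zero hμ0 huy

theorem add_cen (D : Dat H) {x y : Fin m ⊕ Fin m → F} (hx : Cen H x) (hy : Cen H y) (hne : x + y ≠ 0) :
    Cen H (x + y) := by
  by_cases hxy : fo x y = 0
  swap
  · exact add_adj hall D hx hy hxy
  by_cases he : y = x
  · subst he
    rw [← two_smul F]
    exact cen_smul hx D.two
  obtain ⟨u, hu, h1, h2⟩ := exists_mid hall D hx hy he hxy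
  by_cases h3 : fo (x + y) u = 0
  swap
  · exact add_core hall D hx hy hu hxy h1 h2 h3
  obtain ⟨w, hw, h4⟩ := D.exists_cen_ne hne
  by_cases h5 : fo w y = 0
  · refine add_asym hall D hx hy hu hw hxy h1 h2 h5 ?_
    intro h6
    apply h4
    rw [sympForm_swap, sympForm_add_right, h5, h6, add_zero, neg_zero]
  · by_cases h6 : fo w x = 0
    · rw [add_comm]
      refine add_asym hall D hy hx hu hw ?_ ?_ ?_ h6 h5
      · rw [sympForm_swap, hxy, neg_zero]
      · rw [sympForm_swap]
        exact neg_ne_zero.2 h2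
      · rw [sympForm_swap]
        exact neg_ne_zero.2 h1
    · refine add_core hall D hx hy hw hxy ?_ h5 h4
      rw [sympForm_swap]
      exact neg_ne_zero.2 h6

/-- If the multiplier field is everything then `H` contains `Sp_2m(q)`. -/
theorem le_of_full (D : Dat H) : spGL m F ≤ H := by
  let W : Submodule F (Fin m ⊕ Fin m → F) :=
    { carrier := {v | v = 0 ∨ Cen H v}
      zero_mem' := Or.inl rfl
      add_mem' := by
        rintro x y (rfl | hx) (rfl | hy)
        · left; rw [add_zero]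
        · right; rwa [zero_add]
        · right; rwa [add_zero]
        · by_cases h : x + y = 0
          · exact Or.inl h
          · exact Or.inr (add_cen hall D hx hy h)
      smul_mem' := by
        rintro s x (rfl | hx)
        · left; rw [smul_zero]
        · by_cases hs : s = 0
          · left; rw [hs, zero_smul]
          · exact Or.inr (cen_smul hx hs) }
  have hW : W = ⊤ := by
    rcases D.irr W (by
      rintro b c hbc v (rfl | hv)
      · left
        rw [ap, Matrix.mulVec_zero]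
      · exact Or.inr (D.cen_conj hbc hv)) with h | h
    · exfalso
      obtain ⟨b, c, hb, hc, hbc⟩ := D.ne
      have h1 : b ∈ W := Or.inr ⟨hb, c, hc, hbc⟩
      rw [h, Submodule.mem_bot] at h1
      exact hb h1
    · exact h
  apply spGL_le
  intro v c
  have hv : v ∈ W := by rw [hW]; trivial
  rcases hv with rfl | hv
  · have h1 : tGL (0 : Fin m ⊕ Fin m → F) c = 1 := by
      apply gl_ext
      intro v
      change ap _ v = ap _ v
      rw [ap_t, ap_one, smul_zero, add_zero]
    rw [h1]
    exact H.one_mem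
  · exact full_t hall hv c

end full

/-! ### The rational basis -/

/-- the subgroup generated by the transvections in `H` -/
def Nt (H : Subgroup (GL (Fin m ⊕ Fin m) F)) : Subgroup (GL (Fin m ⊕ Fin m) F) :=
  Subgroup.closure {t | t ∈ H ∧ ∃ b c, t = tGL b c}

theorem Dat.rational [Finite F] (D : Dat H) :
    ∃ B : GL (Fin m ⊕ Fin m) F, ∀ n ∈ Nt H, ∀ i j,
      ((B : Matrix (Fin m ⊕ Fin m) (Fin m ⊕ Fin m) F) * n * ((B⁻¹ : GL (Fin m ⊕ Fin m) F) :
        Matrix (Fin m ⊕ Fin m) (Fin m ⊕ Fin m) F)) i j ∈ mf H := by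
  classical
  obtain ⟨a, κ, ha, hκ, haκ⟩ := D.ne
  have hao : Om H κ a := ⟨ha, haκ⟩
  set O : Set (Fin m ⊕ Fin m → F) := {x | Relation.ReflTransGen (Rr H κ) a x} with hO
  -- the component spans
  have hspan : Submodule.span F O = ⊤ := by
    rcases D.irr (Submodule.span F O) (by
      intro b c hbc v hv
      induction hv using Submodule.span_induction with
      | mem x hx => exact Submodule.subset_span (D.path_move hκ hao hx hbc)
      | zero => rw [ap, Matrix.mulVec_zero]; exact Submodule.zero_mem _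
      | add x y _ _ hx hy => rw [ap, Matrix.mulVec_add]; exact Submodule.add_mem _ hx hy
      | smul s x _ hx => rw [ap, Matrix.mulVec_smul]; exact Submodule.smul_mem _ _ hx) with h | h
    · exfalso
      have h1 : a ∈ Submodule.span F O := Submodule.subset_span Relation.ReflTransGen.refl
      rw [h, Submodule.mem_bot] at h1
      exact ha h1
    · exact h
  -- a basis in the component
  obtain ⟨s, hsO, hss, hli⟩ := exists_linearIndependent F O
  rw [hspan] at hss
  have hsfin : Finite s := hli.finite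
  let bs : Basis s F (Fin m ⊕ Fin m → F) := Basis.mk hli (by rw [Subtype.range_coe, hss])
  have : Fintype s := Fintype.ofFinite s
  have hcard : Fintype.card s = Fintype.card (Fin m ⊕ Fin m) := by
    rw [← Module.finrank_eq_card_basis bs, Module.finrank_fintype_fun_eq_card]
  let e : s ≃ (Fin m ⊕ Fin m) := Fintype.equivOfCardEq hcard
  let w : Basis (Fin m ⊕ Fin m) F (Fin m ⊕ Fin m → F) := bs.reindex e
  have hw : ∀ i, w i ∈ O := by
    intro i
    rw [Basis.reindex_apply, Basis.mk_apply]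
    exact hsO (e.symm i).2
  -- invariance
  have hinv : ∀ n ∈ Nt H, ∀ x ∈ O, ap n x ∈ O := by
    intro n hn
    induction hn using Subgroup.closure_induction with
    | mem t ht =>
      obtain ⟨htH, b, c, rfl⟩ := ht
      intro x hx
      exact D.path_move hκ hao hx htH
    | one => intro x hx; rwa [ap_one]
    | mul g h _ _ hg hh => intro x hx; rw [ap_mul]; exact hg _ (hh x hx)
    | inv g _ hg =>
      intro x hx
      have hk : ∀ k : ℕ, ap (g ^ k) x ∈ O := by
        intro k
        induction k with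
        | zero => rwa [pow_zero, ap_one]
        | succ k ih =>
          rw [pow_succ', ap_mul]
          exact hg _ ih
      have h1 : g⁻¹ = g ^ (orderOf g - 1) := by
        symm
        apply eq_inv_of_mul_eq_one_left
        rw [← pow_succ, Nat.sub_add_cancel (orderOf_pos g), pow_orderOf_eq_one]
      rw [h1]
      exact hk _
  have hval : ∀ x ∈ O, ∀ y ∈ O, κ * fo x y ∈ mf H := by
    intro x hx y hy
    exact D.val_of_path ((path_symm hx).trans hy)
  -- the matrices
  let k : Subfield F := mf H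
  let P : Matrix (Fin m ⊕ Fin m) (Fin m ⊕ Fin m) F := Matrix.of fun i j => w j i
  have hPj : ∀ j, P *ᵥ (Pi.single j 1) = w j := by
    intro j
    funext i
    rw [Matrix.mulVec_single_one]
    rfl
  have hPdet : P.det ≠ 0 := by
    intro h0
    obtain ⟨c, hc0, hc⟩ := (Matrix.exists_mulVec_eq_zero_iff (M := P)).2 h0
    apply hc0
    have h1 : ∑ j, c j • w j = 0 := by
      rw [← hc]
      funext i
      rw [Finset.sum_apply, Matrix.mulVec, dotProduct]
      refine Finset.sum_congr rfl fun j _ => ?_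
      rw [Pi.smul_apply, smul_eq_mul, mul_comm]
      rfl
    have h2 := Fintype.linearIndependent_iff.1 w.linearIndependent c h1
    funext j
    exact h2 j
  let B : GL (Fin m ⊕ Fin m) F := (Matrix.GeneralLinearGroup.mkOfDetNeZero P hPdet)⁻¹
  refine ⟨B, fun n hn => ?_⟩
  have hBi : ((B⁻¹ : GL (Fin m ⊕ Fin m) F) : Matrix (Fin m ⊕ Fin m) (Fin m ⊕ Fin m) F) = P := by
    rw [inv_inv]
    rfl
  set S : Matrix (Fin m ⊕ Fin m) (Fin m ⊕ Fin m) F :=
    (B : Matrix (Fin m ⊕ Fin m) (Fin m ⊕ Fin m) F) * n * ((B⁻¹ : GL (Fin m ⊕ Fin m) F) :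
        Matrix (Fin m ⊕ Fin m) (Fin m ⊕ Fin m) F) with hS
  have hPS : P * S = n * P := by
    have h1 : P * (B : Matrix (Fin m ⊕ Fin m) (Fin m ⊕ Fin m) F) = 1 := by
      rw [← hBi, ← Units.val_mul, inv_mul_cancel, Units.val_one]
    rw [hS, hBi, ← mul_assoc, ← mul_assoc, h1, one_mul]
  -- functionals
  let Ψ : Matrix (Fin m ⊕ Fin m) (Fin m ⊕ Fin m) F := Matrix.of fun i j => κ * fo (Pi.single j 1) (w i)
  have hΨ : ∀ v i, (Ψ *ᵥ v) i = κ * fo v (w i) := by
    intro v i
    have hv : v = ∑ j, v j • (Pi.single j (1 : F) : Fin m ⊕ Fin m → F) := by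
      funext j
      simp [Finset.sum_apply, Pi.single_apply]
    have hsum : ∀ t : Finset (Fin m ⊕ Fin m), fo (∑ j ∈ t, v j • (Pi.single j (1 : F) : Fin m ⊕ Fin m → F)) (w i) =
        ∑ j ∈ t, v j * fo (Pi.single j 1) (w i) := by
      intro t
      induction t using Finset.induction_on with
      | empty => simp
      | insert a t ha ih => rw [Finset.sum_insert ha, Finset.sum_insert ha, sympForm_add_left, sympForm_smul_left, ih]
    conv_rhs => rw [hv, hsum]
    rw [Matrix.mulVec, dotProduct, Finset.mul_sum]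
    refine Finset.sum_congr rfl fun j _ => ?_
    change κ * fo (Pi.single j 1) (w i) * v j = _
    ring
  have hentry : ∀ M : Matrix (Fin m ⊕ Fin m) (Fin m ⊕ Fin m) F, ∀ i j, (Ψ * (M * P)) i j =
      κ * fo (M *ᵥ w j) (w i) := by
    intro M i j
    rw [← hΨ, ← hPj j, Matrix.mulVec_mulVec, Matrix.mulVec_mulVec, Matrix.mulVec_single_one, Matrix.mul_assoc]
    rfl
  have hG : ∀ i j, (Ψ * P) i j ∈ k := by
    intro i j
    have h1 := hentry 1 i j
    rw [one_mul, Matrix.one_mulVec] at h1
    rw [h1]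
    exact hval _ (hw j) _ (hw i)
  have hX : ∀ i j, (Ψ * (n * P)) i j ∈ k := by
    intro i j
    rw [hentry]
    exact hval _ (hinv n hn _ (hw j)) _ (hw i)
  let G0 : Matrix (Fin m ⊕ Fin m) (Fin m ⊕ Fin m) k := Matrix.of fun i j => ⟨(Ψ * P) i j, hG i j⟩
  let X0 : Matrix (Fin m ⊕ Fin m) (Fin m ⊕ Fin m) k :=
    Matrix.of fun i j => ⟨(Ψ * ((n : Matrix (Fin m ⊕ Fin m) (Fin m ⊕ Fin m) F) * P)) i j, hX i j⟩
  have hG0 : k.subtype.mapMatrix G0 = Ψ * P := by
    ext i j
    rfl
  have hX0 : k.subtype.mapMatrix X0 = Ψ * (n * P) := by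
    ext i j
    rfl
  have hΨdet : Ψ.det ≠ 0 := by
    intro h0
    obtain ⟨c, hc0, hc⟩ := (Matrix.exists_mulVec_eq_zero_iff (M := Ψ)).2 h0
    apply hc0
    apply eq_zero_of_forall_sympForm_right
    intro u
    have h1 : ∀ i, fo c (w i) = 0 := by
      intro i
      have h2 := congrFun hc i
      rw [hΨ, Pi.zero_apply] at h2
      exact (mul_eq_zero.1 h2).resolve_left hκ
    have h3 : u ∈ Submodule.span F (Set.range w) := by rw [w.span_eq]; trivial
    induction h3 using Submodule.span_induction with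
    | mem x hx => obtain ⟨i, rfl⟩ := hx; exact h1 i
    | zero => exact sympForm_zero_right c
    | add x y _ _ hx hy => rw [sympForm_add_right, hx, hy, add_zero]
    | smul s x _ hx => rw [sympForm_smul_right, hx, mul_zero]
  have hG0det : G0.det ≠ 0 := by
    intro h0
    have h1 := congrArg k.subtype h0
    rw [RingHom.map_det, hG0, map_zero, Matrix.det_mul] at h1
    exact mul_ne_zero hΨdet hPdet h1
  have hY : G0⁻¹ * G0 = 1 := Matrix.nonsing_inv_mul _ (isUnit_iff_ne_zero.2 hG0det)
  have hfin : S = k.subtype.mapMatrix (G0⁻¹ * X0) := by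
    have h1 : k.subtype.mapMatrix G0⁻¹ * (Ψ * P) = 1 := by
      rw [← hG0, ← map_mul, hY, map_one]
    calc S = (k.subtype.mapMatrix G0⁻¹ * (Ψ * P)) * S := by rw [h1, one_mul]
      _ = k.subtype.mapMatrix G0⁻¹ * (Ψ * (n * P)) := by rw [← hPS]; simp only [mul_assoc]
      _ = k.subtype.mapMatrix (G0⁻¹ * X0) := by rw [← hX0, map_mul]
  intro i j
  rw [hfin]
  exact ((G0⁻¹ * X0) i j).2

/-- **Irreducible groups generated by symplectic transvections, odd characteristic.** Let `q` be odd,
`m ≥ 2` and `H ≤ Sp_2m(q)` such that the transvections in `H` generate an irreducible group. Then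
`H = Sp_2m(q)` or the group generated by the transvections in `H` is realisable over a proper subfield. -/
theorem main [Finite F] (D : Dat H) : spGL m F ≤ H ∨
    ∃ k : Subfield F, k ≠ ⊤ ∧ Geo.RealisableOver k (Geo.matrixSet (Nt H)) := by
  by_cases hk : mf H = ⊤
  · left
    refine le_of_full (fun s => ?_) D
    have : s ∈ mf H := by rw [hk]; trivial
    exact this
  · right
    obtain ⟨B, hB⟩ := D.rational
    refine ⟨mf H, hk, B, ?_⟩
    rintro _ ⟨n, hn, rfl⟩ i j
    exact hB n hn i j

end Cfsg.Agent.H262.Tv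
end

-- part: H262/ElSympRes
section
/-!
# TEAM ELUSIVE, symplectic row, `q` odd: the residual class
-/

set_option autoImplicit false

namespace Cfsg.Agent.H262.El

open Cfsg Cfsg.Geo Module Cfsg.Agent.H278.El
open Cfsg.Agent.ClassicalGeometry.SympBasic Cfsg.Agent.H876 Cfsg.Agent.H931
open Cfsg.Agent.H262.Tv
open scoped Matrix MatrixGroups

section general

variable {ι : Type} [Fintype ι] [DecidableEq ι] {F : Type*} [Field F]

theorem comm_of_scalar {z : GL ι F} (hz : z ∈ scalars ι F) (g : GL ι F) : z * g = g * z := by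
  rw [mem_scalars_iff] at hz
  obtain ⟨c, hc⟩ := hz
  apply Units.ext
  rw [Units.val_mul, Units.val_mul, hc, Matrix.smul_mul, Matrix.mul_smul, one_mul, mul_one]

/-- A normal subgroup which is not scalar contains the core. -/
theorem core_le_of_normal {H P N : Subgroup (GL ι F)} (hP : IsResidualCore H P) (hN : N ≤ H)
    (hnorm : ∀ h ∈ H, ∀ n ∈ N, h * n * h⁻¹ ∈ N) (hns : ¬ N ≤ scalars ι F) : P ≤ N := by
  have := hP.simple
  have hKn : ((N ⊓ P).subgroupOf P).Normal := by
    refine ⟨fun n hn g => ?_⟩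
    rw [Subgroup.mem_subgroupOf] at hn ⊢
    exact ⟨hnorm _ (hP.le g.2) _ hn.1, P.mul_mem (P.mul_mem g.2 hn.2) (P.inv_mem g.2)⟩
  have hmap : (((N ⊓ P).subgroupOf P).map (QuotientGroup.mk' ((scalars ι F).subgroupOf P))).Normal :=
    hKn.map _ (QuotientGroup.mk'_surjective _)
  rcases hmap.eq_bot_or_eq_top with h | h
  · exfalso
    apply hns
    intro n hn
    refine hP.centralizer_scalar n (hN hn) (fun x hx => ?_)
    have h1 : n * x * n⁻¹ * x⁻¹ ∈ N := by
      have h2 : n * x * n⁻¹ * x⁻¹ = n * (x * n⁻¹ * x⁻¹) := by group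
      rw [h2]
      exact N.mul_mem hn (hnorm x (hP.le hx) _ (N.inv_mem hn))
    have h2 : n * x * n⁻¹ * x⁻¹ ∈ P := P.mul_mem (hP.normal n (hN hn) x hx) (P.inv_mem hx)
    have h3 : QuotientGroup.mk' ((scalars ι F).subgroupOf P) ⟨_, h2⟩ ∈
        ((N ⊓ P).subgroupOf P).map (QuotientGroup.mk' ((scalars ι F).subgroupOf P)) :=
      Subgroup.mem_map_of_mem _ (by rw [Subgroup.mem_subgroupOf]; exact ⟨h1, h2⟩)
    rw [h, Subgroup.mem_bot] at h3
    exact Subgroup.mem_subgroupOf.1 ((QuotientGroup.eq_one_iff _).1 h3)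
  · have hdec : ∀ x ∈ P, ∃ k ∈ N ⊓ P, ∃ z ∈ scalars ι F, x = k * z := by
      intro x hx
      have h3 : QuotientGroup.mk' ((scalars ι F).subgroupOf P) ⟨x, hx⟩ ∈
        ((N ⊓ P).subgroupOf P).map (QuotientGroup.mk' ((scalars ι F).subgroupOf P)) := by
        rw [h]; trivial
      obtain ⟨k, hk, hkx⟩ := h3
      have h4 := QuotientGroup.eq.1 hkx
      rw [Subgroup.mem_subgroupOf] at h4
      refine ⟨k, Subgroup.mem_subgroupOf.1 hk, _, h4, ?_⟩
      simp
    have hcom : ⁅P, P⁆ ≤ N := by
      rw [Subgroup.commutator_le]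
      intro x hx y hy
      obtain ⟨k, hk, z, hz, rfl⟩ := hdec x hx
      obtain ⟨l, hl, w, hw, rfl⟩ := hdec y hy
      have h5 : (k * z) * (l * w) * (k * z)⁻¹ * (l * w)⁻¹ = k * l * k⁻¹ * l⁻¹ := by
        have hzc := comm_of_scalar hz
        have hwc := comm_of_scalar hw
        have e1 : (k * z) * (l * w) = (k * l) * (z * w) := by
          rw [mul_assoc, ← mul_assoc z, hzc l]
          group
        have e2 : (l * w) * (k * z) = (l * k) * (z * w) := by
          rw [mul_assoc, ← mul_assoc w, hwc k, hzc w]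
          group
        calc (k * z) * (l * w) * (k * z)⁻¹ * (l * w)⁻¹ = ((k * z) * (l * w)) * ((l * w) * (k * z))⁻¹ := by group
          _ = k * l * k⁻¹ * l⁻¹ := by rw [e1, e2]; group
      rw [commutatorElement_def, h5]
      have hkN := hk.1
      have hlN := hl.1
      exact N.mul_mem (N.mul_mem (N.mul_mem hkN hlN) (N.inv_mem hkN)) (N.inv_mem hlN)
    rw [hP.perfect] at hcom
    exact hcom

end general

variable {F : Type*} [Field F] {m : ℕ}

theorem Nt_le {H : Subgroup (GL (Fin m ⊕ Fin m) F)} : Nt H ≤ H := by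
  rw [Nt, Subgroup.closure_le]
  rintro t ⟨ht, -⟩
  exact ht

theorem Nt_normal {H : Subgroup (GL (Fin m ⊕ Fin m) F)} (hH : H ≤ spGL m F) :
    ∀ h ∈ H, ∀ n ∈ Nt H, h * n * h⁻¹ ∈ Nt H := by
  intro h hh n hn
  rw [Nt] at hn
  induction hn using Subgroup.closure_induction with
  | mem t ht =>
    obtain ⟨htH, b, c, rfl⟩ := ht
    refine Subgroup.subset_closure ⟨H.mul_mem (H.mul_mem hh htH) (H.inv_mem hh), ap h b, c, ?_⟩
    exact t_conj (hH hh) b c
  | one => simp
  | mul x y _ _ hx hy =>
    have : h * (x * y) * h⁻¹ = (h * x * h⁻¹) * (h * y * h⁻¹) := by group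
    rw [this]
    exact (Nt H).mul_mem hx hy
  | inv x _ hx =>
    have : h * x⁻¹ * h⁻¹ = (h * x * h⁻¹)⁻¹ := by group
    rw [this]
    exact (Nt H).inv_mem hx

theorem tGL_not_scalar {b : Fin m ⊕ Fin m → F} {c : F} (hb : b ≠ 0) (hc : c ≠ 0) :
    tGL b c ∉ scalars (Fin m ⊕ Fin m) F := by
  intro h
  rw [mem_scalars_iff] at h
  obtain ⟨s, hs⟩ := h
  have hv : ∀ v, (s : F) • v = v + (c * sympForm m F v b) • b := by
    intro v
    rw [← tGL_mulVec, hs, Matrix.smul_mulVec, Matrix.one_mulVec]
  have h1 := hv b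
  rw [sympForm_self, mul_zero, zero_smul, add_zero] at h1
  have hs1 : (s : F) = 1 := by
    have : ((s : F) - 1) • b = 0 := by rw [sub_smul, one_smul, h1, sub_self]
    rcases smul_eq_zero.1 this with h2 | h2
    · exact sub_eq_zero.1 h2
    · exact absurd h2 hb
  obtain ⟨x, hx0⟩ : ∃ x, sympForm m F x b ≠ 0 := by
    by_contra hcon
    push Not at hcon
    exact hb (eq_zero_of_forall_sympForm_left hcon)
  have h2 := hv x
  rw [hs1, one_smul, left_eq_add] at h2
  rcases smul_eq_zero.1 h2 with h3 | h3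
  · exact mul_ne_zero hc hx0 h3
  · exact hb h3

/-- **The residual class of `Sp_2m(q)`, `q` odd, contains no transvections.** -/
theorem no_tGL_of_core [Finite F] (h2 : (2 : F) ≠ 0) (hm : 2 ≤ m) {H : Subgroup (GL (Fin m ⊕ Fin m) F)}
    (hH : H ≤ spGL m F) (hne : ¬ spGL m F ≤ H) {P : Subgroup (GL (Fin m ⊕ Fin m) F)}
    (hP : IsResidualCore H P) {b : Fin m ⊕ Fin m → F} {c : F} (hb : b ≠ 0) (hc : c ≠ 0) : tGL b c ∉ H := by
  intro hmem
  have hPN : P ≤ Nt H := core_le_of_normal hP Nt_le (Nt_normal hH) (fun hle =>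
    tGL_not_scalar hb hc (hle (Subgroup.subset_closure ⟨hmem, b, c, rfl⟩)))
  have D : Dat H :=
    { le := hH
      two := h2
      dim := hm
      irr := by
        intro W hW
        apply hP.absIrred.1 W
        rintro _ ⟨x, hx, rfl⟩
        have hx' := hPN hx
        rw [Nt] at hx'
        have key : ∀ y ∈ Subgroup.closure {t | t ∈ H ∧ ∃ b c, t = tGL b c}, ∀ v ∈ W, ap y v ∈ W := by
          intro y hy
          induction hy using Subgroup.closure_induction with
          | mem t ht =>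
            obtain ⟨htH, b, c, rfl⟩ := ht
            exact hW b c htH
          | one => intro v hv; rwa [ap_one]
          | mul x y _ _ hx hy => intro v hv; rw [ap_mul]; exact hx _ (hy v hv)
          | inv x _ hx =>
            intro v hv
            have hk : ∀ k : ℕ, ap (x ^ k) v ∈ W := by
              intro k
              induction k with
              | zero => rwa [pow_zero, ap_one]
              | succ k ih =>
                rw [pow_succ', ap_mul]
                exact hx _ ih
            have h1 : x⁻¹ = x ^ (orderOf x - 1) := by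
              symm
              apply eq_inv_of_mul_eq_one_left
              rw [← pow_succ, Nat.sub_add_cancel (orderOf_pos x), pow_orderOf_eq_one]
            rw [h1]
            exact hk _
        rintro _ ⟨v, hv, rfl⟩
        exact key x hx' v hv
      ne := ⟨b, c, hb, hc, hmem⟩ }
  rcases Tv.main D with h | ⟨k, hk, B, hB⟩
  · exact hne h
  · refine hP.no_subfield k hk ⟨B, ?_⟩
    rintro _ ⟨x, hx, rfl⟩
    exact hB _ ⟨x, hPN hx, rfl⟩

/-- The residual class of `Sp_2m(q)`, `q` odd, is killed by the transvections. -/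
theorem kill_of_core [Finite F] (h2 : (2 : F) ≠ 0) (hm : 2 ≤ m) {H : Subgroup (GL (Fin m ⊕ Fin m) F)}
    (hH : H ≤ spGL m F) (hne : ¬ spGL m F ≤ H) {P : Subgroup (GL (Fin m ⊕ Fin m) F)}
    (hP : IsResidualCore H P) : Kill m F H := by
  obtain ⟨p, hp⟩ := CharP.exists F
  have hpp : p.Prime := CharP.char_is_prime F p
  have hv0 : (Pi.single (Sum.inl ⟨0, by omega⟩) 1 : Fin m ⊕ Fin m → F) ≠ 0 := by
    intro h0
    have := congrFun h0 (Sum.inl ⟨0, by omega⟩)
    simp at this
  have ht := tGL_isTv hv0 (one_ne_zero (α := F))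
  refine ⟨_, tGL_mem _ _, p, hpp, ht.pow_char, fun g hg => ?_⟩
  rw [t_conj hg]
  exact no_tGL_of_core h2 hm hH hne hP (ap_ne_zero hv0) one_ne_zero

theorem two_ne_zero_of_odd [Fintype F] (h : Odd (Fintype.card F)) : (2 : F) ≠ 0 := by
  intro h2
  have h3 : ringChar F = 2 := by
    have := (CharP.cast_eq_zero_iff F (ringChar F) 2).1 (by exact_mod_cast h2)
    rcases (Nat.dvd_prime Nat.prime_two).1 this with h4 | h4
    · exact absurd h4 (CharP.ringChar_ne_one)
    · exact h4
  have := FiniteField.even_card_of_char_two h3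
  rw [Nat.odd_iff] at h
  omega

/-- **Every proper subgroup of `PSp_2m(q)`, `m ≥ 2`, `q` odd, misses a class of elements of prime order.** -/
theorem derT_odd [Fintype F] (hm : 2 ≤ m) (hq : Odd (Fintype.card F)) {R : Subgroup (PSp m F)} (hR : R ≠ ⊤) :
    DerT (PSp m F) R := by
  rcases derT_or_residual hm (by rintro ⟨-, h⟩; rw [h] at hq; exact absurd hq (by decide)) hR with h | ⟨P, hP, -⟩
  · exact h
  · apply derT_of_kill
    refine kill_of_core (two_ne_zero_of_odd hq) hm (pre_le R) (fun hle => pre_ne hR (le_antisymm (pre_le R) hle)) hP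

end Cfsg.Agent.H262.El
end

private theorem dce_f5dd68a46031 : _root_.True := by
  try have : _root_.True := by simp only [_root_.Cfsg.Agent.H262.Tv.Nt.eq_1]
  try have : _root_.True := by simp only [_root_.Cfsg.Agent.H262.Tv.sg.eq_1]
  exact _root_.True.intro
end
end
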