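import Cfsg.Agent.H884.CxMain_m3
import Cfsg.Agent.H264.FKS.Res_m3
import Cfsg.Agent.H341.ThreeList_m3
import Cfsg.Agent.H927.SgXExc
import Cfsg.Agent.Prune
set_option linter.all false
prune_inst 0x7ffffffcffbfffffffff7e7ffff9fffe3bd7dfffffdffb43ffefebffdfff93ff3bedffaf9de4f8ffded7e6f738b9f853fb7eefffef6fdc7ffffdfff75ffbee7ff7ffbf8931d79d74ef7eeffffbf37fffffffffffffffffffffffffffffffffffffffffffffff
open scoped Cfsg.Agent.FastGrp

-- part: H262/ElFew
section
/-!
# TEAM ELUSIVE: cross characteristic socles, few large primes: symplectic and orthogonal groups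
-/

set_option autoImplicit false

namespace Cfsg.Agent.H262.Few

open Cfsg.Agent.OrdDiv Cfsg.Agent.H436 Cfsg.Agent.H927.SgX Cfsg.Agent.H278.El.CrossNum

theorem few_core {u p f c L : ℕ} (hp : p.Prime) (hu : u = p ^ f) (hu2 : 2 ≤ u) (l : List ℕ) (hl5 : l.length ≤ 5)
    (hlx : ∀ x ∈ l, 0 < x ∧ x < (L - 11) ^ 2) (hL : 37 ≤ L) (huL : u < L - 11)
    (hc : ∀ t : ℕ, t.Prime → t ∣ c → t ∣ u ∨ (∃ x ∈ l, t ∣ x) ∨ ∃ y, 0 < y ∧ y < L - 11 ∧ t ∣ y) :
    Few L (6 * f * c) := by
  refine ⟨l, hl5, hlx, fun t ht hLt hd => ?_⟩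
  have hf : 0 < f := by
    rcases Nat.eq_zero_or_pos f with h | h
    · rw [h, pow_zero] at hu; omega
    · exact h
  rcases ht.dvd_mul.1 hd with h | h
  · exfalso
    rcases ht.dvd_mul.1 h with h | h
    · have := Nat.le_of_dvd (by norm_num) h
      omega
    · have h1 := Nat.le_of_dvd hf h
      have h2 : f < p ^ f := Nat.lt_pow_self hp.one_lt
      omega
  · rcases hc t ht h with h | h | ⟨y, h1, h2, h3⟩
    · have := Nat.le_of_dvd (by omega) h
      omega
    · exact h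
    · have := Nat.le_of_dvd h1 h3
      omega

theorem dvd_prB {t u m : ℕ} (ht : t.Prime) (h : t ∣ prB u m) :
    ∃ i, 1 ≤ i ∧ i ≤ m ∧ (t ∣ u ^ i - 1 ∨ t ∣ u ^ i + 1) := by
  unfold prB at h
  obtain ⟨a, ha, hta⟩ := (ht.prime.dvd_prod_iff).1 h
  obtain ⟨i, hi, rfl⟩ := List.mem_map.1 ha
  rw [List.mem_range] at hi
  refine ⟨i + 1, by omega, by omega, ?_⟩
  have h1 : u ^ (2 * (i + 1)) - 1 = (u ^ (i + 1) + 1) * (u ^ (i + 1) - 1) := by
    rw [mul_comm 2, pow_mul]
    have := Nat.sq_sub_sq (u ^ (i + 1)) 1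
    rwa [one_pow] at this
  rw [h1] at hta
  rcases ht.dvd_mul.1 hta with h | h
  · exact Or.inr h
  · exact Or.inl h

/-- the small factors -/
theorem small {t u i k B : ℕ} (hu : 2 ≤ u) (hi : 1 ≤ i) (hik : i ≤ k) (hB : u ^ k + 1 < B)
    (h : t ∣ u ^ i - 1 ∨ t ∣ u ^ i + 1) : ∃ y, 0 < y ∧ y < B ∧ t ∣ y := by
  have h1 : u ^ i ≤ u ^ k := Nat.pow_le_pow_right (by omega) hik
  have h2 : u ^ 1 ≤ u ^ i := Nat.pow_le_pow_right (by omega) hi
  rw [pow_one] at h2
  rcases h with h | h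
  · exact ⟨_, by omega, by omega, h⟩
  · exact ⟨_, by omega, by omega, h⟩

theorem few_psp {m u p f c : ℕ} (hp : p.Prime) (hu : u = p ^ f) (hg : Cond (.psp m u))
    (he : den (.psp m u) * c = num (.psp m u)) (hl : 37 ≤ lsb (.psp m u)) :
    Few (lsb (.psp m u)) (6 * f * c) := by
  obtain ⟨hm, -, hpp⟩ := hg
  have hu2 : 2 ≤ u := hpp.two_le
  obtain ⟨k, rfl⟩ : ∃ k, m = k + 1 := ⟨m - 1, by omega⟩
  obtain ⟨X, hX⟩ : ∃ X, X = u ^ k := ⟨_, rfl⟩
  have hXu : u ≤ X := by
    rw [hX]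
    calc u = u ^ 1 := (pow_one u).symm
      _ ≤ u ^ k := Nat.pow_le_pow_right (by omega) (by omega)
  have hmX : u ^ (k + 1) = u * X := by rw [pow_succ, hX, mul_comm]
  obtain ⟨L, hL⟩ : ∃ L, L = lsb (.psp (k + 1) u) := ⟨_, rfl⟩
  have hLdef : L = if u % 2 = 1 then (u * X - 1) / 2 else u * X - 1 := by
    rw [hL, ← hmX]; rfl
  rw [← hL] at hl ⊢
  have huX : 2 * X ≤ u * X := Nat.mul_le_mul_right _ hu2
  -- `X + 1 < L - 11`
  have hX1 : X + 1 < L - 11 ∧ u * X ≤ 2 * L + 2 := by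
    split_ifs at hLdef with h
    · refine ⟨?_, by omega⟩
      have h75 : 75 ≤ u * X := by (clear * - hl hLdef; omega)
      by_cases h5 : 5 ≤ u
      · have : 5 * X ≤ u * X := Nat.mul_le_mul_right _ h5
        (clear * - hLdef h75 this; omega)
      · have h3 : u = 3 := by omega
        subst h3
        have h3X : 3 ∣ X := by rw [hX]; exact dvd_pow_self 3 (by omega)
        (clear * - hLdef h75 h3X; solve | lia | omega)
    · (clear * - hl huX hLdef; omega)
  refine few_core hp hu hu2 [u ^ (k + 1) - 1, u ^ (k + 1) + 1] (by simp) ?_ hl (by omega) ?_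
  · intro x hx
    have hsq : u * X + 1 < (L - 11) ^ 2 := by
      obtain ⟨K, hK⟩ : ∃ K, L = K + 11 := ⟨L - 11, by omega⟩
      rw [hK, Nat.add_sub_cancel]
      have hK26 : 26 ≤ K := by omega
      have h1 : u * X ≤ 2 * K + 24 := by omega
      nlinarith only [hl, hX1, hK]
    rw [hmX] at hx
    simp only [List.mem_cons, List.not_mem_nil, or_false] at hx
    have hpos : 4 ≤ u * X := by linarith only [hu2, hXu, huX]
    rcases hx with rfl | rfl
    · exact ⟨by omega, by omega⟩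
    · exact ⟨by omega, hsq⟩
  · intro t ht htc
    have h1 : t ∣ u ^ ((k + 1) ^ 2) * prB u (k + 1) := by
      change t ∣ num (.psp (k + 1) u)
      rw [← he]
      exact htc.mul_left _
    rcases ht.dvd_mul.1 h1 with h | h
    · exact Or.inl (ht.dvd_of_dvd_pow h)
    · right
      obtain ⟨i, hi1, hi2, hi⟩ := dvd_prB ht h
      rcases Nat.lt_or_ge i (k + 1) with hik | hik
      · right
        exact small hu2 hi1 (show i ≤ k by omega) (by rw [← hX]; exact hX1.1) hi
      · left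
        have : i = k + 1 := by omega
        subst this
        rcases hi with hi | hi
        · exact ⟨_, by simp, hi⟩
        · exact ⟨_, by simp, hi⟩

theorem few_oodd {m u p f c : ℕ} (hp : p.Prime) (hu : u = p ^ f) (hg : Cond (.oodd m u))
    (he : den (.oodd m u) * c = num (.oodd m u)) (hl : 37 ≤ lsb (.oodd m u)) :
    Few (lsb (.oodd m u)) (6 * f * c) := by
  obtain ⟨hm, hodd, hpp⟩ := hg
  have hu2 : 2 ≤ u := hpp.two_le
  have hu3 : 3 ≤ u := by
    rcases hodd with ⟨a, ha⟩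
    omega
  obtain ⟨k, rfl⟩ : ∃ k, m = k + 2 := ⟨m - 2, by omega⟩
  obtain ⟨Z, hZ⟩ : ∃ Z, Z = u ^ k := ⟨_, rfl⟩
  have hZu : u ≤ Z := by
    rw [hZ]
    calc u = u ^ 1 := (pow_one u).symm
      _ ≤ u ^ k := Nat.pow_le_pow_right (by omega) (by omega)
  obtain ⟨X, hX⟩ : ∃ X, X = u * Z := ⟨_, rfl⟩
  have hXk : u ^ (k + 1) = X := by rw [pow_succ, ← hZ, hX, mul_comm]
  have hmX : u ^ (k + 2) = u * X := by rw [pow_succ, hXk, mul_comm]
  obtain ⟨L, hL⟩ : ∃ L, L = lsb (.oodd (k + 2) u) := ⟨_, rfl⟩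
  have hLdef : L = max (u ^ 3 - 1) (X - 1) := by
    rw [hL, ← hXk]; rfl
  have hL1 : u ^ 3 - 1 ≤ L := by rw [hLdef]; exact le_max_left _ _
  have hL2 : X - 1 ≤ L := by rw [hLdef]; exact le_max_right _ _
  rw [← hL] at hl ⊢
  have hXZ : 3 * Z ≤ X := by rw [hX]; exact Nat.mul_le_mul_right _ hu3
  have hZ1 : Z + 1 < L - 11 := by (clear * - hl hL2 hXZ; omega)
  have hu33 : 9 * u ≤ u ^ 3 := by
    calc 9 * u ≤ (u * u) * u := Nat.mul_le_mul_right _ (Nat.mul_le_mul hu3 hu3)
      _ = u ^ 3 := by ring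
  refine few_core hp hu hu2 [u ^ (k + 2) - 1, u ^ (k + 2) + 1, u ^ (k + 1) - 1, u ^ (k + 1) + 1] (by simp only [_root_.List.length_cons, _root_.List.length_nil, _root_.zero_add, _root_.Nat.reduceAdd, _root_.Nat.reduceLeDiff]) ?_ hl
    (by omega) ?_
  · intro x hx
    have hsq : u * X + 1 < (L - 11) ^ 2 := by
      obtain ⟨K, hK⟩ : ∃ K, L = K + 11 := ⟨L - 11, by omega⟩
      rw [hK, Nat.add_sub_cancel]
      have hK26 : 26 ≤ K := by omega
      have h1 : X ≤ K + 12 := by omega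
      have h2 : 9 * u ≤ K + 12 := by (clear * - hL1 hu33 hK; omega)
      have h3 : u * X ≤ u * (K + 12) := Nat.mul_le_mul_left _ h1
      have h4 : 9 * u * (K + 12) ≤ (K + 12) * (K + 12) := Nat.mul_le_mul_right _ h2
      nlinarith only [hl, hK, h3, h4]
    have hX9 : 9 ≤ X := by omega
    have hXX : X ≤ u * X := Nat.le_mul_of_pos_left _ (by omega)
    rw [hmX, hXk] at hx
    simp only [List.mem_cons, List.not_mem_nil, or_false] at hx
    rcases hx with rfl | rfl | rfl | rfl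
    · exact ⟨by omega, by omega⟩
    · exact ⟨by omega, by omega⟩
    · exact ⟨by omega, by omega⟩
    · exact ⟨by omega, by omega⟩
  · intro t ht htc
    have h1 : t ∣ u ^ ((k + 2) ^ 2) * prB u (k + 2) := by
      change t ∣ num (.oodd (k + 2) u)
      rw [← he]
      exact htc.mul_left _
    rcases ht.dvd_mul.1 h1 with h | h
    · exact Or.inl (ht.dvd_of_dvd_pow h)
    · right
      obtain ⟨i, hi1, hi2, hi⟩ := dvd_prB ht h
      rcases Nat.lt_or_ge i (k + 1) with hik | hik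
      · right
        exact small hu2 hi1 (show i ≤ k by omega) (by rw [← hZ]; exact hZ1) hi
      · left
        rcases (show i = k + 1 ∨ i = k + 2 by omega) with h2 | h2
        all_goals
          subst h2
          rcases hi with hi | hi
          · exact ⟨_, by simp only [_root_.List.mem_cons, _root_.Nat.pred_eq_succ_iff, _root_.Nat.left_eq_add, _root_.OfNat.ofNat_ne_zero, _root_.List.not_mem_nil, _root_.or_self, _root_.or_false, _root_.or_true, _root_.false_or, _root_.true_or], hi⟩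
          · exact ⟨_, by simp only [_root_.List.mem_cons, _root_.Nat.add_right_cancel_iff, _root_.Nat.add_left_cancel_iff, _root_.List.not_mem_nil, _root_.or_false, _root_.or_true, _root_.true_or], hi⟩

theorem few_oplus {m u p f c : ℕ} (hp : p.Prime) (hu : u = p ^ f) (hg : Cond (.oplus m u))
    (he : den (.oplus m u) * c = num (.oplus m u)) (hl : 37 ≤ lsb (.oplus m u)) :
    Few (lsb (.oplus m u)) (6 * f * c) := by
  obtain ⟨hm, hpp⟩ := hg
  have hu2 : 2 ≤ u := hpp.two_le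
  obtain ⟨k, rfl⟩ : ∃ k, m = k + 2 := ⟨m - 2, by omega⟩
  obtain ⟨Z, hZ⟩ : ∃ Z, Z = u ^ k := ⟨_, rfl⟩
  have hZu : u ≤ Z := by
    rw [hZ]
    calc u = u ^ 1 := (pow_one u).symm
      _ ≤ u ^ k := Nat.pow_le_pow_right (by omega) (by omega)
  obtain ⟨X, hX⟩ : ∃ X, X = u * Z := ⟨_, rfl⟩
  have hXk : u ^ (k + 1) = X := by rw [pow_succ, ← hZ, hX, mul_comm]
  have hmX : u ^ (k + 2) = u * X := by rw [pow_succ, hXk, mul_comm]
  obtain ⟨L, hL⟩ : ∃ L, L = lsb (.oplus (k + 2) u) := ⟨_, rfl⟩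
  have hLdef : L = max (u ^ 3 - 1) (X - 1) := by
    rw [hL, ← hXk]; rfl
  have hL1 : u ^ 3 - 1 ≤ L := by rw [hLdef]; exact le_max_left _ _
  have hL2 : X - 1 ≤ L := by rw [hLdef]; exact le_max_right _ _
  rw [← hL] at hl ⊢
  have hXZ : 2 * Z ≤ X := by rw [hX]; exact Nat.mul_le_mul_right _ hu2
  have hZ1 : Z + 1 < L - 11 := by (clear * - hl hL2 hXZ; omega)
  have hu33 : 4 * u ≤ u ^ 3 := by
    calc 4 * u ≤ (u * u) * u := Nat.mul_le_mul_right _ (Nat.mul_le_mul hu2 hu2)
      _ = u ^ 3 := by ring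
  refine few_core hp hu hu2 [u ^ (k + 2) - 1, u ^ (k + 1) - 1, u ^ (k + 1) + 1] (by simp only [_root_.List.length_cons, _root_.List.length_nil, _root_.zero_add, _root_.Nat.reduceAdd, _root_.Nat.reduceLeDiff]) ?_ hl (by omega) ?_
  · intro x hx
    have hsq : u * X + 1 < (L - 11) ^ 2 := by
      obtain ⟨K, hK⟩ : ∃ K, L = K + 11 := ⟨L - 11, by omega⟩
      rw [hK, Nat.add_sub_cancel]
      have hK26 : 26 ≤ K := by omega
      have h1 : X ≤ K + 12 := by omega
      have h2 : 4 * u ≤ K + 12 := by (clear * - hL1 hu33 hK; omega)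
      have h3 : u * X ≤ u * (K + 12) := Nat.mul_le_mul_left _ h1
      have h4 : 4 * u * (K + 12) ≤ (K + 12) * (K + 12) := Nat.mul_le_mul_right _ h2
      nlinarith only [hl, hK, h3, h4]
    have hX9 : 4 ≤ X := by omega
    have hXX : X ≤ u * X := Nat.le_mul_of_pos_left _ (by omega)
    rw [hmX, hXk] at hx
    simp only [List.mem_cons, List.not_mem_nil, or_false] at hx
    rcases hx with rfl | rfl | rfl
    · exact ⟨by omega, by omega⟩
    · exact ⟨by omega, by omega⟩
    · exact ⟨by omega, by omega⟩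
  · intro t ht htc
    have h1 : t ∣ u ^ ((k + 2) * (k + 2 - 1)) * ((u ^ (k + 2) - 1) * prB u (k + 2 - 1)) := by
      change t ∣ num (.oplus (k + 2) u)
      rw [← he]
      exact htc.mul_left _
    rcases ht.dvd_mul.1 h1 with h | h
    · exact Or.inl (ht.dvd_of_dvd_pow h)
    · right
      rcases ht.dvd_mul.1 h with h | h
      · exact Or.inl ⟨_, by simp only [_root_.List.mem_cons, _root_.Nat.pred_eq_succ_iff, _root_.List.not_mem_nil, _root_.or_false, _root_.true_or], h⟩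
      obtain ⟨i, hi1, hi2, hi⟩ := dvd_prB ht h
      rcases Nat.lt_or_ge i (k + 1) with hik | hik
      · right
        exact small hu2 hi1 (show i ≤ k by omega) (by rw [← hZ]; exact hZ1) hi
      · left
        have h2 : i = k + 1 := by omega
        subst h2
        rcases hi with hi | hi
        · exact ⟨_, by simp only [_root_.List.mem_cons, _root_.Nat.pred_eq_succ_iff, _root_.Nat.left_eq_add, _root_.OfNat.ofNat_ne_zero, _root_.List.not_mem_nil, _root_.or_self, _root_.or_false, _root_.or_true], hi⟩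
        · exact ⟨_, by simp only [_root_.List.mem_cons, _root_.Nat.add_left_cancel_iff, _root_.List.not_mem_nil, _root_.or_false, _root_.or_true], hi⟩

theorem few_ominus {m u p f c : ℕ} (hp : p.Prime) (hu : u = p ^ f) (hg : Cond (.ominus m u))
    (he : den (.ominus m u) * c = num (.ominus m u)) (hl : 37 ≤ lsb (.ominus m u)) :
    Few (lsb (.ominus m u)) (6 * f * c) := by
  obtain ⟨hm, hpp⟩ := hg
  have hu2 : 2 ≤ u := hpp.two_le
  obtain ⟨k, rfl⟩ : ∃ k, m = k + 3 := ⟨m - 3, by omega⟩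
  obtain ⟨W, hW⟩ : ∃ W, W = u ^ k := ⟨_, rfl⟩
  have hWu : u ≤ W := by
    rw [hW]
    calc u = u ^ 1 := (pow_one u).symm
      _ ≤ u ^ k := Nat.pow_le_pow_right (by omega) (by omega)
  obtain ⟨Y, hY⟩ : ∃ Y, Y = u * W := ⟨_, rfl⟩
  have hYk : u ^ (k + 1) = Y := by rw [pow_succ, ← hW, hY, mul_comm]
  have hY2 : u ^ (k + 2) = u * Y := by rw [pow_succ, hYk, mul_comm]
  have hY3 : u ^ (k + 3) = u * (u * Y) := by rw [pow_succ, hY2, mul_comm]
  obtain ⟨L, hL⟩ : ∃ L, L = lsb (.ominus (k + 3) u) := ⟨_, rfl⟩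
  have hLdef : L = max (u ^ 3 - 1) (Y - 1) := by
    rw [hL, ← hYk]; rfl
  have hL1 : u ^ 3 - 1 ≤ L := by rw [hLdef]; exact le_max_left _ _
  have hL2 : Y - 1 ≤ L := by rw [hLdef]; exact le_max_right _ _
  rw [← hL] at hl ⊢
  have hYW : 2 * W ≤ Y := by rw [hY]; exact Nat.mul_le_mul_right _ hu2
  have hW1 : W + 1 < L - 11 := by omega
  refine few_core hp hu hu2 [u ^ (k + 3) + 1, u ^ (k + 2) - 1, u ^ (k + 2) + 1, u ^ (k + 1) - 1, u ^ (k + 1) + 1]
    (by simp) ?_ hl (by omega) ?_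
  · intro x hx
    have hsq : u * (u * Y) + 1 < (L - 11) ^ 2 := by
      obtain ⟨K, hK⟩ : ∃ K, L = K + 11 := ⟨L - 11, by omega⟩
      rw [hK, Nat.add_sub_cancel]
      have hK26 : 26 ≤ K := by omega
      have h1 : Y ≤ K + 12 := by omega
      have h0 : 1 ≤ u ^ 3 := Nat.one_le_pow _ _ (by omega)
      have h2 : u ^ 3 ≤ K + 12 := by (clear * - hu hu2 hW hWu hY hYk hl hL hLdef hL1 hYW hK h0; omega)
      have h3 : u * (u * Y) ≤ u * (u * (K + 12)) := Nat.mul_le_mul_left _ (Nat.mul_le_mul_left _ h1)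
      by_cases hu3 : u = 2
      · subst hu3
        nlinarith only [hl, hK, h1]
      · have h4 : 3 * (u * u) ≤ K + 12 := by
          calc 3 * (u * u) ≤ u * (u * u) := Nat.mul_le_mul_right _ (by omega)
            _ = u ^ 3 := by ring
            _ ≤ _ := h2
        have h5 : 3 * (u * u) * (K + 12) ≤ (K + 12) * (K + 12) := Nat.mul_le_mul_right _ h4
        nlinarith only [hl, hK, h3, h5]
    have hX9 : 4 ≤ Y := by omega
    have hXX : Y ≤ u * Y := Nat.le_mul_of_pos_left _ (by omega)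
    have hXX2 : u * Y ≤ u * (u * Y) := Nat.le_mul_of_pos_left _ (by omega)
    rw [hY3, hY2, hYk] at hx
    simp only [List.mem_cons, List.not_mem_nil, or_false] at hx
    rcases hx with rfl | rfl | rfl | rfl | rfl
    · exact ⟨by omega, by omega⟩
    · exact ⟨by omega, by omega⟩
    · exact ⟨by omega, by omega⟩
    · exact ⟨by omega, by omega⟩
    · exact ⟨by omega, by omega⟩
  · intro t ht htc
    have h1 : t ∣ u ^ ((k + 3) * (k + 3 - 1)) * ((u ^ (k + 3) + 1) * prB u (k + 3 - 1)) := by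
      change t ∣ num (.ominus (k + 3) u)
      rw [← he]
      exact htc.mul_left _
    rcases ht.dvd_mul.1 h1 with h | h
    · exact Or.inl (ht.dvd_of_dvd_pow h)
    · right
      rcases ht.dvd_mul.1 h with h | h
      · exact Or.inl ⟨_, by simp only [_root_.List.mem_cons, _root_.Nat.add_left_cancel_iff, _root_.Nat.add_right_cancel_iff, _root_.List.not_mem_nil, _root_.or_false, _root_.true_or], h⟩
      obtain ⟨i, hi1, hi2, hi⟩ := dvd_prB ht h
      rcases Nat.lt_or_ge i (k + 1) with hik | hik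
      · right
        exact small hu2 hi1 (show i ≤ k by omega) (by rw [← hW]; exact hW1) hi
      · left
        rcases (show i = k + 1 ∨ i = k + 2 by omega) with h2 | h2
        all_goals
          subst h2
          rcases hi with hi | hi
          · exact ⟨_, by simp only [_root_.List.mem_cons, _root_.Nat.pred_eq_succ_iff, _root_.Nat.left_eq_add, _root_.OfNat.ofNat_ne_zero, _root_.List.not_mem_nil, _root_.or_self, _root_.or_false, _root_.or_true, _root_.false_or, _root_.true_or], hi⟩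
          · exact ⟨_, by simp only [_root_.List.mem_cons, _root_.Nat.add_right_cancel_iff, _root_.Nat.add_left_cancel_iff, _root_.List.not_mem_nil, _root_.or_false, _root_.or_true, _root_.true_or], hi⟩

end Cfsg.Agent.H262.Few
end

-- part: H262/ElFewT
section
/-!
# TEAM ELUSIVE: cross characteristic socles, few large primes: Suzuki groups, Ree groups
-/

set_option autoImplicit false

namespace Cfsg.Agent.H262.Few

open Cfsg.Agent.OrdDiv Cfsg.Agent.H436 Cfsg.Agent.H927.SgX Cfsg.Agent.H278.El.CrossNum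

/-- the variant of `few_core` for `L` close to `u` -/
theorem few_core' {u p f c L : ℕ} (hp : p.Prime) (hf : 0 < f) (hu : u = p ^ f) (l : List ℕ)
    (hl5 : l.length ≤ 5)
    (hlx : ∀ x ∈ l, 0 < x ∧ x < (L - 11) ^ 2) (hL : 37 ≤ L) (hpL : p < L - 11) (hfL : f < L - 11)
    (hc : ∀ t : ℕ, t.Prime → t ∣ c → t ∣ u ∨ (∃ x ∈ l, t ∣ x) ∨ ∃ y, 0 < y ∧ y < L - 11 ∧ t ∣ y) :
    Few L (6 * f * c) := by
  refine ⟨l, hl5, hlx, fun t ht hLt hd => ?_⟩
  rcases ht.dvd_mul.1 hd with h | h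
  · exfalso
    rcases ht.dvd_mul.1 h with h | h
    · have := Nat.le_of_dvd (by norm_num) h
      omega
    · have h1 := Nat.le_of_dvd hf h
      omega
  · rcases hc t ht h with h | h | ⟨y, h1, h2, h3⟩
    · rw [hu] at h
      have h1 := (Nat.prime_dvd_prime_iff_eq ht hp).1 (ht.dvd_of_dvd_pow h)
      omega
    · exact h
    · have := Nat.le_of_dvd h1 h3
      omega

theorem pf_of {a b p f : ℕ} (ha : a.Prime) (hb : 0 < b) (hp : p.Prime) (h : a ^ b = p ^ f) :
    p = a ∧ f = b := by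
  have hf : f ≠ 0 := by
    rintro rfl
    rw [pow_zero] at h
    have : 1 < a ^ b := Nat.one_lt_pow (by omega) ha.one_lt
    omega
  have h1 : p ∣ a ^ b := by rw [h]; exact dvd_pow_self p hf
  have h2 := (Nat.prime_dvd_prime_iff_eq hp ha).1 (hp.dvd_of_dvd_pow h1)
  refine ⟨h2, ?_⟩
  rw [h2] at h
  exact (Nat.pow_right_injective ha.two_le h).symm

theorem two_mul_le_pow {a b : ℕ} (ha : 2 ≤ a) (hb : 1 ≤ b) : 2 * b ≤ a ^ b + 1 := by
  obtain ⟨c, rfl⟩ : ∃ c, b = c + 1 := ⟨b - 1, by omega⟩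
  have h1 : c < a ^ c := Nat.lt_pow_self (by omega)
  have h2 : 2 * a ^ c ≤ a ^ (c + 1) := by
    rw [pow_succ, mul_comm]; exact Nat.mul_le_mul_left _ ha
  omega

theorem few_sz {u p f c : ℕ} (hp : p.Prime) (hu : u = p ^ f) (hg : Cond (.sz u))
    (he : den (.sz u) * c = num (.sz u)) (hl : 37 ≤ lsb (.sz u)) :
    Few (lsb (.sz u)) (6 * f * c) := by
  obtain ⟨m, hm, hum⟩ := hg
  obtain ⟨hp2, hfm⟩ := pf_of Nat.prime_two (show 0 < 2 * m + 1 by omega) hp (by rw [← hum]; exact hu)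
  have hL : lsb (.sz u) = u - 1 := rfl
  rw [hL] at hl ⊢
  have hfu : 2 * f ≤ u + 1 := by
    have := two_mul_le_pow (a := 2) (b := f) le_rfl (by omega)
    rw [hfm, ← hum] at this
    rw [hfm]
    exact this
  obtain ⟨r, hr⟩ : ∃ r, r = 2 ^ (m + 1) := ⟨_, rfl⟩
  have hr2 : r * r = 2 * u := by
    rw [hr, hum, ← pow_add, ← pow_succ']
    congr 1
    omega
  have hr8 : 8 ≤ r := by
    by_contra h
    have : r * r ≤ 7 * 7 := Nat.mul_le_mul (by omega) (by omega)
    (clear * - hl hr2 this; omega)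
  have hru : 4 * r ≤ u := by nlinarith only [hr2, hr8]
  refine few_core' hp (by omega) hu [u - 1, u + r + 1, u - r + 1] (by simp) ?_ hl (by omega) (by (clear * - hfu hr8 hru; omega)) ?_
  · intro x hx
    have hsq : u + r + 1 < (u - 1 - 11) ^ 2 := by
      obtain ⟨K, hK⟩ : ∃ K, u = K + 12 := ⟨u - 12, by (clear * - hr8 hru; omega)⟩
      rw [hK, show K + 12 - 1 - 11 = K by omega]
      nlinarith only [hr8, hru, hK]
    simp only [List.mem_cons, List.not_mem_nil, or_false] at hx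
    rcases hx with rfl | rfl | rfl
    · exact ⟨by omega, by (clear * - hsq; omega)⟩
    · exact ⟨by omega, hsq⟩
    · exact ⟨by omega, by (clear * - hsq; omega)⟩
  · intro t ht htc
    have h1 : t ∣ u ^ 2 * ((u - 1) * (u ^ 2 + 1)) := by
      change t ∣ num (.sz u)
      rw [← he]
      exact htc.mul_left _
    rcases ht.dvd_mul.1 h1 with h | h
    · exact Or.inl (ht.dvd_of_dvd_pow h)
    · right; left
      rcases ht.dvd_mul.1 h with h | h
      · exact ⟨_, by simp only [_root_.List.mem_cons, _root_.Nat.pred_eq_succ_iff, _root_.List.not_mem_nil, _root_.or_false, _root_.true_or], h⟩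
      · have h2 : u ^ 2 + 1 = (u + r + 1) * (u - r + 1) := by
          obtain ⟨K, hK⟩ : ∃ K, u = K + r := ⟨u - r, by (clear * - hru; omega)⟩
          rw [hK] at hr2 ⊢
          rw [Nat.add_sub_cancel]
          linarith only [hr2]
        rw [h2] at h
        rcases ht.dvd_mul.1 h with h | h
        · exact ⟨_, by simp only [_root_.List.mem_cons, _root_.Nat.add_left_cancel_iff, _root_.Nat.add_right_cancel_iff, _root_.List.not_mem_nil, _root_.or_false, _root_.true_or, _root_.or_true], h⟩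
        · exact ⟨_, by simp only [_root_.List.mem_cons, _root_.Nat.add_right_cancel_iff, _root_.Nat.add_left_cancel_iff, _root_.List.not_mem_nil, _root_.or_false, _root_.or_true], h⟩

theorem few_ree {u p f c : ℕ} (hp : p.Prime) (hu : u = p ^ f) (hg : Cond (.ree u))
    (he : den (.ree u) * c = num (.ree u)) (hl : 37 ≤ lsb (.ree u)) :
    Few (lsb (.ree u)) (6 * f * c) := by
  obtain ⟨m, hm, hum⟩ := hg
  obtain ⟨hp2, hfm⟩ := pf_of Nat.prime_three (show 0 < 2 * m + 1 by omega) hp (by rw [← hum]; exact hu)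
  have hL : lsb (.ree u) = (u - 1) / 2 := rfl
  have hm2 : 2 ≤ m := by
    by_contra h
    have : m = 1 := by omega
    subst this
    rw [hL, hum] at hl
    norm_num at hl
  have hu243 : 243 ≤ u := by
    rw [hum]
    calc 243 = 3 ^ 5 := by norm_num
      _ ≤ 3 ^ (2 * m + 1) := Nat.pow_le_pow_right (by norm_num) (by omega)
  rw [hL] at hl ⊢
  have hfu : 5 * f ≤ u := by
    rw [hfm, hum]
    clear * - hm2
    induction m, hm2 using Nat.le_induction with
    | base => norm_num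
    | succ n hn ih =>
      have h1 : 3 ^ (2 * (n + 1) + 1) = 9 * 3 ^ (2 * n + 1) := by
        rw [show 2 * (n + 1) + 1 = 2 * n + 1 + 2 by ring, pow_add]; ring
      rw [h1]
      omega
  obtain ⟨r, hr⟩ : ∃ r, r = 3 ^ (m + 1) := ⟨_, rfl⟩
  have hr2 : r * r = 3 * u := by
    rw [hr, hum, ← pow_add, ← pow_succ']
    congr 1
    omega
  have hr8 : 27 ≤ r := by
    by_contra h
    have : r * r ≤ 26 * 26 := Nat.mul_le_mul (by omega) (by omega)
    omega
  have hru : 9 * r ≤ u := by nlinarith only [hr2, hr8]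
  refine few_core' hp (by omega) hu [u - 1, u + 1, u + r + 1, u - r + 1] (by simp) ?_ hl (by omega) (by (clear * - hu243 hfu; omega)) ?_
  · intro x hx
    have hsq : u + r + 1 < ((u - 1) / 2 - 11) ^ 2 := by
      obtain ⟨K, hK⟩ : ∃ K, (u - 1) / 2 = K + 11 := ⟨(u - 1) / 2 - 11, by omega⟩
      rw [hK, Nat.add_sub_cancel]
      have h1 : u ≤ 2 * K + 24 := by omega
      have h2 : 100 ≤ K := by omega
      nlinarith only [hu243, hru, h1]
    simp only [List.mem_cons, List.not_mem_nil, or_false] at hx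
    rcases hx with rfl | rfl | rfl | rfl
    · exact ⟨by omega, by omega⟩
    · exact ⟨by omega, by omega⟩
    · exact ⟨by omega, hsq⟩
    · exact ⟨by omega, by (clear * - hsq; omega)⟩
  · intro t ht htc
    have h1 : t ∣ u ^ 3 * ((u - 1) * (u ^ 3 + 1)) := by
      change t ∣ num (.ree u)
      rw [← he]
      exact htc.mul_left _
    rcases ht.dvd_mul.1 h1 with h | h
    · exact Or.inl (ht.dvd_of_dvd_pow h)
    · right; left
      rcases ht.dvd_mul.1 h with h | h
      · exact ⟨_, by simp only [_root_.List.mem_cons, _root_.Nat.pred_eq_succ_iff, _root_.Nat.left_eq_add, _root_.OfNat.ofNat_ne_zero, _root_.List.not_mem_nil, _root_.or_false, _root_.false_or, _root_.true_or], h⟩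
      · have h2 : u ^ 3 + 1 = (u + 1) * ((u + r + 1) * (u - r + 1)) := by
          obtain ⟨K, hK⟩ : ∃ K, u = K + r := ⟨u - r, by (clear * - hru; omega)⟩
          rw [hK] at hr2 ⊢
          rw [Nat.add_sub_cancel]
          have h3 : (K + r + r + 1) * (K + 1) = (K + r) * (K + r) + 1 + 2 * (K + r) - r * r := by
            have h4 : (K + r + r + 1) * (K + 1) + r * r = (K + r) * (K + r) + 1 + 2 * (K + r) := by ring
            (clear * - h4; omega)
          rw [h3, hr2]
          have h5 : 3 * (K + r) ≤ (K + r) * (K + r) + 2 * (K + r) := by nlinarith only []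
          have h6 : (K + r) * (K + r) + 1 + 2 * (K + r) - 3 * (K + r) + (K + r) = (K + r) * (K + r) + 1 := by (clear * - h5; omega)
          have h7 : (K + r + 1) * ((K + r) * (K + r) + 1 + 2 * (K + r) - 3 * (K + r)) + (K + r + 1) * (K + r) =
            (K + r + 1) * ((K + r) * (K + r) + 1) := by rw [← Nat.mul_add, h6]
          have h8 : (K + r + 1) * ((K + r) * (K + r) + 1) = (K + r) ^ 3 + 1 + (K + r + 1) * (K + r) := by ring
          omega
        rw [h2] at h
        rcases ht.dvd_mul.1 h with h | h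
        · exact ⟨_, by simp only [_root_.List.mem_cons, _root_.Nat.add_left_cancel_iff, _root_.Nat.add_right_cancel_iff, _root_.Nat.left_eq_add, _root_.List.not_mem_nil, _root_.or_false, _root_.true_or, _root_.or_true], h⟩
        rcases ht.dvd_mul.1 h with h | h
        · exact ⟨_, by simp only [_root_.List.mem_cons, _root_.Nat.add_right_cancel_iff, _root_.Nat.add_eq_left, _root_.Nat.add_left_cancel_iff, _root_.List.not_mem_nil, _root_.or_false, _root_.true_or, _root_.or_true], h⟩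
        · exact ⟨_, by simp only [_root_.List.mem_cons, _root_.Nat.add_right_cancel_iff, _root_.Nat.add_left_cancel_iff, _root_.List.not_mem_nil, _root_.or_false, _root_.or_true], h⟩

theorem few_psl2 {u p f c : ℕ} (hp : p.Prime) (hu : u = p ^ f) (_hg : Cond (.psl 2 u))
    (he : den (.psl 2 u) * c = num (.psl 2 u)) (hl : 37 ≤ lsb (.psl 2 u)) :
    Few (lsb (.psl 2 u)) (6 * f * c) := by
  have hL : lsb (.psl 2 u) = (u - 1) / 2 := rfl
  rw [hL] at hl ⊢
  have hf : 0 < f := by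
    rcases Nat.eq_zero_or_pos f with h | h
    · rw [h, pow_zero] at hu; omega
    · exact h
  have hfL : f < (u - 1) / 2 - 11 := by
    rcases Nat.lt_or_ge f 7 with h | h
    · omega
    · have h1 : 16 * f + 16 ≤ 2 ^ f := by
        clear * - h
        induction f, h using Nat.le_induction with
        | base => norm_num
        | succ n hn ih => rw [pow_succ]; omega
      have h2 : 2 ^ f ≤ p ^ f := Nat.pow_le_pow_left hp.two_le f
      rw [← hu] at h2
      omega
  refine ⟨[u, u - 1, u + 1], by simp, ?_, fun t ht hLt hd => ?_⟩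
  · intro x hx
    have hsq : u + 1 < ((u - 1) / 2 - 11) ^ 2 := by
      obtain ⟨K, hK⟩ : ∃ K, (u - 1) / 2 = K + 11 := ⟨(u - 1) / 2 - 11, by omega⟩
      rw [hK, Nat.add_sub_cancel]
      have h1 : u ≤ 2 * K + 24 := by omega
      have h2 : 26 ≤ K := by omega
      nlinarith only [hl, hK, h1]
    simp only [List.mem_cons, List.not_mem_nil, or_false] at hx
    rcases hx with rfl | rfl | rfl
    · exact ⟨by omega, by omega⟩
    · exact ⟨by omega, by omega⟩
    · exact ⟨by omega, hsq⟩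
  · rcases ht.dvd_mul.1 hd with h | h
    · exfalso
      rcases ht.dvd_mul.1 h with h | h
      · have := Nat.le_of_dvd (by norm_num) h
        omega
      · have h1 := Nat.le_of_dvd hf h
        omega
    · have h1 : t ∣ num (.psl 2 u) := by
        rw [← he]
        exact h.mul_left _
      have h2 : t ∣ (u ^ 2 - u ^ 0) * (u ^ 2 - u ^ 1) := by
        have h4 : num (.psl 2 u) = ((List.range 2).map fun i => u ^ 2 - u ^ i).prod := rfl
        rw [h4] at h1
        simpa only [List.range_succ, _root_.pow_zero, _root_.pow_one, _root_.List.range_zero, _root_.List.nil_append, _root_.List.cons_append, _root_.List.map_cons, _root_.List.map_nil, _root_.List.prod_cons, _root_.List.prod_nil, _root_.mul_one] using h1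
      have h3 : u ^ 2 - u ^ 0 = (u + 1) * (u - 1) := by
        have := Nat.sq_sub_sq u 1
        rwa [one_pow] at this
      have h5 : u ^ 2 - u ^ 1 = u * (u - 1) := by
        rw [pow_one, pow_two, Nat.mul_sub, mul_one]
      rw [h3, h5] at h2
      rcases ht.dvd_mul.1 h2 with h | h
      · rcases ht.dvd_mul.1 h with h | h
        · exact ⟨_, by simp, h⟩
        · exact ⟨_, by simp, h⟩
      · rcases ht.dvd_mul.1 h with h | h
        · exact ⟨_, by simp, h⟩
        · exact ⟨_, by simp, h⟩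

theorem few_tf4 {u p f c : ℕ} (hp : p.Prime) (hu : u = p ^ f) (hg : Cond (.tf4 u))
    (he : den (.tf4 u) * c = num (.tf4 u)) (hl : 37 ≤ lsb (.tf4 u)) :
    Few (lsb (.tf4 u)) (6 * f * c) := by
  obtain ⟨m, hm, hum⟩ := hg
  have hL : lsb (.tf4 u) = (u - 1) * u := rfl
  rw [hL] at hl ⊢
  have hu8 : 8 ≤ u := by
    rw [hum]
    calc 8 = 2 ^ 3 := by norm_num
      _ ≤ 2 ^ (2 * m + 1) := Nat.pow_le_pow_right (by norm_num) (by omega)
  obtain ⟨r, hr⟩ : ∃ r, r = 2 ^ (m + 1) := ⟨_, rfl⟩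
  have hr2 : r * r = 2 * u := by
    rw [hr, hum, ← pow_add, ← pow_succ']
    congr 1
    omega
  have hr8 : 4 ≤ r := by
    by_contra h
    have : r * r ≤ 3 * 3 := Nat.mul_le_mul (by omega) (by omega)
    omega
  have hru : 2 * r ≤ u := by nlinarith only [hr2, hr8]
  obtain ⟨X, hX⟩ : ∃ X, X = u * u := ⟨_, rfl⟩
  have hX8 : 8 * u ≤ X := by rw [hX]; exact Nat.mul_le_mul_right _ hu8
  have hLX : (u - 1) * u = X - u := by rw [hX, Nat.sub_mul, one_mul]
  obtain ⟨Y, hY⟩ : ∃ Y, Y = r * u := ⟨_, rfl⟩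
  have hYX : 2 * Y ≤ X := by rw [hX, hY, ← mul_assoc]; exact Nat.mul_le_mul_right _ hru
  rw [hLX] at hl ⊢
  refine few_core hp hu (by omega) [X - u + 1, X + 1, X + Y + u + r + 1, X - Y + u - r + 1] (by simp only [_root_.List.length_cons, _root_.List.length_nil, _root_.zero_add, _root_.Nat.reduceAdd, _root_.Nat.reduceLeDiff]) ?_ hl
    (by (clear * - hr8 hru hX8; omega)) ?_
  · intro x hx
    have hsq : 2 * X < (X - u - 11) ^ 2 := by
      obtain ⟨K, hK⟩ : ∃ K, X - u = K + 11 := ⟨X - u - 11, by (clear * - hl; omega)⟩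
      rw [hK, Nat.add_sub_cancel]
      have h1 : 7 * X ≤ 8 * K + 88 := by (clear * - hX8 hK; omega)
      have h2 : 40 ≤ K := by omega
      nlinarith only [hX, hX8, hLX, hK, h1]
    simp only [List.mem_cons, List.not_mem_nil, or_false] at hx
    rcases hx with rfl | rfl | rfl | rfl
    · exact ⟨by omega, by omega⟩
    · exact ⟨by omega, by omega⟩
    · exact ⟨by omega, by (clear * - hr8 hru hX8 hYX hsq; omega)⟩
    · exact ⟨by omega, by (clear * - hr8 hru hX8 hsq; omega)⟩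
  · intro t ht htc
    have h1 : t ∣ u ^ 12 * ((u - 1) * (u ^ 3 + 1) * (u ^ 4 - 1) * (u ^ 6 + 1)) := by
      change t ∣ num (.tf4 u)
      rw [← he]
      exact htc.mul_left _
    have hm1 : t ∣ u - 1 → (∃ x ∈ [X - u + 1, X + 1, X + Y + u + r + 1, X - Y + u - r + 1], t ∣ x) ∨
        ∃ y, 0 < y ∧ y < X - u - 11 ∧ t ∣ y := fun h => Or.inr ⟨_, by omega, by (clear * - hu8 hX8; omega), h⟩
    have hp1 : t ∣ u + 1 → (∃ x ∈ [X - u + 1, X + 1, X + Y + u + r + 1, X - Y + u - r + 1], t ∣ x) ∨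
        ∃ y, 0 < y ∧ y < X - u - 11 ∧ t ∣ y := fun h => Or.inr ⟨_, by omega, by (clear * - hu8 hX8; omega), h⟩
    have hX1 : t ∣ X + 1 → (∃ x ∈ [X - u + 1, X + 1, X + Y + u + r + 1, X - Y + u - r + 1], t ∣ x) ∨
        ∃ y, 0 < y ∧ y < X - u - 11 ∧ t ∣ y := fun h => Or.inl ⟨_, by simp only [_root_.List.mem_cons, _root_.Nat.add_right_cancel_iff, _root_.Nat.add_left_cancel_iff, _root_.List.not_mem_nil, _root_.or_false, _root_.true_or, _root_.or_true], h⟩
    rcases ht.dvd_mul.1 h1 with h | h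
    · exact Or.inl (ht.dvd_of_dvd_pow h)
    · right
      rcases ht.dvd_mul.1 h with h | h
      · rcases ht.dvd_mul.1 h with h | h
        · rcases ht.dvd_mul.1 h with h | h
          · exact hm1 h
          · -- `u ^ 3 + 1`
            have h2 : u ^ 3 + 1 = (u + 1) * (X - u + 1) := by
              obtain ⟨K, hK⟩ : ∃ K, X = K + u := ⟨X - u, (Nat.sub_add_cancel (by omega)).symm⟩
              rw [hK, Nat.add_sub_cancel]
              have h3 : K + u = u * u := by rw [← hK, hX]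
              have h4 : u ^ 3 = u * (K + u) := by rw [h3]; ring
              rw [h4]
              linarith only [hX, hK]
            rw [h2] at h
            rcases ht.dvd_mul.1 h with h | h
            · exact hp1 h
            · exact Or.inl ⟨_, by simp only [_root_.List.mem_cons, _root_.Nat.add_left_cancel_iff, _root_.Nat.add_right_cancel_iff, _root_.List.not_mem_nil, _root_.or_false, _root_.true_or], h⟩
        · -- `u ^ 4 - 1`
          have h2 : u ^ 4 - 1 = (X + 1) * ((u + 1) * (u - 1)) := by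
            have h3 : u * u - 1 * 1 = (u + 1) * (u - 1) := by
              have := Nat.sq_sub_sq u 1
              rw [pow_two, one_pow] at this
              exact this
            have h4 : u ^ 4 - 1 = (u * u + 1) * (u * u - 1) := by
              have := Nat.sq_sub_sq (u * u) 1
              rw [one_pow] at this
              rw [← this]
              congr 1
              ring
            rw [h4, hX, ← h3]
          rw [h2] at h
          rcases ht.dvd_mul.1 h with h | h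
          · exact hX1 h
          rcases ht.dvd_mul.1 h with h | h
          · exact hp1 h
          · exact hm1 h
      · -- `u ^ 6 + 1`
        have h2 : (u ^ 6 + 1 : ℤ) = (X + 1) * (((X + Y + u + r + 1 : ℕ) : ℤ) * ((X - Y + u - r + 1 : ℕ) : ℤ)) := by
          have h3 : ((X - Y + u - r + 1 : ℕ) : ℤ) = (X : ℤ) - Y + u - r + 1 := by
            rw [show X - Y + u - r + 1 = (X - Y) + (u - r) + 1 by (clear * - hru; omega)]
            push_cast [Nat.cast_sub (show Y ≤ X by omega), Nat.cast_sub (show r ≤ u by omega)]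
            ring
          rw [h3]
          push_cast
          have h4 : (r : ℤ) * r = 2 * u := by exact_mod_cast hr2
          have h5 : (X : ℤ) = u * u := by exact_mod_cast hX
          have h6 : (Y : ℤ) = r * u := by exact_mod_cast hY
          rw [h5, h6]
          linear_combination ((u * u + 1) * ((u : ℤ) * u + 2 * u + 1)) * h4
        have h2' : u ^ 6 + 1 = (X + 1) * ((X + Y + u + r + 1) * (X - Y + u - r + 1)) := by exact_mod_cast h2
        rw [h2'] at h
        rcases ht.dvd_mul.1 h with h | h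
        · exact hX1 h
        rcases ht.dvd_mul.1 h with h | h
        · exact Or.inl ⟨_, by simp only [_root_.List.mem_cons, _root_.Nat.add_right_cancel_iff, _root_.Nat.add_left_cancel_iff, _root_.List.not_mem_nil, _root_.or_false, _root_.true_or, _root_.or_true], h⟩
        · exact Or.inl ⟨_, by simp only [_root_.List.mem_cons, _root_.Nat.add_right_cancel_iff, _root_.Nat.add_left_cancel_iff, _root_.List.not_mem_nil, _root_.or_false, _root_.or_true], h⟩

end Cfsg.Agent.H262.Few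
end

-- part: H264/FKS/FewExc
section
/-!
# TEAM ELUSIVE, cross characteristic: the large primes of `6 f |S|`, exceptional families (helper264)

`few_X`: for an exceptional name `g` with field `s = p ^ f` and `lsb g ≥ 37` there is a list of at most five
numbers less than `(lsb g - 11) ^ 2` such that each prime `t ≥ lsb g - 11` dividing `6 f |S|` divides
one of them.
-/

set_option autoImplicit false

namespace Cfsg.Agent.H264.FKS.FewExc

open Cfsg.Agent.OrdDiv Cfsg.Agent.H436 Cfsg.Agent.H264.FKS Cfsg.Agent.H927.SgX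

/-- (the unfolded form of the statement) -/
def FewB (B f c : ℕ) : Prop :=
  ∃ L : List ℕ, L.length ≤ 5 ∧ (∀ x ∈ L, 0 < x ∧ x < B ^ 2) ∧
    ∀ t, t.Prime → B ≤ t → t ∣ 6 * f * c → ∃ x ∈ L, t ∣ x

theorem few_of {B N f c : ℕ} {L S : List ℕ} (hL : L.length ≤ 5) (hL2 : ∀ x ∈ L, 0 < x ∧ x < B ^ 2)
    (hB : 3 < B) (hf : 0 < f) (hfB : f < B) (hc : c ∣ N) (hS : ∀ x ∈ S, 0 < x ∧ x < B)
    (hN : ∀ t, t.Prime → t ∣ N → (∃ x ∈ S, t ∣ x) ∨ ∃ x ∈ L, t ∣ x) : FewB B f c := by
  refine ⟨L, hL, hL2, fun t ht htB htd => ?_⟩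
  rcases ht.dvd_mul.1 htd with h1 | h1
  · rcases ht.dvd_mul.1 h1 with h2 | h2
    · exfalso
      have h3 : t ∣ 2 * 3 := h2
      rcases ht.dvd_mul.1 h3 with h4 | h4
      · have := Nat.le_of_dvd (by norm_num) h4; omega
      · have := Nat.le_of_dvd (by norm_num) h4; omega
    · exact absurd (Nat.le_of_dvd hf h2) (by omega)
  · rcases hN t ht (h1.trans hc) with ⟨x, hx, h2⟩ | h2
    · obtain ⟨h3, h4⟩ := hS x hx
      exact absurd (Nat.le_of_dvd h3 h2) (by omega)
    · exact h2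

section Split

variable {t s : ℕ} (ht : t.Prime)

include ht

theorem sp {k : ℕ} (h : t ∣ s ^ (2 * k) - 1) : t ∣ s ^ k - 1 ∨ t ∣ s ^ k + 1 := by
  rw [mul_comm, pow_mul, sq_sub] at h
  exact (ht.dvd_mul.1 h).symm

theorem pow_pr {k : ℕ} (h : t ∣ s ^ k) : t ∣ s := ht.dvd_of_dvd_pow h

theorem c3 {u : ℕ} (h : t ∣ u ^ 3 - 1) : t ∣ u - 1 ∨ t ∣ u ^ 2 + u + 1 := by
  rcases Nat.eq_zero_or_pos u with rfl | hu
  · left; simp
  · obtain ⟨v, rfl⟩ : ∃ v, u = v + 1 := ⟨u - 1, by omega⟩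
    have h1 : (v + 1) ^ 3 - 1 = (v + 1 - 1) * ((v + 1) ^ 2 + (v + 1) + 1) := by
      rw [Nat.add_sub_cancel]
      apply Nat.sub_eq_of_eq_add
      ring
    rw [h1] at h
    exact ht.dvd_mul.1 h

theorem c3' {u : ℕ} (h : t ∣ u ^ 3 + 1) : t ∣ u + 1 ∨ t ∣ u ^ 2 - u + 1 := by
  rcases Nat.eq_zero_or_pos u with rfl | hu
  · left; simpa using h
  · obtain ⟨v, rfl⟩ : ∃ v, u = v + 1 := ⟨u - 1, by omega⟩
    have h0 : (v + 1) ^ 2 - (v + 1) = v * (v + 1) := by
      apply Nat.sub_eq_of_eq_add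
      ring
    have h1 : (v + 1) ^ 3 + 1 = (v + 1 + 1) * ((v + 1) ^ 2 - (v + 1) + 1) := by
      rw [h0]
      ring
    rw [h1] at h
    exact ht.dvd_mul.1 h

end Split

theorem inS {t x : ℕ} {S L : List ℕ} (h : t ∣ x) (hx : x ∈ S) : (∃ x ∈ S, t ∣ x) ∨ ∃ x ∈ L, t ∣ x :=
  Or.inl ⟨x, hx, h⟩

theorem inL {t x : ℕ} {S L : List ℕ} (h : t ∣ x) (hx : x ∈ L) : (∃ x ∈ S, t ∣ x) ∨ ∃ x ∈ L, t ∣ x :=
  Or.inr ⟨x, hx, h⟩

theorem fpos {s p f : ℕ} (hs : 2 ≤ s) (hf : s = p ^ f) : 0 < f ∧ f < s := by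
  have h1 : 0 < f := by
    rcases Nat.eq_zero_or_pos f with rfl | h
    · rw [pow_zero] at hf; omega
    · exact h
  have h2 : 2 ≤ p := by
    by_contra hcon
    have h3 : p ^ f ≤ 1 := Nat.pow_le_one_iff h1.ne' |>.2 (by omega)
    omega
  refine ⟨h1, ?_⟩
  rw [hf]
  exact Nat.lt_pow_self h2

variable {s p f c : ℕ}

theorem few_g2_aux (he : den (.g2 s) * c = num (.g2 s)) (hf : s = p ^ f) (hl : 37 ≤ lsb (.g2 s)) :
    FewB (lsb (.g2 s) - 11) f c := by
  have hl' : 37 ≤ (if s ≤ 4 then 0 else (s - 1) * s) := hl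
  have h5 : ¬ s ≤ 4 := by
    intro h
    rw [if_pos h] at hl'
    omega
  have hl2 : lsb (.g2 s) = (s - 1) * s := if_neg h5
  rw [hl2] at hl ⊢
  have hs : 7 ≤ s := by
    by_contra hcon
    have : (s - 1) * s ≤ 5 * 6 := Nat.mul_le_mul (by omega) (by omega)
    omega
  obtain ⟨hf0, hfs⟩ := fpos (by omega) hf
  have hc : c ∣ s ^ 6 * ((s ^ 2 - 1) * (s ^ 6 - 1)) := Dvd.intro_left _ he
  obtain ⟨B, hB⟩ : ∃ B, B = (s - 1) * s - 11 := ⟨_, rfl⟩
  rw [← hB]
  obtain ⟨v, rfl⟩ : ∃ v, s = v + 7 := ⟨s - 7, by omega⟩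
  have hB1 : 4 * (v + 7) ≤ B := by
    rw [hB]
    have : 4 * (v + 7) + 11 ≤ (v + 7 - 1) * (v + 7) := by
      rw [show v + 7 - 1 = v + 6 by omega]
      nlinarith only []
    omega
  refine few_of (L := [(v + 7) ^ 2 + (v + 7) + 1, (v + 7) ^ 2 - (v + 7) + 1]) (S := [v + 7, v + 7 - 1, v + 7 + 1])
    (by simp) ?_ (by omega) hf0 (by omega) hc ?_ ?_
  · have h1 : (4 * (v + 7)) ^ 2 ≤ B ^ 2 := Nat.pow_le_pow_left hB1 2
    have h2 : (v + 7) ^ 2 + (v + 7) + 1 < (4 * (v + 7)) ^ 2 := by nlinarith only []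
    intro x hx
    simp only [List.mem_cons, List.not_mem_nil, or_false] at hx
    rcases hx with rfl | rfl <;> omega
  · intro x hx
    simp only [List.mem_cons, List.not_mem_nil, or_false] at hx
    rcases hx with rfl | rfl | rfl <;> (clear * - hf hB hB1; omega)
  · intro t ht h
    obtain ⟨s, hs⟩ : ∃ s, v + 7 = s := ⟨_, rfl⟩
    rw [hs] at h ⊢
    rcases ht.dvd_mul.1 h with h1 | h1
    · exact inS (pow_pr ht h1) (by simp)
    rcases ht.dvd_mul.1 h1 with h2 | h2
    · rcases sp ht (k := 1) h2 with h3 | h3 <;> rw [pow_one] at h3 <;> exact inS h3 (by simp only [_root_.List.mem_cons, _root_.Nat.pred_eq_succ_iff, _root_.Nat.left_eq_add, _root_.OfNat.ofNat_ne_zero, _root_.List.not_mem_nil, _root_.or_self, _root_.or_false, _root_.or_true, _root_.Nat.add_eq_left, _root_.one_ne_zero, _root_.Nat.add_left_cancel_iff])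
    · rcases sp ht (k := 3) h2 with h3 | h3
      · rcases c3 ht h3 with h4 | h4
        · exact inS h4 (by simp)
        · exact inL h4 (by simp)
      · rcases c3' ht h3 with h4 | h4
        · exact inS h4 (by simp)
        · exact inL h4 (by simp)

theorem few_f4_aux (hs2 : 2 ≤ s) (he : den (.f4 s) * c = num (.f4 s)) (hf : s = p ^ f) (hl : 37 ≤ lsb (.f4 s)) :
    FewB (lsb (.f4 s) - 11) f c := by
  have hl' : 37 ≤ (if s = 2 then 0 else (s - 1) * s ^ 3) := hl
  have h5 : ¬ s = 2 := by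
    intro h
    rw [if_pos h] at hl'
    omega
  have hl2 : lsb (.f4 s) = (s - 1) * s ^ 3 := if_neg h5
  rw [hl2] at hl ⊢
  have hs : 3 ≤ s := by omega
  obtain ⟨hf0, hfs⟩ := fpos (by omega) hf
  have hc : c ∣ s ^ 24 * ((s ^ 2 - 1) * (s ^ 6 - 1) * (s ^ 8 - 1) * (s ^ 12 - 1)) := Dvd.intro_left _ he
  obtain ⟨B, hB⟩ : ∃ B, B = (s - 1) * s ^ 3 - 11 := ⟨_, rfl⟩
  rw [← hB]
  have a1 : 3 * s ≤ s ^ 2 := by rw [sq]; exact Nat.mul_le_mul_right _ hs
  have a2 : 3 * s ^ 2 ≤ s ^ 3 := by rw [pow_succ s 2, mul_comm]; exact Nat.mul_le_mul_left _ hs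
  have a3 : 3 * s ^ 3 ≤ s ^ 4 := by rw [pow_succ s 3, mul_comm]; exact Nat.mul_le_mul_left _ hs
  have hB1 : s ^ 3 ≤ B := by
    rw [hB]
    have : 2 * s ^ 3 ≤ (s - 1) * s ^ 3 := Nat.mul_le_mul_right _ (by omega)
    omega
  have hB2 : 9 * s ^ 4 ≤ B ^ 2 := by
    calc 9 * s ^ 4 = 3 ^ 2 * s ^ 4 := by norm_num
      _ ≤ s ^ 2 * s ^ 4 := Nat.mul_le_mul_right _ (Nat.pow_le_pow_left hs 2)
      _ = (s ^ 3) ^ 2 := by ring
      _ ≤ B ^ 2 := Nat.pow_le_pow_left hB1 2
  refine few_of (L := [s ^ 4 + 1, (s ^ 2) ^ 2 - s ^ 2 + 1])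
    (S := [s, s - 1, s + 1, s ^ 2 + s + 1, s ^ 2 - s + 1, s ^ 2 + 1])
    (by simp) ?_ (by omega) hf0 (by omega) hc ?_ ?_
  · rw [show (s ^ 2) ^ 2 = s ^ 4 by ring]
    intro x hx
    simp only [List.mem_cons, List.not_mem_nil, or_false] at hx
    rcases hx with rfl | rfl <;> omega
  · intro x hx
    simp only [List.mem_cons, List.not_mem_nil, or_false] at hx
    rcases hx with rfl | rfl | rfl | rfl | rfl | rfl <;> (clear * - hs a1 a2 hB1 hfs hf hB; omega)
  · intro t ht h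
    have k2 : t ∣ s ^ 2 - 1 → t ∣ s - 1 ∨ t ∣ s + 1 := fun h => by
      have := sp ht (k := 1) h
      rwa [pow_one] at this
    have k6 : t ∣ s ^ 6 - 1 → t ∣ s - 1 ∨ t ∣ s + 1 ∨ t ∣ s ^ 2 + s + 1 ∨ t ∣ s ^ 2 - s + 1 := fun h => by
      rcases sp ht (k := 3) h with h3 | h3
      · rcases c3 ht h3 with h4 | h4
        · exact Or.inl h4
        · exact Or.inr (Or.inr (Or.inl h4))
      · rcases c3' ht h3 with h4 | h4
        · exact Or.inr (Or.inl h4)
        · exact Or.inr (Or.inr (Or.inr h4))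
    rcases ht.dvd_mul.1 h with h1 | h1
    · exact inS (pow_pr ht h1) (by simp only [_root_.List.mem_cons, _root_.Nat.left_eq_add, _root_.one_ne_zero, _root_.List.not_mem_nil, _root_.or_false, _root_.false_or, _root_.true_or])
    rcases ht.dvd_mul.1 h1 with h2 | h2
    swap
    · rcases sp ht (k := 6) h2 with h5 | h5
      · rcases k6 h5 with h | h | h | h <;> exact inS h (by simp only [_root_.List.mem_cons, _root_.Nat.pred_eq_succ_iff, _root_.Nat.left_eq_add, _root_.OfNat.ofNat_ne_zero, _root_.List.not_mem_nil, _root_.or_false, _root_.false_or, _root_.true_or, _root_.or_true, _root_.Nat.add_eq_left, _root_.one_ne_zero, _root_.Nat.add_left_cancel_iff, _root_.Nat.add_right_cancel_iff, _root_.Nat.right_eq_add, _root_.Nat.pow_eq_zero, _root_.ne_eq, _root_.not_false_eq_true, _root_.and_true, _root_.Nat.add_eq_right])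
      · rw [show s ^ 6 = (s ^ 2) ^ 3 by ring] at h5
        rcases c3' ht h5 with h6 | h6
        · exact inS h6 (by simp only [_root_.List.mem_cons, _root_.Nat.add_right_cancel_iff, _root_.Nat.left_eq_add, _root_.Nat.add_left_cancel_iff, _root_.List.not_mem_nil, _root_.or_false, _root_.or_true])
        · exact inL h6 (by simp)
    rcases ht.dvd_mul.1 h2 with h3 | h3
    swap
    · rcases sp ht (k := 4) h3 with h5 | h5
      · rcases sp ht (k := 2) h5 with h6 | h6
        · rcases k2 h6 with h | h <;> exact inS h (by simp only [_root_.List.mem_cons, _root_.Nat.pred_eq_succ_iff, _root_.Nat.left_eq_add, _root_.OfNat.ofNat_ne_zero, _root_.List.not_mem_nil, _root_.or_false, _root_.false_or, _root_.true_or, _root_.or_true, _root_.Nat.add_eq_left, _root_.one_ne_zero, _root_.Nat.add_left_cancel_iff, _root_.Nat.add_right_cancel_iff, _root_.Nat.right_eq_add, _root_.Nat.pow_eq_zero, _root_.ne_eq, _root_.not_false_eq_true, _root_.and_true])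
        · exact inS h6 (by simp only [_root_.List.mem_cons, _root_.Nat.add_right_cancel_iff, _root_.Nat.left_eq_add, _root_.Nat.add_left_cancel_iff, _root_.List.not_mem_nil, _root_.or_false, _root_.or_true])
      · exact inL h5 (by simp)
    rcases ht.dvd_mul.1 h3 with h4 | h4
    · rcases k2 h4 with h | h <;> exact inS h (by simp only [_root_.List.mem_cons, _root_.Nat.pred_eq_succ_iff, _root_.Nat.left_eq_add, _root_.OfNat.ofNat_ne_zero, _root_.List.not_mem_nil, _root_.or_false, _root_.false_or, _root_.true_or, _root_.or_true, _root_.Nat.add_eq_left, _root_.one_ne_zero, _root_.Nat.add_left_cancel_iff, _root_.Nat.add_right_cancel_iff, _root_.Nat.right_eq_add, _root_.Nat.pow_eq_zero, _root_.ne_eq, _root_.not_false_eq_true, _root_.and_true])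
    · rcases k6 h4 with h | h | h | h <;> exact inS h (by simp only [_root_.List.mem_cons, _root_.Nat.pred_eq_succ_iff, _root_.Nat.left_eq_add, _root_.OfNat.ofNat_ne_zero, _root_.List.not_mem_nil, _root_.or_false, _root_.false_or, _root_.true_or, _root_.or_true, _root_.Nat.add_eq_left, _root_.one_ne_zero, _root_.Nat.add_left_cancel_iff, _root_.Nat.add_right_cancel_iff, _root_.Nat.right_eq_add, _root_.Nat.pow_eq_zero, _root_.ne_eq, _root_.not_false_eq_true, _root_.and_true, _root_.Nat.add_eq_right])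

theorem few_td4_aux (he : den (.td4 s) * c = num (.td4 s)) (hf : s = p ^ f) (hl : 37 ≤ lsb (.td4 s)) :
    FewB (lsb (.td4 s) - 11) f c := by
  have hl' : 37 ≤ (if s ≤ 3 then 0 else (s - 1) * s ^ 3) := hl
  have h5 : ¬ s ≤ 3 := by
    intro h
    rw [if_pos h] at hl'
    omega
  have hl2 : lsb (.td4 s) = (s - 1) * s ^ 3 := if_neg h5
  rw [hl2] at hl ⊢
  have hs : 4 ≤ s := by omega
  obtain ⟨hf0, hfs⟩ := fpos (by omega) hf
  have hc : c ∣ s ^ 12 * ((s ^ 2 - 1) * (s ^ 6 - 1) * (s ^ 8 + s ^ 4 + 1)) := Dvd.intro_left _ he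
  obtain ⟨B, hB⟩ : ∃ B, B = (s - 1) * s ^ 3 - 11 := ⟨_, rfl⟩
  rw [← hB]
  have a1 : 4 * s ≤ s ^ 2 := by rw [sq]; exact Nat.mul_le_mul_right _ hs
  have a2 : 4 * s ^ 2 ≤ s ^ 3 := by rw [pow_succ s 2, mul_comm]; exact Nat.mul_le_mul_left _ hs
  have a3 : 4 * s ^ 3 ≤ s ^ 4 := by rw [pow_succ s 3, mul_comm]; exact Nat.mul_le_mul_left _ hs
  have hB1 : s ^ 3 ≤ B := by
    rw [hB]
    have : 3 * s ^ 3 ≤ (s - 1) * s ^ 3 := Nat.mul_le_mul_right _ (by omega)
    omega
  have hB2 : 16 * s ^ 4 ≤ B ^ 2 := by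
    calc 16 * s ^ 4 = 4 ^ 2 * s ^ 4 := by norm_num
      _ ≤ s ^ 2 * s ^ 4 := Nat.mul_le_mul_right _ (Nat.pow_le_pow_left hs 2)
      _ = (s ^ 3) ^ 2 := by ring
      _ ≤ B ^ 2 := Nat.pow_le_pow_left hB1 2
  refine few_of (L := [s ^ 4 - s ^ 2 + 1])
    (S := [s, s - 1, s + 1, s ^ 2 + s + 1, s ^ 2 - s + 1])
    (by simp) ?_ (by omega) hf0 (by omega) hc ?_ ?_
  · intro x hx
    simp only [List.mem_cons, List.not_mem_nil, or_false] at hx
    rcases hx with rfl
    omega
  · intro x hx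
    simp only [List.mem_cons, List.not_mem_nil, or_false] at hx
    rcases hx with rfl | rfl | rfl | rfl | rfl <;> (clear * - h5 a1 a2 hB1 hfs; omega)
  · intro t ht h
    have k2 : t ∣ s ^ 2 - 1 → t ∣ s - 1 ∨ t ∣ s + 1 := fun h => by
      have := sp ht (k := 1) h
      rwa [pow_one] at this
    have k6 : t ∣ s ^ 6 - 1 → t ∣ s - 1 ∨ t ∣ s + 1 ∨ t ∣ s ^ 2 + s + 1 ∨ t ∣ s ^ 2 - s + 1 := fun h => by
      rcases sp ht (k := 3) h with h3 | h3
      · rcases c3 ht h3 with h4 | h4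
        · exact Or.inl h4
        · exact Or.inr (Or.inr (Or.inl h4))
      · rcases c3' ht h3 with h4 | h4
        · exact Or.inr (Or.inl h4)
        · exact Or.inr (Or.inr (Or.inr h4))
    rcases ht.dvd_mul.1 h with h1 | h1
    · exact inS (pow_pr ht h1) (by simp only [_root_.List.mem_cons, _root_.Nat.left_eq_add, _root_.one_ne_zero, _root_.List.not_mem_nil, _root_.or_false, _root_.false_or, _root_.true_or])
    rcases ht.dvd_mul.1 h1 with h2 | h2
    · rcases ht.dvd_mul.1 h2 with h3 | h3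
      · rcases k2 h3 with h | h <;> exact inS h (by simp only [_root_.List.mem_cons, _root_.Nat.pred_eq_succ_iff, _root_.Nat.left_eq_add, _root_.OfNat.ofNat_ne_zero, _root_.List.not_mem_nil, _root_.or_false, _root_.false_or, _root_.true_or, _root_.or_true, _root_.Nat.add_eq_left, _root_.one_ne_zero, _root_.Nat.add_left_cancel_iff, _root_.Nat.add_right_cancel_iff, _root_.Nat.right_eq_add, _root_.Nat.pow_eq_zero, _root_.ne_eq, _root_.not_false_eq_true, _root_.and_true])
      · rcases k6 h3 with h | h | h | h <;> exact inS h (by simp only [_root_.List.mem_cons, _root_.Nat.pred_eq_succ_iff, _root_.Nat.left_eq_add, _root_.OfNat.ofNat_ne_zero, _root_.List.not_mem_nil, _root_.or_false, _root_.false_or, _root_.true_or, _root_.or_true, _root_.Nat.add_eq_left, _root_.one_ne_zero, _root_.Nat.add_left_cancel_iff, _root_.Nat.add_right_cancel_iff, _root_.Nat.right_eq_add, _root_.Nat.pow_eq_zero, _root_.ne_eq, _root_.not_false_eq_true, _root_.and_true,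 _root_.Nat.add_eq_right])
    · have e1 : s ^ 8 + s ^ 4 + 1 = (s ^ 2 + s + 1) * (s ^ 2 - s + 1) * (s ^ 4 - s ^ 2 + 1) := by
        obtain ⟨v, rfl⟩ : ∃ v, s = v + 1 := ⟨s - 1, by omega⟩
        have h0 : (v + 1) ^ 2 - (v + 1) = v * (v + 1) := by
          apply Nat.sub_eq_of_eq_add
          ring
        have h0' : (v + 1) ^ 4 - (v + 1) ^ 2 = v * (v + 2) * (v + 1) ^ 2 := by
          apply Nat.sub_eq_of_eq_add
          ring
        rw [h0, h0']
        ring
      rw [e1] at h2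
      rcases ht.dvd_mul.1 h2 with h3 | h3
      · rcases ht.dvd_mul.1 h3 with h4 | h4 <;> exact inS h4 (by simp only [_root_.List.mem_cons, _root_.Nat.add_right_cancel_iff, _root_.Nat.add_eq_right, _root_.Nat.pow_eq_zero, _root_.ne_eq, _root_.OfNat.ofNat_ne_zero, _root_.not_false_eq_true, _root_.and_true, _root_.Nat.add_left_cancel_iff, _root_.List.not_mem_nil, _root_.or_false, _root_.true_or, _root_.or_true])
      · exact inL h3 (by simp)

theorem pow_mono2 (hs : 2 ≤ s) (k : ℕ) : 2 * s ^ k ≤ s ^ (k + 1) := by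
  rw [pow_succ s k, mul_comm]; exact Nat.mul_le_mul_left _ hs

theorem few_e6_aux (hs : 2 ≤ s) (he : den (.e6 s) * c = num (.e6 s)) (hf : s = p ^ f) :
    FewB (lsb (.e6 s) - 11) f c := by
  have hl2 : lsb (.e6 s) = (s - 1) * s ^ 6 := rfl
  rw [hl2]
  obtain ⟨hf0, hfs⟩ := fpos (by omega) hf
  have hc : c ∣ s ^ 36 * ((s ^ 2 - 1) * (s ^ 5 - 1) * (s ^ 6 - 1) * (s ^ 8 - 1) * (s ^ 9 - 1) * (s ^ 12 - 1)) :=
    Dvd.intro_left _ he
  obtain ⟨B, hB⟩ : ∃ B, B = (s - 1) * s ^ 6 - 11 := ⟨_, rfl⟩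
  rw [← hB]
  have a1 := pow_mono2 hs 1
  rw [pow_one] at a1
  have a2 := pow_mono2 hs 2
  have a3 := pow_mono2 hs 3
  have a4 := pow_mono2 hs 4
  have a5 := pow_mono2 hs 5
  have a6 := pow_mono2 hs 6
  have a7 := pow_mono2 hs 7
  have a8 := pow_mono2 hs 8
  have a9 := pow_mono2 hs 9
  norm_num only [] at a1 a2 a3 a4 a5 a6 a7 a8 a9
  have hB1 : s ^ 5 ≤ B := by
    rw [hB]
    have : 1 * s ^ 6 ≤ (s - 1) * s ^ 6 := Nat.mul_le_mul_right _ (by omega)
    omega
  have hB2 : s ^ 10 ≤ B ^ 2 := by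
    calc s ^ 10 = (s ^ 5) ^ 2 := by ring
      _ ≤ B ^ 2 := Nat.pow_le_pow_left hB1 2
  refine few_of (L := [s ^ 9 - 1, s ^ 6 + 1, s ^ 6 - 1, s ^ 5 - 1])
    (S := [s, s ^ 2 - 1, s ^ 4 - 1, s ^ 4 + 1])
    (by simp only [_root_.List.length_cons, _root_.List.length_nil, _root_.zero_add, _root_.Nat.reduceAdd, _root_.Nat.reduceLeDiff]) ?_ (by omega) hf0 (by omega) hc ?_ ?_
  · intro x hx
    simp only [List.mem_cons, List.not_mem_nil, or_false] at hx
    rcases hx with rfl | rfl | rfl | rfl <;> omega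
  · intro x hx
    simp only [List.mem_cons, List.not_mem_nil, or_false] at hx
    rcases hx with rfl | rfl | rfl | rfl <;> (clear * - hs a1 a2 a3 a4 hB1 hfs; omega)
  · intro t ht h
    rcases ht.dvd_mul.1 h with h1 | h1
    · exact inS (pow_pr ht h1) (by simp only [_root_.List.mem_cons, _root_.List.not_mem_nil, _root_.or_false, _root_.true_or])
    rcases ht.dvd_mul.1 h1 with h1 | h12
    swap
    · rcases sp ht (k := 6) h12 with h5 | h5 <;> exact inL h5 (by simp only [_root_.List.mem_cons, _root_.Nat.pred_eq_succ_iff, _root_.Nat.left_eq_add, _root_.OfNat.ofNat_ne_zero, _root_.List.not_mem_nil, _root_.or_false, _root_.true_or, _root_.or_true, _root_.Nat.add_left_cancel_iff])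
    rcases ht.dvd_mul.1 h1 with h1 | h9
    swap
    · exact inL h9 (by simp only [_root_.List.mem_cons, _root_.Nat.pred_eq_succ_iff, _root_.List.not_mem_nil, _root_.or_false, _root_.true_or])
    rcases ht.dvd_mul.1 h1 with h1 | h8
    swap
    · rcases sp ht (k := 4) h8 with h5 | h5 <;> exact inS h5 (by simp only [_root_.List.mem_cons, _root_.Nat.pred_eq_succ_iff, _root_.Nat.left_eq_add, _root_.OfNat.ofNat_ne_zero, _root_.List.not_mem_nil, _root_.or_self, _root_.or_false, _root_.or_true, _root_.Nat.add_left_cancel_iff])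
    rcases ht.dvd_mul.1 h1 with h1 | h6
    swap
    · exact inL h6 (by simp only [_root_.List.mem_cons, _root_.Nat.pred_eq_succ_iff, _root_.Nat.left_eq_add, _root_.OfNat.ofNat_ne_zero, _root_.List.not_mem_nil, _root_.or_false, _root_.true_or, _root_.or_true])
    rcases ht.dvd_mul.1 h1 with h1 | h5
    · exact inS h1 (by simp only [_root_.List.mem_cons, _root_.Nat.pred_eq_succ_iff, _root_.List.not_mem_nil, _root_.or_false, _root_.true_or, _root_.or_true])
    · exact inL h5 (by simp only [_root_.List.mem_cons, _root_.Nat.pred_eq_succ_iff, _root_.List.not_mem_nil, _root_.or_false, _root_.or_true])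

theorem few_te6_aux (hs2 : 2 ≤ s) (he : den (.te6 s) * c = num (.te6 s)) (hf : s = p ^ f) (hl : 37 ≤ lsb (.te6 s)) :
    FewB (lsb (.te6 s) - 11) f c := by
  have hl' : 37 ≤ (if s = 2 then 0 else (s - 1) * s ^ 6) := hl
  have h5 : ¬ s = 2 := by
    intro h
    rw [if_pos h] at hl'
    omega
  have hl2 : lsb (.te6 s) = (s - 1) * s ^ 6 := if_neg h5
  rw [hl2] at hl ⊢
  have hs : 2 ≤ s := by omega
  obtain ⟨hf0, hfs⟩ := fpos (by omega) hf
  have hc : c ∣ s ^ 36 * ((s ^ 2 - 1) * (s ^ 5 + 1) * (s ^ 6 - 1) * (s ^ 8 - 1) * (s ^ 9 + 1) * (s ^ 12 - 1)) :=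
    Dvd.intro_left _ he
  obtain ⟨B, hB⟩ : ∃ B, B = (s - 1) * s ^ 6 - 11 := ⟨_, rfl⟩
  rw [← hB]
  have a1 := pow_mono2 hs 1
  rw [pow_one] at a1
  have a2 := pow_mono2 hs 2
  have a3 := pow_mono2 hs 3
  have a4 := pow_mono2 hs 4
  have a5 := pow_mono2 hs 5
  have a6 := pow_mono2 hs 6
  have a7 := pow_mono2 hs 7
  have a8 := pow_mono2 hs 8
  have a9 := pow_mono2 hs 9
  have a10 := pow_mono2 hs 10
  have a11 := pow_mono2 hs 11
  norm_num only [] at a1 a2 a3 a4 a5 a6 a7 a8 a9 a10 a11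
  have hB1 : s ^ 6 ≤ B := by
    rw [hB]
    have : 2 * s ^ 6 ≤ (s - 1) * s ^ 6 := Nat.mul_le_mul_right _ (by omega)
    (clear * - hf hl hl2 this; omega)
  have hB2 : s ^ 12 ≤ B ^ 2 := by
    calc s ^ 12 = (s ^ 6) ^ 2 := by ring
      _ ≤ B ^ 2 := Nat.pow_le_pow_left hB1 2
  refine few_of (L := [s ^ 9 + 1, s ^ 6 + 1, s ^ 6 - 1, s ^ 5 + 1])
    (S := [s, s ^ 2 - 1, s ^ 4 - 1, s ^ 4 + 1])
    (by simp) ?_ (by omega) hf0 (by (clear * - hfs a1 a2 a3 a4 a5 hB1; solve | lia | omega)) hc ?_ ?_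
  · intro x hx
    simp only [List.mem_cons, List.not_mem_nil, or_false] at hx
    rcases hx with rfl | rfl | rfl | rfl <;> omega
  · intro x hx
    simp only [List.mem_cons, List.not_mem_nil, or_false] at hx
    rcases hx with rfl | rfl | rfl | rfl <;> (clear * - hs2 a1 a2 a3 a4 a5 hB1 hfs; omega)
  · intro t ht h
    rcases ht.dvd_mul.1 h with h1 | h1
    · exact inS (pow_pr ht h1) (by simp only [_root_.List.mem_cons, _root_.List.not_mem_nil, _root_.or_false, _root_.true_or])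
    rcases ht.dvd_mul.1 h1 with h1 | h12
    swap
    · rcases sp ht (k := 6) h12 with h5 | h5 <;> exact inL h5 (by simp only [_root_.List.mem_cons, _root_.Nat.pred_eq_succ_iff, _root_.Nat.left_eq_add, _root_.OfNat.ofNat_ne_zero, _root_.List.not_mem_nil, _root_.or_false, _root_.true_or, _root_.or_true, _root_.Nat.add_right_cancel_iff, _root_.Nat.add_left_cancel_iff])
    rcases ht.dvd_mul.1 h1 with h1 | h9
    swap
    · exact inL h9 (by simp only [_root_.List.mem_cons, _root_.Nat.add_left_cancel_iff, _root_.Nat.add_right_cancel_iff, _root_.List.not_mem_nil, _root_.or_false, _root_.true_or])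
    rcases ht.dvd_mul.1 h1 with h1 | h8
    swap
    · rcases sp ht (k := 4) h8 with h5 | h5 <;> exact inS h5 (by simp only [_root_.List.mem_cons, _root_.Nat.pred_eq_succ_iff, _root_.Nat.left_eq_add, _root_.OfNat.ofNat_ne_zero, _root_.List.not_mem_nil, _root_.or_self, _root_.or_false, _root_.or_true, _root_.Nat.add_left_cancel_iff])
    rcases ht.dvd_mul.1 h1 with h1 | h6
    swap
    · exact inL h6 (by simp)
    rcases ht.dvd_mul.1 h1 with h1 | h5
    · exact inS h1 (by simp only [_root_.List.mem_cons, _root_.Nat.pred_eq_succ_iff, _root_.List.not_mem_nil, _root_.or_false, _root_.true_or, _root_.or_true])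
    · exact inL h5 (by simp only [_root_.List.mem_cons, _root_.Nat.add_right_cancel_iff, _root_.Nat.add_left_cancel_iff, _root_.List.not_mem_nil, _root_.or_false, _root_.or_true])

theorem few_e7_aux (hs : 2 ≤ s) (he : den (.e7 s) * c = num (.e7 s)) (hf : s = p ^ f) :
    FewB (lsb (.e7 s) - 11) f c := by
  have hl2 : lsb (.e7 s) = (s - 1) * s ^ 7 := rfl
  rw [hl2]
  obtain ⟨hf0, hfs⟩ := fpos (by omega) hf
  have hc : c ∣ s ^ 63 * ((s ^ 2 - 1) * (s ^ 6 - 1) * (s ^ 8 - 1) * (s ^ 10 - 1) * (s ^ 12 - 1) *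
      (s ^ 14 - 1) * (s ^ 18 - 1)) := Dvd.intro_left _ he
  obtain ⟨B, hB⟩ : ∃ B, B = (s - 1) * s ^ 7 - 11 := ⟨_, rfl⟩
  rw [← hB]
  have a1 := pow_mono2 hs 1
  rw [pow_one] at a1
  have a2 := pow_mono2 hs 2
  have a3 := pow_mono2 hs 3
  have a4 := pow_mono2 hs 4
  have a5 := pow_mono2 hs 5
  have a6 := pow_mono2 hs 6
  have a7 := pow_mono2 hs 7
  have a8 := pow_mono2 hs 8
  have a9 := pow_mono2 hs 9
  have a10 := pow_mono2 hs 10
  have a11 := pow_mono2 hs 11
  norm_num only [] at a1 a2 a3 a4 a5 a6 a7 a8 a9 a10 a11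
  have hB1 : s ^ 6 + 2 ≤ B := by
    rw [hB]
    have : 1 * s ^ 7 ≤ (s - 1) * s ^ 7 := Nat.mul_le_mul_right _ (by omega)
    omega
  have hB2 : s ^ 12 ≤ B ^ 2 := by
    calc s ^ 12 = (s ^ 6) ^ 2 := by ring
      _ ≤ B ^ 2 := Nat.pow_le_pow_left (by omega) 2
  refine few_of (L := [s ^ 9 - 1, s ^ 9 + 1, s ^ 7 - 1, s ^ 7 + 1])
    (S := [s, s ^ 2 - 1, s ^ 6 - 1, s ^ 6 + 1, s ^ 4 - 1, s ^ 4 + 1, s ^ 5 - 1, s ^ 5 + 1])
    (by simp) ?_ (by omega) hf0 (by omega) hc ?_ ?_
  · intro x hx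
    simp only [List.mem_cons, List.not_mem_nil, or_false] at hx
    rcases hx with rfl | rfl | rfl | rfl <;> (clear * - hfs a1 a2 a3 a4 a5 a6 a7 a8 a9 a10 a11 hB2; solve | lia | omega)
  · intro x hx
    simp only [List.mem_cons, List.not_mem_nil, or_false] at hx
    rcases hx with rfl | rfl | rfl | rfl | rfl | rfl | rfl | rfl <;> (clear * - hs a1 a2 a3 a4 a5 hB1 hfs hB; omega)
  · intro t ht h
    rcases ht.dvd_mul.1 h with h1 | h1
    · exact inS (pow_pr ht h1) (by simp only [_root_.List.mem_cons, _root_.List.not_mem_nil, _root_.or_false, _root_.true_or])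
    rcases ht.dvd_mul.1 h1 with h1 | h18
    swap
    · rcases sp ht (k := 9) h18 with h5 | h5 <;> exact inL h5 (by simp only [_root_.List.mem_cons, _root_.Nat.pred_eq_succ_iff, _root_.Nat.left_eq_add, _root_.OfNat.ofNat_ne_zero, _root_.List.not_mem_nil, _root_.or_false, _root_.false_or, _root_.true_or, _root_.Nat.add_left_cancel_iff, _root_.Nat.add_right_cancel_iff, _root_.or_true])
    rcases ht.dvd_mul.1 h1 with h1 | h14
    swap
    · rcases sp ht (k := 7) h14 with h5 | h5 <;> exact inL h5 (by simp only [_root_.List.mem_cons, _root_.Nat.pred_eq_succ_iff, _root_.Nat.left_eq_add, _root_.OfNat.ofNat_ne_zero, _root_.List.not_mem_nil, _root_.or_self, _root_.or_false, _root_.or_true, _root_.Nat.add_right_cancel_iff, _root_.Nat.add_left_cancel_iff])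
    rcases ht.dvd_mul.1 h1 with h1 | h12
    swap
    · rcases sp ht (k := 6) h12 with h5 | h5 <;> exact inS h5 (by simp only [_root_.List.mem_cons, _root_.Nat.pred_eq_succ_iff, _root_.Nat.left_eq_add, _root_.OfNat.ofNat_ne_zero, _root_.List.not_mem_nil, _root_.or_false, _root_.false_or, _root_.true_or, _root_.or_true, _root_.Nat.add_left_cancel_iff, _root_.Nat.add_right_cancel_iff])
    rcases ht.dvd_mul.1 h1 with h1 | h10
    swap
    · rcases sp ht (k := 5) h10 with h5 | h5 <;> exact inS h5 (by simp only [_root_.List.mem_cons, _root_.Nat.pred_eq_succ_iff, _root_.Nat.left_eq_add, _root_.OfNat.ofNat_ne_zero, _root_.List.not_mem_nil, _root_.or_self, _root_.or_false, _root_.or_true, _root_.Nat.add_right_cancel_iff, _root_.Nat.add_left_cancel_iff])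
    rcases ht.dvd_mul.1 h1 with h1 | h8
    swap
    · rcases sp ht (k := 4) h8 with h5 | h5 <;> exact inS h5 (by simp only [_root_.List.mem_cons, _root_.Nat.pred_eq_succ_iff, _root_.Nat.left_eq_add, _root_.OfNat.ofNat_ne_zero, _root_.List.not_mem_nil, _root_.or_false, _root_.false_or, _root_.true_or, _root_.or_true, _root_.Nat.add_right_cancel_iff, _root_.Nat.add_left_cancel_iff])
    rcases ht.dvd_mul.1 h1 with h1 | h6 <;> [exact inS h1 (by simp only [_root_.List.mem_cons, _root_.Nat.pred_eq_succ_iff, _root_.List.not_mem_nil, _root_.or_false, _root_.true_or, _root_.or_true]); exact inS h6 (by simp only [_root_.List.mem_cons, _root_.Nat.pred_eq_succ_iff, _root_.Nat.left_eq_add, _root_.OfNat.ofNat_ne_zero, _root_.List.not_mem_nil, _root_.or_false, _root_.false_or, _root_.true_or, _root_.or_true])]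

theorem poly14 (hs : 2 ≤ s) : s ^ 7 + 1 = (s + 1) * (s ^ 6 - s ^ 5 + (s ^ 4 - s ^ 3) + (s ^ 2 - s) + 1) := by
  obtain ⟨v, rfl⟩ : ∃ v, s = v + 1 := ⟨s - 1, by omega⟩
  have h0 : (v + 1) ^ 2 - (v + 1) = v * (v + 1) := by
    apply Nat.sub_eq_of_eq_add; ring
  have h1 : (v + 1) ^ 4 - (v + 1) ^ 3 = v * (v + 1) ^ 3 := by
    apply Nat.sub_eq_of_eq_add; ring
  have h2 : (v + 1) ^ 6 - (v + 1) ^ 5 = v * (v + 1) ^ 5 := by
    apply Nat.sub_eq_of_eq_add; ring
  rw [h0, h1, h2]
  ring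

theorem poly20 (hs : 2 ≤ s) : s ^ 10 + 1 = (s ^ 2 + 1) * (s ^ 8 - s ^ 6 + (s ^ 4 - s ^ 2) + 1) := by
  obtain ⟨v, rfl⟩ : ∃ v, s = v + 1 := ⟨s - 1, by omega⟩
  have h1 : (v + 1) ^ 4 - (v + 1) ^ 2 = v * (v + 2) * (v + 1) ^ 2 := by
    apply Nat.sub_eq_of_eq_add; ring
  have h2 : (v + 1) ^ 8 - (v + 1) ^ 6 = v * (v + 2) * (v + 1) ^ 6 := by
    apply Nat.sub_eq_of_eq_add; ring
  rw [h1, h2]
  ring

theorem poly15 (hs : 2 ≤ s) : (s ^ 5) ^ 2 + s ^ 5 + 1 =
    (s ^ 2 + s + 1) * (s ^ 8 - s ^ 7 + (s ^ 5 - s ^ 4) + (s ^ 3 - s) + 1) := by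
  obtain ⟨v, rfl⟩ : ∃ v, s = v + 1 := ⟨s - 1, by omega⟩
  have h1 : (v + 1) ^ 8 - (v + 1) ^ 7 = v * (v + 1) ^ 7 := by
    apply Nat.sub_eq_of_eq_add; ring
  have h2 : (v + 1) ^ 5 - (v + 1) ^ 4 = v * (v + 1) ^ 4 := by
    apply Nat.sub_eq_of_eq_add; ring
  have h3 : (v + 1) ^ 3 - (v + 1) = v * (v + 2) * (v + 1) := by
    apply Nat.sub_eq_of_eq_add; ring
  rw [h1, h2, h3]
  ring

theorem poly30 (hs : 2 ≤ s) : ∃ X, X + (s ^ 5 + s ^ 4 + s ^ 3) = s ^ 8 + s ^ 7 + s + 1 ∧
    (s ^ 5) ^ 2 - s ^ 5 + 1 = (s ^ 2 - s + 1) * X := by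
  have a1 := pow_mono2 hs 1
  rw [pow_one] at a1
  have a2 := pow_mono2 hs 2
  have a3 := pow_mono2 hs 3
  have a4 := pow_mono2 hs 4
  have a5 := pow_mono2 hs 5
  have a6 := pow_mono2 hs 6
  have a7 := pow_mono2 hs 7
  norm_num only [] at a1 a2 a3 a4 a5 a6 a7
  refine ⟨s ^ 8 + s ^ 7 + s + 1 - (s ^ 5 + s ^ 4 + s ^ 3), by omega, ?_⟩
  have b1 : s ≤ s ^ 2 := by omega
  have b2 : s ^ 5 ≤ (s ^ 5) ^ 2 := Nat.le_self_pow (by norm_num) _
  have b3 : s ^ 5 + s ^ 4 + s ^ 3 ≤ s ^ 8 + s ^ 7 + s + 1 := by omega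
  zify [b1, b2, b3]
  ring

theorem few_e8_aux (hs : 2 ≤ s) (he : den (.e8 s) * c = num (.e8 s)) (hf : s = p ^ f) :
    FewB (lsb (.e8 s) - 11) f c := by
  have hl2 : lsb (.e8 s) = (s - 1) * s ^ 7 := rfl
  rw [hl2]
  obtain ⟨hf0, hfs⟩ := fpos (by omega) hf
  have hc : c ∣ s ^ 120 * ((s ^ 2 - 1) * (s ^ 8 - 1) * (s ^ 12 - 1) * (s ^ 14 - 1) * (s ^ 18 - 1) *
      (s ^ 20 - 1) * (s ^ 24 - 1) * (s ^ 30 - 1)) := Dvd.intro_left _ he
  obtain ⟨B, hB⟩ : ∃ B, B = (s - 1) * s ^ 7 - 11 := ⟨_, rfl⟩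
  rw [← hB]
  have a1 := pow_mono2 hs 1
  rw [pow_one] at a1
  have a2 := pow_mono2 hs 2
  have a3 := pow_mono2 hs 3
  have a4 := pow_mono2 hs 4
  have a5 := pow_mono2 hs 5
  have a6 := pow_mono2 hs 6
  have a7 := pow_mono2 hs 7
  have a8 := pow_mono2 hs 8
  have a9 := pow_mono2 hs 9
  have a10 := pow_mono2 hs 10
  have a11 := pow_mono2 hs 11
  norm_num only [] at a1 a2 a3 a4 a5 a6 a7 a8 a9 a10 a11
  have hB1 : s ^ 6 + 32 ≤ B ∧ s ^ 6 + s ^ 5 ≤ B := by
    rw [hB]
    have : 1 * s ^ 7 ≤ (s - 1) * s ^ 7 := Nat.mul_le_mul_right _ (by omega)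
    (clear * - hf0 hfs a1 a2 a3 a4 a5 a6 this; solve | lia | omega)
  have hB2 : s ^ 12 ≤ B ^ 2 := by
    calc s ^ 12 = (s ^ 6) ^ 2 := by ring
      _ ≤ B ^ 2 := Nat.pow_le_pow_left (by omega) 2
  obtain ⟨X, hX, hX2⟩ := poly30 hs
  have p14 := poly14 hs
  have p15 := poly15 hs
  have p20 := poly20 hs
  obtain ⟨Y, hY⟩ : ∃ Y, Y = s ^ 6 - s ^ 5 + (s ^ 4 - s ^ 3) + (s ^ 2 - s) + 1 := ⟨_, rfl⟩
  obtain ⟨Z, hZ⟩ : ∃ Z, Z = s ^ 8 - s ^ 6 + (s ^ 4 - s ^ 2) + 1 := ⟨_, rfl⟩
  obtain ⟨W, hW⟩ : ∃ W, W = s ^ 8 - s ^ 7 + (s ^ 5 - s ^ 4) + (s ^ 3 - s) + 1 := ⟨_, rfl⟩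
  rw [← hY] at p14
  rw [← hZ] at p20
  rw [← hW] at p15
  refine few_of (L := [W, X, (s ^ 4) ^ 2 - s ^ 4 + 1, Z, s ^ 7 - 1])
    (S := [s, s ^ 2 - 1, s ^ 4 - 1, s ^ 4 + 1, s ^ 6 - 1, s ^ 6 + 1, s + 1, Y, s ^ 3 - 1, (s ^ 3) ^ 2 + s ^ 3 + 1,
      s ^ 3 + 1, (s ^ 3) ^ 2 - s ^ 3 + 1, s ^ 5 - 1, s ^ 5 + 1, s ^ 2 + 1, s ^ 2 + s + 1, s ^ 2 - s + 1])
    (by simp) ?_ (by omega) hf0 (by (clear * - hfs a1 a2 a3 a4 hB1; omega)) hc ?_ ?_
  · rw [show (s ^ 4) ^ 2 = s ^ 8 by ring]
    intro x hx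
    simp only [List.mem_cons, List.not_mem_nil, or_false] at hx
    rcases hx with rfl | rfl | rfl | rfl | rfl <;> (clear * - hs a1 a2 a7 a8 a9 a10 a11 hB2 hX hW a3 a4 a5 a6 hZ p14 p20 p15; omega)
  · rw [show (s ^ 3) ^ 2 = s ^ 6 by ring]
    intro x hx
    simp only [List.mem_cons, List.not_mem_nil, or_false] at hx
    rcases hx with rfl | rfl | rfl | rfl | rfl | rfl | rfl | rfl | rfl | rfl | rfl | rfl | rfl | rfl | rfl |
      rfl | rfl <;> (clear * - hs a1 a2 a3 a4 hB1 p14 p15 a5 hB hY hf; omega)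
  · clear a1 a2 a3 a4 a5 a6 a7 a8 a9 a10 a11 hB1 hB2 hB hX hY hZ hW
    intro t ht h
    rcases ht.dvd_mul.1 h with h1 | h1
    · exact inS (pow_pr ht h1) (by simp only [_root_.List.mem_cons, _root_.Nat.left_eq_add, _root_.one_ne_zero, _root_.List.not_mem_nil, _root_.or_false, _root_.false_or, _root_.true_or])
    rcases ht.dvd_mul.1 h1 with h1 | h30
    swap
    · rcases sp ht (k := 15) h30 with h5 | h5
      · rw [show s ^ 15 = (s ^ 5) ^ 3 by ring] at h5
        rcases c3 ht h5 with h6 | h6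
        · exact inS h6 (by simp only [_root_.List.mem_cons, _root_.Nat.pred_eq_succ_iff, _root_.Nat.left_eq_add, _root_.OfNat.ofNat_ne_zero, _root_.List.not_mem_nil, _root_.or_false, _root_.false_or, _root_.true_or, _root_.or_true])
        · rw [p15] at h6
          rcases ht.dvd_mul.1 h6 with h7 | h7
          · exact inS h7 (by simp only [_root_.List.mem_cons, _root_.Nat.add_right_cancel_iff, _root_.Nat.add_eq_right, _root_.Nat.pow_eq_zero, _root_.ne_eq, _root_.OfNat.ofNat_ne_zero, _root_.not_false_eq_true, _root_.and_true, _root_.Nat.add_eq_left, _root_.Nat.add_left_cancel_iff, _root_.List.not_mem_nil, _root_.or_false, _root_.true_or, _root_.or_true])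
          · exact inL h7 (by simp only [_root_.List.mem_cons, _root_.List.not_mem_nil, _root_.or_false, _root_.true_or])
      · rw [show s ^ 15 = (s ^ 5) ^ 3 by ring] at h5
        rcases c3' ht h5 with h6 | h6
        · exact inS h6 (by simp only [_root_.List.mem_cons, _root_.Nat.add_right_cancel_iff, _root_.Nat.add_left_cancel_iff, _root_.List.not_mem_nil, _root_.or_false, _root_.true_or, _root_.or_true])
        · rw [hX2] at h6
          rcases ht.dvd_mul.1 h6 with h7 | h7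
          · exact inS h7 (by simp only [_root_.List.mem_cons, _root_.Nat.add_right_cancel_iff, _root_.Nat.add_left_cancel_iff, _root_.List.not_mem_nil, _root_.or_false, _root_.or_true])
          · exact inL h7 (by simp only [_root_.List.mem_cons, _root_.List.not_mem_nil, _root_.or_false, _root_.true_or, _root_.or_true])
    rcases ht.dvd_mul.1 h1 with h1 | h24
    swap
    · rcases sp ht (k := 12) h24 with h5 | h5
      · rcases sp ht (k := 6) h5 with h6 | h6 <;> exact inS h6 (by simp only [_root_.List.mem_cons, _root_.Nat.pred_eq_succ_iff, _root_.Nat.left_eq_add, _root_.OfNat.ofNat_ne_zero, _root_.List.not_mem_nil, _root_.or_false, _root_.false_or, _root_.true_or, _root_.or_true, _root_.Nat.add_right_cancel_iff, _root_.Nat.add_left_cancel_iff])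
      · rw [show s ^ 12 = (s ^ 4) ^ 3 by ring] at h5
        rcases c3' ht h5 with h6 | h6
        · exact inS h6 (by simp only [_root_.List.mem_cons, _root_.Nat.add_left_cancel_iff, _root_.Nat.add_right_cancel_iff, _root_.List.not_mem_nil, _root_.or_false, _root_.true_or, _root_.or_true])
        · exact inL h6 (by simp only [_root_.List.mem_cons, _root_.Nat.add_left_cancel_iff, _root_.List.not_mem_nil, _root_.or_false, _root_.true_or, _root_.or_true])
    rcases ht.dvd_mul.1 h1 with h1 | h20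
    swap
    · rcases sp ht (k := 10) h20 with h5 | h5
      · rcases sp ht (k := 5) h5 with h6 | h6 <;> exact inS h6 (by simp only [_root_.List.mem_cons, _root_.Nat.pred_eq_succ_iff, _root_.Nat.left_eq_add, _root_.OfNat.ofNat_ne_zero, _root_.List.not_mem_nil, _root_.or_false, _root_.false_or, _root_.true_or, _root_.or_true, _root_.Nat.add_right_cancel_iff, _root_.Nat.add_left_cancel_iff])
      · rw [p20] at h5
        rcases ht.dvd_mul.1 h5 with h6 | h6
        · exact inS h6 (by simp only [_root_.List.mem_cons, _root_.Nat.add_right_cancel_iff, _root_.Nat.add_left_cancel_iff, _root_.Nat.left_eq_add, _root_.List.not_mem_nil, _root_.or_false, _root_.true_or, _root_.or_true])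
        · exact inL h6 (by simp only [_root_.List.mem_cons, _root_.List.not_mem_nil, _root_.or_false, _root_.true_or, _root_.or_true])
    rcases ht.dvd_mul.1 h1 with h1 | h18
    swap
    · rcases sp ht (k := 9) h18 with h5 | h5
      · rw [show s ^ 9 = (s ^ 3) ^ 3 by ring] at h5
        rcases c3 ht h5 with h6 | h6 <;> exact inS h6 (by simp only [_root_.List.mem_cons, _root_.Nat.pred_eq_succ_iff, _root_.Nat.left_eq_add, _root_.OfNat.ofNat_ne_zero, _root_.List.not_mem_nil, _root_.or_false, _root_.false_or, _root_.true_or, _root_.or_true, _root_.Nat.add_right_cancel_iff, _root_.Nat.add_left_cancel_iff, _root_.Nat.add_eq_right, _root_.Nat.pow_eq_zero, _root_.ne_eq, _root_.not_false_eq_true, _root_.and_true])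
      · rw [show s ^ 9 = (s ^ 3) ^ 3 by ring] at h5
        rcases c3' ht h5 with h6 | h6 <;> exact inS h6 (by simp only [_root_.List.mem_cons, _root_.Nat.add_right_cancel_iff, _root_.Nat.right_eq_add, _root_.Nat.pow_eq_zero, _root_.ne_eq, _root_.OfNat.ofNat_ne_zero, _root_.not_false_eq_true, _root_.and_true, _root_.Nat.add_left_cancel_iff, _root_.List.not_mem_nil, _root_.or_false, _root_.true_or, _root_.or_true])
    rcases ht.dvd_mul.1 h1 with h1 | h14
    swap
    · rcases sp ht (k := 7) h14 with h5 | h5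
      · exact inL h5 (by simp only [_root_.List.mem_cons, _root_.Nat.pred_eq_succ_iff, _root_.List.not_mem_nil, _root_.or_false, _root_.or_true])
      · rw [p14] at h5
        rcases ht.dvd_mul.1 h5 with h6 | h6 <;> exact inS h6 (by simp only [_root_.List.mem_cons, _root_.Nat.add_eq_left, _root_.one_ne_zero, _root_.Nat.add_right_cancel_iff, _root_.Nat.add_left_cancel_iff, _root_.Nat.right_eq_add, _root_.Nat.pow_eq_zero, _root_.ne_eq, _root_.OfNat.ofNat_ne_zero, _root_.not_false_eq_true, _root_.and_true, _root_.List.not_mem_nil, _root_.or_false, _root_.true_or, _root_.or_true])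
    rcases ht.dvd_mul.1 h1 with h1 | h12
    swap
    · rcases sp ht (k := 6) h12 with h5 | h5 <;> exact inS h5 (by simp only [_root_.List.mem_cons, _root_.Nat.pred_eq_succ_iff, _root_.Nat.left_eq_add, _root_.OfNat.ofNat_ne_zero, _root_.List.not_mem_nil, _root_.or_false, _root_.false_or, _root_.true_or, _root_.or_true, _root_.Nat.add_right_cancel_iff, _root_.Nat.add_left_cancel_iff])
    rcases ht.dvd_mul.1 h1 with h1 | h8
    swap
    · rcases sp ht (k := 4) h8 with h5 | h5 <;> exact inS h5 (by simp only [_root_.List.mem_cons, _root_.Nat.pred_eq_succ_iff, _root_.Nat.left_eq_add, _root_.OfNat.ofNat_ne_zero, _root_.List.not_mem_nil, _root_.or_false, _root_.false_or, _root_.true_or, _root_.or_true, _root_.Nat.add_left_cancel_iff, _root_.Nat.add_right_cancel_iff])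
    exact inS h1 (by simp only [_root_.List.mem_cons, _root_.Nat.pred_eq_succ_iff, _root_.Nat.left_eq_add, _root_.OfNat.ofNat_ne_zero, _root_.List.not_mem_nil, _root_.or_false, _root_.false_or, _root_.true_or, _root_.or_true])

end Cfsg.Agent.H264.FKS.FewExc

namespace Cfsg.Agent.H264.FKS

open Cfsg.Agent.OrdDiv Cfsg.Agent.H436 Cfsg.Agent.H278.El.CrossNum

variable {s p f c : ℕ}

theorem few_g2 (he : den (.g2 s) * c = num (.g2 s)) (hf : fld (.g2 s) = p ^ f)
    (h37 : 37 ≤ H927.SgX.lsb (.g2 s)) : Few (H927.SgX.lsb (.g2 s)) (6 * f * c) :=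
  FewExc.few_g2_aux he hf h37

theorem few_f4 (hg : Cond (.f4 s)) (he : den (.f4 s) * c = num (.f4 s)) (hf : fld (.f4 s) = p ^ f)
    (h37 : 37 ≤ H927.SgX.lsb (.f4 s)) : Few (H927.SgX.lsb (.f4 s)) (6 * f * c) :=
  FewExc.few_f4_aux (IsPrimePow.two_le hg) he hf h37

theorem few_td4 (he : den (.td4 s) * c = num (.td4 s)) (hf : fld (.td4 s) = p ^ f)
    (h37 : 37 ≤ H927.SgX.lsb (.td4 s)) : Few (H927.SgX.lsb (.td4 s)) (6 * f * c) :=
  FewExc.few_td4_aux he hf h37

theorem few_e6 (hg : Cond (.e6 s)) (he : den (.e6 s) * c = num (.e6 s)) (hf : fld (.e6 s) = p ^ f) :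
    Few (H927.SgX.lsb (.e6 s)) (6 * f * c) :=
  FewExc.few_e6_aux (IsPrimePow.two_le hg) he hf

theorem few_te6 (hg : Cond (.te6 s)) (he : den (.te6 s) * c = num (.te6 s)) (hf : fld (.te6 s) = p ^ f)
    (h37 : 37 ≤ H927.SgX.lsb (.te6 s)) : Few (H927.SgX.lsb (.te6 s)) (6 * f * c) :=
  FewExc.few_te6_aux (IsPrimePow.two_le hg) he hf h37

theorem few_e7 (hg : Cond (.e7 s)) (he : den (.e7 s) * c = num (.e7 s)) (hf : fld (.e7 s) = p ^ f) :
    Few (H927.SgX.lsb (.e7 s)) (6 * f * c) :=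
  FewExc.few_e7_aux (IsPrimePow.two_le hg) he hf

theorem few_e8 (hg : Cond (.e8 s)) (he : den (.e8 s) * c = num (.e8 s)) (hf : fld (.e8 s) = p ^ f) :
    Few (H927.SgX.lsb (.e8 s)) (6 * f * c) :=
  FewExc.few_e8_aux (IsPrimePow.two_le hg) he hf

/-- the exceptional names treated here -/
def IsExcN : Grp → Prop
  | .g2 _ => True
  | .f4 _ => True
  | .e6 _ => True
  | .e7 _ => True
  | .e8 _ => True
  | .te6 _ => True
  | .td4 _ => True
  | _ => False

/-- **all exceptional names (untwisted, `²E₆`, `³D₄`)** -/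
theorem few_exc {g : Grp} (hx : IsExcN g) (hg : Cond g) (he : den g * c = num g) (hf : fld g = p ^ f)
    (h37 : 37 ≤ H927.SgX.lsb g) : Few (H927.SgX.lsb g) (6 * f * c) := by
  cases g with
  | g2 s => exact few_g2 he hf h37
  | f4 s => exact few_f4 hg he hf h37
  | e6 s => exact few_e6 hg he hf
  | e7 s => exact few_e7 hg he hf
  | e8 s => exact few_e8 hg he hf
  | te6 s => exact few_te6 hg he hf h37
  | td4 s => exact few_td4 he hf h37
  | _ => exact hx.elim

end Cfsg.Agent.H264.FKS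
end

-- part: H983/ElCross/X2b
section
/-!
# TEAM ELUSIVE, EL-S-CROSS, piece X2b (helper983)

Large prime divisors of the orders of `L_n(u)`, `U_n(u)`, `n ≥ 3`: a prime `t ≥ lsb - 9` dividing the order is
`(u ^ n - 1) / (u - 1)` or `2 ^ (n - 1) - 1` (`u = 2`), resp. `(u ^ n + 1) / (u + 1)`.
-/

set_option autoImplicit false

namespace Cfsg.Agent.H983.X2b

open Cfsg.Agent.OrdDiv Cfsg.Agent.H436

variable {u n c t N : ℕ}

theorem exists_of_dvd_list {ι : Type*} (f : ι → ℕ) (l : List ι) (ht : t.Prime) (h : t ∣ (l.map f).prod) :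
    ∃ i ∈ l, t ∣ f i := by
  induction l with
  | nil =>
    rw [List.map_nil, List.prod_nil] at h
    exact absurd (Nat.dvd_one.1 h) ht.one_lt.ne'
  | cons a l ih =>
    rw [List.map_cons, List.prod_cons] at h
    rcases ht.dvd_mul.1 h with h | h
    · exact ⟨a, List.mem_cons_self, h⟩
    · obtain ⟨i, hi, hd⟩ := ih h
      exact ⟨i, List.mem_cons_of_mem _ hi, hd⟩

theorem psl_prime (ht : t.Prime) (h : den (.psl n u) * c = num (.psl n u)) (hd : t ∣ c) :
    t ∣ u ∨ ∃ i, 1 ≤ i ∧ i ≤ n ∧ t ∣ u ^ i - 1 := by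
  have h1 : t ∣ glN n u := by
    change t ∣ num (.psl n u)
    rw [← h]
    exact hd.mul_left _
  obtain ⟨i, hi, h2⟩ := exists_of_dvd_list _ _ ht h1
  rw [List.mem_range] at hi
  have h3 : u ^ n - u ^ i = u ^ i * (u ^ (n - i) - 1) := by
    rw [Nat.mul_sub, ← pow_add, mul_one, Nat.add_sub_cancel' hi.le]
  rw [h3] at h2
  rcases ht.dvd_mul.1 h2 with h4 | h4
  · exact Or.inl (ht.dvd_of_dvd_pow h4)
  · exact Or.inr ⟨n - i, by omega, by omega, h4⟩

theorem psu_prime (ht : t.Prime) (h : den (.psu n u) * c = num (.psu n u)) (hd : t ∣ c) :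
    t ∣ u ∨ ∃ i, 1 ≤ i ∧ i ≤ n ∧ ((i % 2 = 1 ∧ t ∣ u ^ i + 1) ∨ (i % 2 = 0 ∧ t ∣ u ^ i - 1)) := by
  have h1 : t ∣ u ^ (n * (n - 1) / 2) * prU u n := by
    change t ∣ num (.psu n u)
    rw [← h]
    exact hd.mul_left _
  rcases ht.dvd_mul.1 h1 with h4 | h4
  · exact Or.inl (ht.dvd_of_dvd_pow h4)
  · obtain ⟨i, hi, h2⟩ := exists_of_dvd_list _ _ ht h4
    rw [List.mem_range] at hi
    refine Or.inr ⟨i + 1, by omega, by omega, ?_⟩
    by_cases hi2 : i % 2 = 0
    · rw [if_pos (by rw [Nat.beq_eq]; exact hi2)] at h2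
      exact Or.inl ⟨by omega, h2⟩
    · rw [if_neg (by rw [Nat.beq_eq]; exact hi2)] at h2
      exact Or.inr ⟨by omega, h2⟩

end Cfsg.Agent.H983.X2b
end

-- part: H983/ElCross/FewL
section
/-!
# TEAM ELUSIVE, EL-S-CROSS: `Few` for `L_m(u)`, `m ≥ 3`, and `U_m(u)` (helper983)
-/

set_option autoImplicit false

namespace Cfsg.Agent.H983.X2b

open Cfsg.Agent.OrdDiv Cfsg.Agent.H436 Cfsg.Agent.H927.SgX Cfsg.Agent.H264.FKS

variable {u m c f p : ℕ}

/-- `f < p ^ f` -/
theorem exp_lt_fld (hu : u = p ^ f) (h2 : 2 ≤ u) : f < u := by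
  have hp : 1 < p := by
    rcases (show p = 0 ∨ p = 1 ∨ 1 < p by omega) with rfl | rfl | h
    · rcases Nat.eq_zero_or_pos f with rfl | hf
      · rw [pow_zero] at hu; omega
      · rw [zero_pow (by omega)] at hu; omega
    · rw [one_pow] at hu; omega
    · exact h
  rw [hu]
  exact Nat.lt_pow_self hp

theorem not_dvd_six {t : ℕ} (ht : t.Prime) (h : 4 ≤ t) : ¬ t ∣ 6 := by
  intro h1
  rw [show 6 = 2 * 3 by norm_num, ht.dvd_mul] at h1
  rcases h1 with h1 | h1
  · have := Nat.le_of_dvd (by norm_num) h1; omega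
  · have := Nat.le_of_dvd (by norm_num) h1; omega

theorem few_psl_aux (hm : 3 ≤ m) (hu2 : 2 ≤ u) (hf : u = p ^ f) (he : den (.psl m u) * c = num (.psl m u))
    (hl : 37 ≤ u ^ (m - 1) - 1) :
    (0 < u ^ m - 1 ∧ u ^ m - 1 < (u ^ (m - 1) - 1 - 11) ^ 2) ∧
    (0 < u ^ (m - 1) - 1 ∧ u ^ (m - 1) - 1 < (u ^ (m - 1) - 1 - 11) ^ 2) ∧
    ∀ t : ℕ, t.Prime → u ^ (m - 1) - 1 - 11 ≤ t → t ∣ 6 * f * c → t ∣ u ^ m - 1 ∨ t ∣ u ^ (m - 1) - 1 := by
  obtain ⟨k, rfl⟩ : ∃ k, m = k + 3 := ⟨m - 3, by omega⟩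
  rw [show k + 3 - 1 = k + 2 by omega] at hl ⊢
  obtain ⟨X, hX⟩ : ∃ X, X = u ^ (k + 2) := ⟨_, rfl⟩
  have h3 : u ^ (k + 3) = X * u := by rw [hX]; exact pow_succ _ _
  rw [← hX] at hl
  rw [h3, ← hX]
  obtain ⟨Y, hY⟩ : ∃ Y, Y = u ^ (k + 1) := ⟨_, rfl⟩
  have hXu : X = Y * u := by rw [hX, hY, pow_succ]
  have hY1 : u ≤ Y := by rw [hY]; exact Nat.le_self_pow (by omega) u
  have hYX : 2 * Y ≤ X := by rw [hXu]; nlinarith only [hu2]
  have hu2X : u * u ≤ X := by rw [hXu]; exact Nat.mul_le_mul_right _ hY1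
  obtain ⟨Z, hZ⟩ : ∃ Z, X = Z + 12 := ⟨X - 12, by omega⟩
  have hXu2 : X ≤ X * u := Nat.le_mul_of_pos_right _ (by omega)
  have hlt : X * u - 1 < (X - 1 - 11) ^ 2 := by
    have h4 : 2 * u ≤ Z := by
      by_contra h5
      have h6 : 14 * u ≤ u * u := Nat.mul_le_mul_right _ (by omega)
      omega
    have h5 : X - 1 - 11 = Z := by omega
    have h6 : X * u ≤ Z ^ 2 := by
      rw [hZ]
      have h7 : (Z + 12) * (2 * u) ≤ (Z + 12) * Z := Nat.mul_le_mul_left _ h4
      have h8 : 12 * Z ≤ Z * Z := Nat.mul_le_mul_right _ (by omega)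
      linarith only [h7, h8]
    rw [h5]
    omega
  refine ⟨⟨by omega, hlt⟩, ⟨by omega, by omega⟩, fun t ht htX hd => ?_⟩
  have hsmall : ¬ t ≤ Y := by (clear * - hl hYX htX; omega)
  have hfu := exp_lt_fld hf hu2
  have hdc : t ∣ c := by
    rw [mul_assoc, ht.dvd_mul, ht.dvd_mul] at hd
    rcases hd with h4 | h4 | h4
    · exact absurd h4 (not_dvd_six ht (by (clear * - hl htX; omega)))
    · exfalso
      rcases Nat.eq_zero_or_pos f with rfl | hf0
      · rw [pow_zero] at hf; omega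
      · have := Nat.le_of_dvd hf0 h4
        omega
    · exact h4
  rcases psl_prime ht he hdc with h1 | ⟨i, hi1, hi2, h1⟩
  · have := Nat.le_of_dvd (by omega) h1
    omega
  · rcases Nat.lt_or_ge i (k + 2) with hi | hi
    · exfalso
      apply hsmall
      have h2 : u ^ i ≤ Y := by rw [hY]; exact Nat.pow_le_pow_right (by omega) (by omega)
      have h3 : 1 < u ^ i := Nat.one_lt_pow (by omega) (by omega)
      have := Nat.le_of_dvd (by omega) h1
      omega
    · rcases hi.eq_or_lt with rfl | hi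
      · right
        rw [hX]; exact h1
      · left
        have hi3 : i = k + 3 := by omega
        subst hi3
        rw [← h3]; exact h1

/-- `u ^ i - (-1) ^ i` -/
def um (u i : ℕ) : ℕ := if i % 2 = 1 then u ^ i + 1 else u ^ i - 1

theorem um_pos (hu : 2 ≤ u) {i : ℕ} (hi : 1 ≤ i) : 0 < um u i := by
  unfold um
  have : 1 < u ^ i := Nat.one_lt_pow (by omega) (by omega)
  split_ifs <;> omega

theorem um_le (u i : ℕ) : um u i ≤ u ^ i + 1 := by
  unfold um
  split_ifs <;> omega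

theorem few_psu_aux (hm : 3 ≤ m) (hu2 : 2 ≤ u) (hf : u = p ^ f) (he : den (.psu m u) * c = num (.psu m u))
    (hl : 37 ≤ (u - 1) * u ^ (m - 2)) :
    (∀ i, 1 ≤ i → i ≤ m → um u i < ((u - 1) * u ^ (m - 2) - 11) ^ 2) ∧
    ∀ t : ℕ, t.Prime → (u - 1) * u ^ (m - 2) - 11 ≤ t → t ∣ 6 * f * c →
      t ∣ um u m ∨ t ∣ um u (m - 1) ∨ t ∣ um u (m - 2) := by
  obtain ⟨k, rfl⟩ : ∃ k, m = k + 3 := ⟨m - 3, by omega⟩
  obtain ⟨v, rfl⟩ : ∃ v, u = v + 1 := ⟨u - 1, by omega⟩
  rw [Nat.add_sub_cancel, show k + 3 - 2 = k + 1 by omega] at hl ⊢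
  rw [show k + 3 - 1 = k + 2 by omega]
  obtain ⟨Y, hY⟩ : ∃ Y, Y = (v + 1) ^ (k + 1) := ⟨_, rfl⟩
  rw [← hY] at hl ⊢
  obtain ⟨L, hL⟩ : ∃ L, L = v * Y := ⟨_, rfl⟩
  rw [← hL] at hl ⊢
  have hYv : v + 1 ≤ Y := by rw [hY]; exact Nat.le_self_pow (by omega) _
  have h3 : (v + 1) ^ (k + 3) = (v + 1) ^ 2 * Y := by rw [hY, ← pow_add]; congr 1; omega
  have hlt : (v + 1) ^ 2 * Y + 1 < (L - 11) ^ 2 := by
    obtain ⟨Z, hZ⟩ : ∃ Z, L = Z + 11 := ⟨L - 11, by omega⟩
    rw [hZ, Nat.add_sub_cancel]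
    have hZ26 : 26 ≤ Z := by omega
    -- `L ≤ 37 / 26 Z`
    have h4 : 26 * L ≤ 37 * Z := by omega
    rcases (show v = 1 ∨ v = 2 ∨ 3 ≤ v by omega) with rfl | rfl | hv
    · rw [one_mul] at hL
      norm_num
      nlinarith only [hl, hZ, hL]
    · norm_num
      nlinarith only [hl, hZ, hL]
    · -- `(v + 1) ^ 2 ≤ 2 v ^ 2`
      have h5 : (v + 1) ^ 2 ≤ 2 * (v * v) := by nlinarith only [hv]
      have h6 : (v + 1) ^ 2 * Y ≤ 2 * (v * v) * Y := Nat.mul_le_mul_right _ h5
      have h7 : 2 * (v * v) * Y = 2 * v * L := by rw [hL]; ring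
      -- `v ≤ L / Y`, `Y ≥ v + 1`
      have h8 : v * (v + 1) ≤ L := by rw [hL]; exact Nat.mul_le_mul_left _ hYv
      have h9 : 4 * v ≤ Z := by
        by_contra h9
        nlinarith only [hl, hYv, hZ, h7, h9]
      nlinarith only [hl, hZ, hv, h7, h8]
  refine ⟨fun i hi1 hi => ?_, fun t ht htL hd => ?_⟩
  · have h4 : (v + 1) ^ i ≤ (v + 1) ^ (k + 3) := Nat.pow_le_pow_right (by omega) hi
    have := um_le (v + 1) i
    omega
  · have hfu := exp_lt_fld hf hu2
    have hsm : v + 2 < t := by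
      rcases (show v = 1 ∨ 2 ≤ v by omega) with rfl | hv
      · omega
      · have : 2 * Y ≤ v * Y := Nat.mul_le_mul_right _ hv
        omega
    have hdc : t ∣ c := by
      rw [mul_assoc, ht.dvd_mul, ht.dvd_mul] at hd
      rcases hd with h4 | h4 | h4
      · exact absurd h4 (not_dvd_six ht (by omega))
      · exfalso
        rcases Nat.eq_zero_or_pos f with rfl | hf0
        · rw [pow_zero] at hf; omega
        · have := Nat.le_of_dvd hf0 h4
          omega
      · exact h4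
    rcases psu_prime ht he hdc with h1 | ⟨i, hi1, hi2, h1⟩
    · have := Nat.le_of_dvd (by omega) h1
      omega
    · have h2 : t ∣ um (v + 1) i := by
        unfold um
        rcases h1 with ⟨hi, h1⟩ | ⟨hi, h1⟩
        · rwa [if_pos hi]
        · rwa [if_neg (by omega)]
      rcases (show i = k + 3 ∨ i = k + 2 ∨ i = k + 1 ∨ i ≤ k by omega) with rfl | rfl | rfl | hi
      · exact Or.inl h2
      · exact Or.inr (Or.inl h2)
      · exact Or.inr (Or.inr h2)
      · exfalso
        have h4 := Nat.le_of_dvd (um_pos hu2 hi1) h2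
        have h5 := um_le (v + 1) i
        have h6 : (v + 1) ^ i ≤ (v + 1) ^ k := Nat.pow_le_pow_right (by omega) hi
        have h7 : Y = (v + 1) ^ k * (v + 1) := by rw [hY, pow_succ]
        rcases (show v = 1 ∨ 2 ≤ v by omega) with rfl | hv
        · (clear * - hl htL hY hL h4 h5 h6; omega)
        · have h8 : 2 * Y ≤ v * Y := Nat.mul_le_mul_right _ hv
          have h9 : (v + 1) ^ k ≤ Y := by rw [h7]; exact Nat.le_mul_of_pos_right _ (by omega)
          (clear * - hl hL htL h4 h5 h6 h8 h9; omega)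

open Cfsg.Agent.H278.El.CrossNum (Few)

/-- **`L_m(u)`, `m ≥ 3`.** -/
theorem few_psl (hm : 3 ≤ m) (hg : Cond (.psl m u)) (he : den (.psl m u) * c = num (.psl m u)) (_hp : p.Prime)
    (hf : fld (.psl m u) = p ^ f) (h37 : 37 ≤ lsb (.psl m u)) : Few (lsb (.psl m u)) (6 * f * c) := by
  have hl : lsb (.psl m u) = u ^ (m - 1) - 1 := by
    change (if m = 2 then (u - 1) / 2 else u ^ (m - 1) - 1) = _
    rw [if_neg (by omega)]
  rw [hl] at h37 ⊢
  obtain ⟨h1, h2, h3⟩ := few_psl_aux hm hg.2.2.two_le hf he h37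
  refine ⟨[u ^ m - 1, u ^ (m - 1) - 1], by simp only [_root_.List.length_cons, _root_.List.length_nil, _root_.zero_add, _root_.Nat.reduceAdd, _root_.Nat.reduceLeDiff], ?_, fun t ht htL hd => ?_⟩
  · intro x hx
    simp only [List.mem_cons, List.not_mem_nil, or_false] at hx
    rcases hx with rfl | rfl
    · exact h1
    · exact h2
  · rcases h3 t ht htL hd with h4 | h4
    · exact ⟨_, by simp only [_root_.List.mem_cons, _root_.List.not_mem_nil, _root_.or_false, _root_.true_or], h4⟩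
    · exact ⟨_, by simp only [_root_.List.mem_cons, _root_.List.not_mem_nil, _root_.or_false, _root_.or_true], h4⟩

/-- **`U_m(u)`.** -/
theorem few_psu (hg : Cond (.psu m u)) (he : den (.psu m u) * c = num (.psu m u)) (_hp : p.Prime)
    (hf : fld (.psu m u) = p ^ f) (h37 : 37 ≤ lsb (.psu m u)) : Few (lsb (.psu m u)) (6 * f * c) := by
  have hl : lsb (.psu m u) = (u - 1) * u ^ (m - 2) := rfl
  rw [hl] at h37 ⊢
  have hm : 3 ≤ m := hg.1
  have hu2 : 2 ≤ u := hg.2.2.two_le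
  obtain ⟨h1, h3⟩ := few_psu_aux hm hu2 hf he h37
  refine ⟨[um u m, um u (m - 1), um u (m - 2)], by simp, ?_, fun t ht htL hd => ?_⟩
  · intro x hx
    simp only [List.mem_cons, List.not_mem_nil, or_false] at hx
    rcases hx with rfl | rfl | rfl
    · exact ⟨um_pos hu2 (by omega), h1 _ (by omega) (by omega)⟩
    · exact ⟨um_pos hu2 (by omega), h1 _ (by omega) (by omega)⟩
    · exact ⟨um_pos hu2 (by omega), h1 _ (by omega) (by omega)⟩
  · rcases h3 t ht htL hd with h4 | h4 | h4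
    · exact ⟨_, by simp, h4⟩
    · exact ⟨_, by simp, h4⟩
    · exact ⟨_, by simp, h4⟩

end Cfsg.Agent.H983.X2b
end

-- part: H262/ElFewAll
section
/-!
# TEAM ELUSIVE: cross characteristic socles, few large primes: all families
-/

set_option autoImplicit false

namespace Cfsg.Agent.H262.Few

open Cfsg.Agent.OrdDiv Cfsg.Agent.H436 Cfsg.Agent.H927.SgX Cfsg.Agent.H278.El.CrossNum Cfsg.Agent.H264.FKS

/-- **(B) for all names of Lie type.** -/
theorem few {g : Grp} {p f c : ℕ} (hg : Cond g) (hlie : IsLieN g) (he : den g * c = num g) (hp : p.Prime)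
    (hf : fld g = p ^ f) (h37 : 37 ≤ lsb g) : Few (lsb g) (6 * f * c) := by
  cases g with
  | psl m u =>
    by_cases hm : m = 2
    · subst hm
      exact few_psl2 hp hf hg he h37
    · exact Cfsg.Agent.H983.X2b.few_psl (by have := hg.1; omega) hg he hp hf h37
  | psu m u => exact Cfsg.Agent.H983.X2b.few_psu hg he hp hf h37
  | psp m u => exact few_psp hp hf hg he h37
  | oodd m u => exact few_oodd hp hf hg he h37
  | oplus m u => exact few_oplus hp hf hg he h37
  | ominus m u => exact few_ominus hp hf hg he h37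
  | g2 u => exact few_exc (g := .g2 u) trivial hg he hf h37
  | f4 u => exact few_exc (g := .f4 u) trivial hg he hf h37
  | e6 u => exact few_exc (g := .e6 u) trivial hg he hf h37
  | e7 u => exact few_exc (g := .e7 u) trivial hg he hf h37
  | e8 u => exact few_exc (g := .e8 u) trivial hg he hf h37
  | te6 u => exact few_exc (g := .te6 u) trivial hg he hf h37
  | td4 u => exact few_exc (g := .td4 u) trivial hg he hf h37
  | sz u => exact few_sz hp hf hg he h37
  | ree u => exact few_ree hp hf hg he h37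
  | tf4 u => exact few_tf4 hp hf hg he h37
  | _ => exact hlie.elim

end Cfsg.Agent.H262.Few
end
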